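import Cfsg.Agent.Lib.Blk83.PairCount
import Cfsg.Agent.Lib.Char.Complete
import Cfsg.Agent.Lib.Char.Linear
import Cfsg.Agent.Lib.Char.Twist
import Mathlib.RingTheory.RootsOfUnity.AlgebraicallyClosed
import Mathlib.GroupTheory.FiniteAbelian.Duality
import Mathlib.GroupTheory.NoncommCoprod
import Cfsg.Agent.Lib.Char.Virtual

/-!
Integrality of Fourier sums of a character over cosets `aT`, and counting by columns.
-/

set_option autoImplicit false
set_option linter.unusedSectionVars false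
set_option linter.style.haveILetI false

open scoped ComplexConjugate
open Cfsg

namespace CfsgLib.Goldschmidt

variable {G : Type*} [Group G] [Finite G]

theorem conj_hom_units {T : Type*} [Group T] [Finite T] (α : T →* ℂˣ) (k : T) :
    conj ((α k : ℂ)) = ((α k⁻¹ : ℂˣ) : ℂ) := by
  rw [map_inv, Units.val_inv_eq_inv_val]
  refine (Complex.inv_eq_conj (Complex.norm_eq_one_of_pow_eq_one (n := orderOf k) ?_
    (orderOf_pos k).ne')).symm
  rw [← Units.val_pow_eq_pow_val, ← map_pow, pow_orderOf_eq_one, map_one, Units.val_one]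

theorem int_units_cases (u : ℤˣ) : u = 1 ∨ u = -1 := Int.units_eq_one_or u

/-- Fourier sums over `T` and over `aT` are integers with the same parity. -/
theorem exists_int_pair {a : G} (ha : a * a = 1) (T : Subgroup G) [Fintype T]
    (hTa : ∀ k ∈ T, a * k = k * a) (α : T →* ℂˣ) (χ : IrrCharacter G) :
    ∃ m n : ℕ, ∑ k : T, (χ : G → ℂ) k * ((α k⁻¹ : ℂˣ) : ℂ) = (Nat.card T : ℂ) * (m + n) ∧
      ∑ k : T, (χ : G → ℂ) (a * k) * ((α k⁻¹ : ℂˣ) : ℂ) = (Nat.card T : ℂ) * ((m : ℂ) - n) := by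
  classical
  let g : ℤˣ →* G := MonoidHom.mk' (fun u => if u = 1 then 1 else a) fun u v => by
    rcases int_units_cases u with rfl | rfl <;> rcases int_units_cases v with rfl | rfl <;>
      simp [ha]
  have hg1 : g 1 = 1 := map_one g
  have hgm : g (-1) = a := show (if (-1 : ℤˣ) = 1 then 1 else a) = a from if_neg (by decide)
  have hcomm : ∀ (u : ℤˣ) (k : T), Commute (g u) (T.subtype k) := fun u k => by
    rcases int_units_cases u with rfl | rfl
    · rw [hg1]; exact Commute.one_left _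
    · rw [hgm]; exact hTa k k.2
  let ι : ℤˣ × T →* G := MonoidHom.noncommCoprod g T.subtype hcomm
  let sgn : ℤˣ →* ℂˣ := Units.map (Int.castRingHom ℂ).toMonoidHom
  let lin : (ℤˣ →* ℂˣ) → (ℤˣ × T →* ℂˣ) := fun ε =>
    (ε.comp (MonoidHom.fst ℤˣ T)) * (α.comp (MonoidHom.snd ℤˣ T))
  have hc : IsCharacter (ℤˣ × T) ((χ : G → ℂ) ∘ ι) :=
    CfsgLib.Char.IsCharacter.comp (CfsgLib.Char.IsIrrCharacter.isCharacter χ.2) ι
  obtain ⟨m, hm⟩ := CfsgLib.Char.IsCharacter.exists_nat_classInner hc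
    (CfsgLib.Char.isIrrCharacter_linear (lin 1))
  obtain ⟨n, hn⟩ := CfsgLib.Char.IsCharacter.exists_nat_classInner hc
    (CfsgLib.Char.isIrrCharacter_linear (lin sgn))
  have hcard : (Nat.card (ℤˣ × T) : ℂ) = 2 * Nat.card T := by
    rw [Nat.card_prod, Nat.card_eq_fintype_card (α := ℤˣ), Fintype.card_units_int]
    push_cast
    rfl
  have hsum : ∀ ε : ℤˣ →* ℂˣ, ((ε (-1) : ℂˣ) : ℂ) = 1 ∨ ((ε (-1) : ℂˣ) : ℂ) = -1 →
      (2 * (Nat.card T : ℂ)) * classInner ((χ : G → ℂ) ∘ ι) (fun x => ((lin ε x : ℂˣ) : ℂ)) =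
        (∑ k : T, (χ : G → ℂ) k * ((α k⁻¹ : ℂˣ) : ℂ)) +
          ((ε (-1) : ℂˣ) : ℂ) * ∑ k : T, (χ : G → ℂ) (a * k) * ((α k⁻¹ : ℂˣ) : ℂ) := by
    intro ε hε
    rw [classInner, hcard, ← mul_assoc, mul_inv_cancel₀
      (mul_ne_zero two_ne_zero (Nat.cast_ne_zero.2 Nat.card_pos.ne')), one_mul,
      Fintype.sum_prod_type, UnitsInt.univ, Finset.sum_insert (by decide), Finset.sum_singleton,
      Finset.mul_sum]
    congr 1
    · refine Finset.sum_congr rfl fun k _ => ?_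
      simp [lin, ι, conj_hom_units α k]
    · refine Finset.sum_congr rfl fun k _ => ?_
      have e : ι (-1, k) = a * k := by simp [ι, hgm]
      rw [Function.comp_apply, e]
      simp only [lin, MonoidHom.mul_apply, MonoidHom.comp_apply, MonoidHom.coe_fst,
        MonoidHom.coe_snd, Units.val_mul, map_mul, conj_hom_units α k]
      rcases hε with h | h <;> simp [h] <;> ring
  have h1 := hsum 1 (Or.inl (by simp))
  have h2 := hsum sgn (Or.inr (by simp [sgn]))
  rw [hm] at h1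
  rw [hn] at h2
  simp only [MonoidHom.one_apply, Units.val_one, one_mul] at h1
  rw [show ((sgn (-1) : ℂˣ) : ℂ) = -1 by simp [sgn]] at h2
  exact ⟨m, n, by linear_combination (-1 / 2 : ℂ) * h1 + (-1 / 2 : ℂ) * h2,
    by linear_combination (-1 / 2 : ℂ) * h1 + (1 / 2 : ℂ) * h2⟩

theorem exists_int_involution {a : G} (ha : a * a = 1) (χ : IrrCharacter G) :
    ∃ z : ℤ, (χ : G → ℂ) a = z := by
  haveI : Fintype (⊥ : Subgroup G) := Fintype.ofFinite _
  obtain ⟨m, n, -, h⟩ := exists_int_pair ha ⊥ (fun k hk => by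
    rw [Subgroup.mem_bot.1 hk, mul_one, one_mul]) 1 χ
  refine ⟨(m : ℤ) - n, ?_⟩
  simpa [Subgroup.card_bot, Fintype.sum_unique,
    show ((default : (⊥ : Subgroup G)) : G) = 1 from Subgroup.mem_bot.1 (default : (⊥ : Subgroup G)).2]
    using h

/-- The balanced sum over an abelian subgroup centralizing an involution. -/
theorem exists_int_balanced {t : G} (ht : t * t = 1) (P : Subgroup G) [IsMulCommutative P]
    (hPt : ∀ k ∈ P, t * k = k * t) (hP : P ≠ ⊥) (χ : IrrCharacter G) (S : ℂ)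
    (hS : ∀ u ∈ P, u ≠ 1 → (χ : G → ℂ) (t * u) + (χ : G → ℂ) (t * u⁻¹) = S) :
    ∃ z : ℤ, (Nat.card P : ℂ) * z = 2 * (χ : G → ℂ) t - S := by
  classical
  haveI : Fintype P := Fintype.ofFinite _
  obtain ⟨⟨u0, hu0⟩, hu01⟩ : ∃ u : P, u ≠ 1 := Subgroup.ne_bot_iff_exists_ne_one.1 hP
  letI : CommGroup P := { (inferInstance : Group P) with mul_comm := fun a b => IsMulCommutative.is_comm.comm a b }
  haveI : NeZero (Monoid.exponent P) := ⟨Monoid.exponent_ne_zero_of_finite⟩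
  obtain ⟨lam, hlam⟩ := CommGroup.exists_apply_ne_one_of_hasEnoughRootsOfUnity P ℂ hu01
  obtain ⟨m, n, -, h1⟩ := exists_int_pair ht P hPt lam χ
  obtain ⟨m', n', -, h2⟩ := exists_int_pair ht P hPt lam⁻¹ χ
  refine ⟨((m : ℤ) - n) + ((m' : ℤ) - n'), ?_⟩
  have hne : (Units.coeHom ℂ).comp lam ≠ 1 := fun e => hlam (Units.ext (by
    simpa using DFunLike.congr_fun e ⟨u0, hu0⟩))
  have hz : ∑ u : P, ((lam u : ℂˣ) : ℂ) = 0 := sum_hom_units_eq_zero _ hne
  have hsplit : ∀ f : P → ℂ, ∑ u : P, f u = f 1 + ∑ u ∈ Finset.univ.erase 1, f u := fun f =>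
    (Finset.add_sum_erase _ _ (Finset.mem_univ 1)).symm
  have key : ∑ u : P, (χ : G → ℂ) (t * u) * ((lam u⁻¹ : ℂˣ) : ℂ) +
      ∑ u : P, (χ : G → ℂ) (t * u) * ((lam⁻¹ u⁻¹ : ℂˣ) : ℂ) = 2 * (χ : G → ℂ) t - S := by
    have e : ∑ u : P, (χ : G → ℂ) (t * u) * ((lam⁻¹ u⁻¹ : ℂˣ) : ℂ) =
        ∑ u : P, (χ : G → ℂ) (t * (u⁻¹ : P)) * ((lam u⁻¹ : ℂˣ) : ℂ) :=
      Fintype.sum_equiv (Equiv.inv P) _ _ fun u => by simp
    rw [e, ← Finset.sum_add_distrib, hsplit]
    have e2 : ∀ u ∈ (Finset.univ.erase (1 : P)),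
        (χ : G → ℂ) (t * u) * ((lam u⁻¹ : ℂˣ) : ℂ) + (χ : G → ℂ) (t * (u⁻¹ : P)) * ((lam u⁻¹ : ℂˣ) : ℂ) =
          S * ((lam u⁻¹ : ℂˣ) : ℂ) := fun u hu => by
      rw [← add_mul]
      congr 1
      exact hS u u.2 fun h => (Finset.mem_erase.1 hu).1 (Subtype.ext h)
    rw [Finset.sum_congr rfl e2, ← Finset.mul_sum]
    have hz' : ∑ u : P, ((lam u⁻¹ : ℂˣ) : ℂ) = 0 := by
      rw [← hz]
      exact Fintype.sum_equiv (Equiv.inv P) _ _ fun u => by simp
    rw [hsplit] at hz'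
    simp only [inv_one, map_one, Units.val_one, mul_one, OneMemClass.coe_one] at hz' ⊢
    linear_combination S * hz'
  rw [← key, h1, h2]
  push_cast
  ring

/-- Column counting for products of two conjugates of an involution. -/
theorem sum_sq_mul_div {t : G} (ht : t * t = 1) (w : G) :
    ∑ χ : IrrCharacter G, (χ : G → ℂ) t ^ 2 * (χ : G → ℂ) w / (χ : G → ℂ) 1 =
      (Nat.card (Subgroup.centralizer ({t} : Set G)) : ℂ) ^ 2 *
        Nat.card {s : G // IsConj t s ∧ IsConj t (s * w)} / Nat.card G := by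
  classical
  haveI := Fintype.ofFinite G
  have hconj : ∀ χ : IrrCharacter G, conj ((χ : G → ℂ) t) = (χ : G → ℂ) t := fun χ => by
    rw [← CfsgLib.Char.IsIrrCharacter.apply_inv χ.2, inv_eq_of_mul_eq_one_right ht]
  have h := CfsgLib.Blk83.sum_conj_mul_div t w
  simp only [hconj, ← sq] at h
  have hcount : (Finset.univ.filter fun a : G => IsConj t (a * t * a⁻¹ * w)).card =
      Nat.card (Subgroup.centralizer ({t} : Set G)) *
        Nat.card {s : G // IsConj t s ∧ IsConj t (s * w)} := by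
    have hmap : ∀ a ∈ (Finset.univ.filter fun a : G => IsConj t (a * t * a⁻¹ * w)),
        a * t * a⁻¹ ∈ Finset.univ.filter fun s : G => IsConj t s ∧ IsConj t (s * w) := fun a ha =>
      Finset.mem_filter.2 ⟨Finset.mem_univ _, isConj_iff.2 ⟨a, rfl⟩, (Finset.mem_filter.1 ha).2⟩
    rw [Finset.card_eq_sum_card_fiberwise hmap, Nat.card_eq_fintype_card
      (α := {s : G // IsConj t s ∧ IsConj t (s * w)}), Fintype.card_subtype, mul_comm,
      ← smul_eq_mul, ← Finset.sum_const]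
    refine Finset.sum_congr rfl fun s hs => ?_
    obtain ⟨-, hts, hsw⟩ := Finset.mem_filter.1 hs
    obtain ⟨c, hc⟩ := isConj_iff.1 hts
    rw [Nat.card_eq_fintype_card, Fintype.card_subtype]
    refine Finset.card_bij' (fun a _ => c⁻¹ * a) (fun b _ => c * b) ?_ ?_ (fun a _ => by group)
      (fun b _ => by group)
    · intro a ha
      simp only [Finset.mem_filter, Finset.mem_univ, true_and] at ha ⊢
      rw [Subgroup.mem_centralizer_singleton_iff, ← mul_inv_eq_iff_eq_mul]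
      calc c⁻¹ * a * t * (c⁻¹ * a)⁻¹ = c⁻¹ * (a * t * a⁻¹) * c := by group
        _ = t := by rw [ha.2, ← hc]; group
    · intro b hb
      simp only [Finset.mem_filter, Finset.mem_univ, true_and] at hb ⊢
      rw [Subgroup.mem_centralizer_singleton_iff] at hb
      have e : c * b * t * (c * b)⁻¹ = s := by
        calc c * b * t * (c * b)⁻¹ = c * (b * t * b⁻¹) * c⁻¹ := by group
          _ = s := by rw [hb, mul_inv_cancel_right, hc]
      rw [e]
      exact ⟨hsw, rfl⟩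
  rw [hcount, Nat.cast_mul] at h
  have hG : (Fintype.card G : ℂ) ≠ 0 := Nat.cast_ne_zero.2 Fintype.card_ne_zero
  rw [eq_div_iff (Nat.cast_ne_zero.2 Nat.card_pos.ne'), mul_comm, Nat.card_eq_fintype_card (α := G), h]
  ring

end CfsgLib.Goldschmidt
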