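import Cfsg.Agent.Lib.JankoRee.PSL2Four
import Cfsg.Agent.Lib.PSL2Sub.Klein
import Cfsg.Agent.Lib.SL2Trace.Tori
import Cfsg.Agent.Lib.Linear.Card
import Mathlib.NumberTheory.LegendreSymbol.QuadraticChar.Basic
import Mathlib.GroupTheory.Sylow

/-!
Unipotent elements and involution centralizers of `PSL₂(q)`, `q ≡ 3 (mod 4)`.
-/

set_option autoImplicit false
set_option linter.style.haveILetI false
set_option linter.unusedSectionVars false

namespace CfsgLib.Goldschmidt.PSL

open Matrix CfsgLib.PSL2Sub CfsgLib.SL2Trace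

variable {F : Type*} [Field F] [Fintype F]

local notation "SL2" => SpecialLinearGroup (Fin 2) F
local notation "M₂" => Matrix (Fin 2) (Fin 2) F
local notation "π₂" => CfsgLib.SL2Trace.toPSL (F := F)

theorem two_ne (h4 : Fintype.card F % 4 = 3) : (2 : F) ≠ 0 :=
  two_ne_zero_of_odd (Nat.odd_iff.2 (by omega))

theorem sq_ne_neg_one (h4 : Fintype.card F % 4 = 3) (a : F) : a * a ≠ -1 := fun h =>
  (FiniteField.isSquare_neg_one_iff.1 ⟨a, h.symm⟩) h4

theorem neg_ne_self (h4 : Fintype.card F % 4 = 3) {b : F} (hb : b ≠ 0) : -b ≠ b := fun h =>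
  hb ((mul_eq_zero.1 (by linear_combination -h : (2 : F) * b = 0)).resolve_left (two_ne h4))

/-- The upper unitriangular matrices. -/
def uni (b : F) : SL2 := mk2 1 b 0 1 (by ring)

theorem coe_uni (b : F) : ((uni b : SL2) : M₂) = !![1, b; 0, 1] := rfl

theorem uni_add (a b : F) : uni (a + b) = uni a * uni b := by
  apply Subtype.ext
  simp only [Matrix.SpecialLinearGroup.coe_mul, coe_uni]
  ext i j
  fin_cases i <;> fin_cases j <;> simp [Matrix.mul_apply, Fin.sum_univ_two, add_comm]

theorem uni_zero : uni (0 : F) = 1 := by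
  apply Subtype.ext
  simp only [coe_uni, coe_mk2, Matrix.SpecialLinearGroup.coe_one]
  exact Matrix.one_fin_two.symm

/-- The unipotent subgroup as a homomorphism. -/
noncomputable def uHom : Multiplicative F →* PS F where
  toFun b := π₂ (uni b.toAdd)
  map_one' := by
    rw [toAdd_one, uni_zero]
    exact QuotientGroup.mk_one _
  map_mul' a b := by
    rw [toAdd_mul, uni_add]
    exact QuotientGroup.mk_mul _ _ _

/-- The unipotent subgroup. -/
noncomputable def U (F : Type*) [Field F] [Fintype F] : Subgroup (PS F) := (uHom (F := F)).range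

theorem mem_U {x : PS F} : x ∈ U F ↔ ∃ b : F, x = π₂ (uni b) :=
  ⟨fun ⟨b, hb⟩ => ⟨b.toAdd, hb.symm⟩, fun ⟨b, hb⟩ => ⟨.ofAdd b, hb.symm⟩⟩

theorem entries_eq {A B : SL2} (h : π₂ A = π₂ B) :
    ((B : M₂) = A) ∨ ((B : M₂) = -(A : M₂)) := by
  obtain ⟨z, hz, rfl⟩ := toPSL_eq_iff.1 h
  obtain ⟨r, hr, hrz⟩ := Matrix.SpecialLinearGroup.mem_center_iff.1 hz
  rw [Fintype.card_fin] at hr
  rcases sq_eq_one_iff.1 hr with rfl | rfl
  · exact Or.inl (by rw [Matrix.SpecialLinearGroup.coe_mul, ← hrz, map_one, mul_one])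
  · exact Or.inr (by rw [Matrix.SpecialLinearGroup.coe_mul, ← hrz, map_neg, map_one, mul_neg, mul_one])

theorem uHom_injective (h2 : (2 : F) ≠ 0) : Function.Injective (uHom (F := F)) := by
  intro a b h
  rcases entries_eq h with e | e
  · have := congrFun (congrFun e 0) 1
    simp [coe_uni, coe_mk2] at this
    exact this.symm
  · have := congrFun (congrFun e 0) 0
    simp [coe_uni, coe_mk2] at this
    exact absurd (by linear_combination this : (2 : F) = 0) h2

theorem card_U (h2 : (2 : F) ≠ 0) : Nat.card (U F) = Fintype.card F := by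
  rw [U, ← Nat.card_congr (MonoidHom.ofInjective (uHom_injective h2)).toEquiv,
    Nat.card_eq_fintype_card, Fintype.card_multiplicative]

theorem comm_U {x y : PS F} (hx : x ∈ U F) (hy : y ∈ U F) : x * y = y * x := by
  obtain ⟨a, rfl⟩ := hx
  obtain ⟨b, rfl⟩ := hy
  rw [← map_mul, ← map_mul, mul_comm]

theorem conj_uni_entry (g : SL2) (b : F) :
    ((g * uni b * g⁻¹ : SL2) : M₂) 1 0 = -((g : M₂) 1 0 * (g : M₂) 1 0) * b ∧
    (((g : M₂) 1 0 = 0) → ((g * uni b * g⁻¹ : SL2) : M₂) 0 1 = (g : M₂) 0 0 * (g : M₂) 0 0 * b) := by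
  constructor
  · simp [Matrix.SpecialLinearGroup.coe_mul, Matrix.SpecialLinearGroup.coe_inv, adjugate_fin_two, coe_uni, coe_mk2,
      Matrix.mul_apply, Fin.sum_univ_two]
    ring
  · intro hc
    simp [Matrix.SpecialLinearGroup.coe_mul, Matrix.SpecialLinearGroup.coe_inv, adjugate_fin_two, coe_uni, coe_mk2,
      Matrix.mul_apply, Fin.sum_univ_two, hc]
    ring

/-- If a conjugate of a nontrivial unipotent lies in `U`, the conjugating matrix is triangular. -/
theorem lower_eq_zero {g : SL2} {b c : F} (hb : b ≠ 0)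
    (h : π₂ (g * uni b * g⁻¹) = π₂ (uni c)) : (g : M₂) 1 0 = 0 := by
  have h10 : ((g * uni b * g⁻¹ : SL2) : M₂) 1 0 = 0 := by
    rcases entries_eq h with e | e
    · have := congrFun (congrFun e 1) 0
      simpa [coe_uni, coe_mk2] using this.symm
    · have := congrFun (congrFun e 1) 0
      rw [Matrix.neg_apply] at this
      simp [coe_uni, coe_mk2] at this
      simpa [coe_uni] using this
  rw [(conj_uni_entry g b).1] at h10
  simpa [hb] using h10

theorem centralizer_U (h2 : (2 : F) ≠ 0) {x g : PS F} (hx : x ∈ U F) (hx1 : x ≠ 1)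
    (hg : g * x * g⁻¹ = x) : g ∈ U F := by
  obtain ⟨b, rfl⟩ := mem_U.1 hx
  obtain ⟨G', rfl⟩ := QuotientGroup.mk_surjective g
  have hb : b ≠ 0 := fun e => hx1 (by rw [e, uni_zero]; exact QuotientGroup.mk_one _)
  have h : π₂ (G' * uni b * G'⁻¹) = π₂ (uni b) := by
    simp only [toPSL, QuotientGroup.mk_mul, QuotientGroup.mk_inv]
    exact hg
  have hc := lower_eq_zero hb h
  have hdet := det_coe G'
  rw [hc, mul_zero, sub_zero] at hdet
  have h01 := (conj_uni_entry G' b).2 hc
  have htr : ((G' * uni b * G'⁻¹ : SL2) : M₂).trace = 2 := by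
    rw [trace_mul_mul_inv]
    simp [coe_uni, coe_mk2, trace_fin_two]; norm_num
  rcases entries_eq h with e | e
  · have := congrFun (congrFun e 0) 1
    rw [h01] at this
    have ha : (G' : M₂) 0 0 * (G' : M₂) 0 0 = 1 :=
      mul_right_cancel₀ hb (by simp [coe_uni, coe_mk2] at this; linear_combination -this)
    rcases mul_self_eq_one_iff.1 ha with ha' | ha'
    · rw [ha', one_mul] at hdet
      refine mem_U.2 ⟨(G' : M₂) 0 1, ?_⟩
      refine congrArg _ (Subtype.ext ?_)
      ext i j
      fin_cases i <;> fin_cases j <;> simp [coe_uni, coe_mk2, hc, ha', hdet]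
    · rw [ha', neg_one_mul, neg_eq_iff_eq_neg] at hdet
      refine mem_U.2 ⟨-(G' : M₂) 0 1, ?_⟩
      refine toPSL_eq_iff.2 ⟨-1, ?_, ?_⟩
      · exact mem_center_of_scalar (-1) (by simp [Matrix.SpecialLinearGroup.coe_neg, map_neg])
      · apply Subtype.ext
        ext i j
        fin_cases i <;> fin_cases j <;> simp [coe_uni, coe_mk2, hc, ha', hdet]
  · have := congrArg Matrix.trace e
    rw [trace_neg, htr] at this
    simp [coe_uni, coe_mk2, trace_fin_two] at this
    have h4 : (2 : F) * 2 = 0 := by linear_combination this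
    exact absurd ((mul_eq_zero.1 h4).elim id id) h2

theorem no_involution_normalizes (h4 : Fintype.card F % 4 = 3) {x g : PS F} (hx : x ∈ U F)
    (hx1 : x ≠ 1) (hg : orderOf g = 2) : g * x * g⁻¹ ∉ U F := by
  intro hU
  obtain ⟨b, rfl⟩ := mem_U.1 hx
  obtain ⟨G', rfl⟩ := QuotientGroup.mk_surjective g
  obtain ⟨c, hc'⟩ := mem_U.1 hU
  have hb : b ≠ 0 := fun e => hx1 (by rw [e, uni_zero]; exact QuotientGroup.mk_one _)
  have hc := lower_eq_zero (g := G') (c := c) hb (by
    simp only [toPSL, QuotientGroup.mk_mul, QuotientGroup.mk_inv]; exact hc')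
  have htr := (orderOf_two_iff (two_ne h4) G').1 hg
  rw [trace_fin_two] at htr
  have hdet := det_coe G'
  rw [hc, mul_zero, sub_zero] at hdet
  exact sq_ne_neg_one h4 ((G' : M₂) 0 0) (by linear_combination (-hdet) + (G' : M₂) 0 0 * htr)

/-- Any two nontrivial elements of `U` are conjugate up to inversion. -/
theorem conj_or_inv (h4 : Fintype.card F % 4 = 3) {x y : PS F} (hx : x ∈ U F) (hx1 : x ≠ 1)
    (hy : y ∈ U F) (hy1 : y ≠ 1) : ∃ g : PS F, g * x * g⁻¹ = y ∨ g * x * g⁻¹ = y⁻¹ := by
  classical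
  obtain ⟨b, rfl⟩ := mem_U.1 hx
  obtain ⟨c, rfl⟩ := mem_U.1 hy
  have hb : b ≠ 0 := fun e => hx1 (by rw [e, uni_zero]; exact QuotientGroup.mk_one _)
  have hc : c ≠ 0 := fun e => hy1 (by rw [e, uni_zero]; exact QuotientGroup.mk_one _)
  have key : ∀ d a : F, a ≠ 0 → a * a * b = d →
      ∃ g : PS F, g * π₂ (uni b) * g⁻¹ = π₂ (uni d) := by
    intro d a ha had
    refine ⟨π₂ (mk2 a 0 0 a⁻¹ (by field_simp; ring)), ?_⟩
    rw [toPSL, toPSL, toPSL, ← QuotientGroup.mk_inv, ← QuotientGroup.mk_mul, ← QuotientGroup.mk_mul]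
    refine congrArg _ (Subtype.ext ?_)
    ext i j
    fin_cases i <;> fin_cases j <;>
      simp [Matrix.SpecialLinearGroup.coe_mul, Matrix.SpecialLinearGroup.coe_inv, adjugate_fin_two, coe_uni, coe_mk2,
        Matrix.mul_apply, Fin.sum_univ_two, ← had, ha] <;> field_simp
  have hinv : π₂ (uni (-c)) = (π₂ (uni c))⁻¹ :=
    (inv_eq_of_mul_eq_one_right (by
      rw [toPSL, toPSL, ← QuotientGroup.mk_mul, ← uni_add, add_neg_cancel, uni_zero]
      exact QuotientGroup.mk_one _)).symm
  have hsq : IsSquare (c / b) ∨ IsSquare (-(c / b)) := by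
    by_contra h
    push Not at h
    have h2 : ringChar F ≠ 2 := fun e => two_ne h4 (by
      haveI : CharP F 2 := ringChar.of_eq e
      exact_mod_cast CharP.cast_eq_zero F 2)
    have hne : c / b ≠ 0 := div_ne_zero hc hb
    have e1 := quadraticChar_neg_one_iff_not_isSquare.2 h.1
    have e2 := quadraticChar_neg_one_iff_not_isSquare.2 h.2
    have e3 : quadraticChar F (-1) = -1 := quadraticChar_neg_one_iff_not_isSquare.2 fun hs =>
      FiniteField.isSquare_neg_one_iff.1 hs h4
    rw [show -(c / b) = -1 * (c / b) by ring, map_mul, e3, e1] at e2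
    norm_num at e2
  rcases hsq with ⟨a, ha⟩ | ⟨a, ha⟩
  · obtain ⟨g, hg⟩ := key c a (fun e => div_ne_zero hc hb (by rw [ha, e, mul_zero]))
      (by rw [← ha]; field_simp)
    exact ⟨g, Or.inl hg⟩
  · obtain ⟨g, hg⟩ := key (-c) a
      (fun e => div_ne_zero hc hb (neg_eq_zero.1 (by rw [ha, e, mul_zero])))
      (by rw [← ha]; field_simp)
    exact ⟨g, Or.inr (hg.trans hinv)⟩

theorem card_PSL (h2 : (2 : F) ≠ 0) :
    2 * Nat.card (PS F) = Fintype.card F * (Fintype.card F ^ 2 - 1) := by
  rw [← CfsgLib.Linear.card_SL_two, Subgroup.card_eq_card_quotient_mul_card_subgroup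
    (Subgroup.center SL2), card_center h2, mul_comm]

/-- The centralizer of an involution. -/
theorem involution_centralizer (h4 : Fintype.card F % 4 = 3) {v : PS F} (hv : orderOf v = 2) :
    Nat.card ↥(Subgroup.centralizer ({v} : Set (PS F))) = Fintype.card F + 1 ∧
    ∃ A : Subgroup (PS F), A ≤ Subgroup.centralizer ({v} : Set (PS F)) ∧ IsCyclic A ∧
      2 * Nat.card A = Fintype.card F + 1 ∧ v ∈ A ∧
      (∀ g ∈ Subgroup.centralizer ({v} : Set (PS F)), g ∉ A →
        g * g = 1 ∧ ∀ a ∈ A, g * a * g⁻¹ = a⁻¹) ∧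
      (∀ a ∈ A, a * a ≠ 1 → ∀ g : PS F, g * a * g⁻¹ = a → g ∈ A) := by
  have h2 := two_ne h4
  obtain ⟨M, rfl⟩ := QuotientGroup.mk_surjective v
  have htr := (orderOf_two_iff h2 M).1 hv
  have hM := trace_sq_ne_four h2 htr
  obtain ⟨hcyc, -, hns⟩ := centralizer_card_cyclic M hM
  have hTcard := hns (by
    rintro ⟨u, hu⟩
    rw [htr] at hu
    exact sq_ne_neg_one h4 u (by linear_combination hu))
  set T := Subgroup.centralizer ({M} : Set SL2) with hT
  set π := QuotientGroup.mk' (Subgroup.center SL2) with hπ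
  have hzT : Subgroup.center SL2 ≤ T := Subgroup.center_le_centralizer _
  have hzN : Subgroup.center SL2 ≤ Subgroup.normalizer (T : Set SL2) :=
    hzT.trans Subgroup.le_normalizer
  have hMM : M * M ∈ Subgroup.center SL2 := mul_self_mem_center htr
  have hMinv : ∀ z : SL2, z = M * (M * M) → z = M⁻¹ := fun z e => by
    have h1 : M * M * (M * M) = 1 := mul_self_eq_one_of_mem_center hMM
    rw [e]
    exact eq_inv_of_mul_eq_one_left (by rw [← h1]; group)
  have hcent : Subgroup.centralizer ({π M} : Set (PS F)) =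
      (Subgroup.normalizer (T : Set SL2)).map π := by
    ext g
    constructor
    · intro hg
      obtain ⟨G', rfl⟩ := QuotientGroup.mk_surjective g
      refine ⟨G', ?_, rfl⟩
      rw [SetLike.mem_coe, hT, mem_normalizer_iff_cases hM h2]
      rw [Subgroup.mem_centralizer_singleton_iff] at hg
      have h : π₂ M = π₂ (G' * M * G'⁻¹) := by
        simp only [toPSL, QuotientGroup.mk_mul, QuotientGroup.mk_inv]
        exact (mul_inv_eq_iff_eq_mul.2 hg).symm
      obtain ⟨z, hz, hzM⟩ := toPSL_eq_iff.1 h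
      rcases center_cases htr hz with rfl | rfl
      · left
        rw [mul_one] at hzM
        exact Subgroup.mem_centralizer_singleton_iff.2 (mul_inv_eq_iff_eq_mul.1 hzM)
      · exact Or.inr (hMinv _ hzM)
    · rintro ⟨G', hG', rfl⟩
      rw [Subgroup.mem_centralizer_singleton_iff, ← mul_inv_eq_iff_eq_mul, ← map_mul, ← map_inv,
        ← map_mul]
      rcases (mem_normalizer_iff_cases hM h2 G').1 hG' with h | h
      · rw [Subgroup.mem_centralizer_singleton_iff.1 h, mul_inv_cancel_right]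
      · rw [h, map_inv]
        exact inv_eq_of_mul_eq_one_right (by
          rw [← map_mul]; exact (QuotientGroup.eq_one_iff _).2 hMM)
  have hcardmap : ∀ H : Subgroup SL2, Subgroup.center SL2 ≤ H →
      2 * Nat.card (H.map π) = Nat.card H := by
    intro H hH
    have e : (H.map π).comap π = H := Subgroup.comap_map_eq_self (by
      rw [hπ, QuotientGroup.ker_mk']; exact hH)
    have h1 := Subgroup.index_comap_of_surjective (H.map π) (QuotientGroup.mk'_surjective _)
    rw [← hπ, e] at h1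
    have h3 := Subgroup.card_eq_card_quotient_mul_card_subgroup (Subgroup.center SL2)
    rw [← Subgroup.card_mul_index H, h1, card_center h2,
      ← Subgroup.card_mul_index (H.map π)] at h3
    have hpos : 0 < (H.map π).index := Nat.pos_of_ne_zero Subgroup.index_ne_zero_of_finite
    exact (Nat.eq_of_mul_eq_mul_right hpos (by linarith)).symm
  haveI := hcyc
  refine ⟨?_, T.map π, ?_, ?_, ?_, ⟨M, self_mem M, rfl⟩, ?_, ?_⟩
  · have := hcardmap _ hzN
    rw [card_normalizer_torus hM h2, hTcard, ← hcent] at this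
    exact Nat.eq_of_mul_eq_mul_left two_pos this
  · show T.map π ≤ Subgroup.centralizer ({π M} : Set (PS F))
    rw [hcent]
    exact Subgroup.map_mono Subgroup.le_normalizer
  · exact isCyclic_of_surjective (π.subgroupMap T) (π.subgroupMap_surjective T)
  · rw [hcardmap _ hzT, hTcard]
  · intro g hg hgA
    change g ∈ Subgroup.centralizer ({π M} : Set (PS F)) at hg
    rw [hcent] at hg
    obtain ⟨G', hG', rfl⟩ := hg
    have hGT : G' ∉ T := fun h => hgA ⟨G', h, rfl⟩
    obtain ⟨hinv, hsq⟩ := outside_inverts hM h2 hG' hGT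
    refine ⟨?_, ?_⟩
    · rw [← map_mul]
      refine (QuotientGroup.eq_one_iff _).2 (mem_center_of_scalar (-1) ?_)
      rw [hsq, map_neg, map_one]
    · rintro _ ⟨a, ha, rfl⟩
      rw [← map_inv, ← map_mul, ← map_mul, hinv a ha, map_inv]
  · rintro _ ⟨a, ha, rfl⟩ hsq g hg
    obtain ⟨G', rfl⟩ := QuotientGroup.mk_surjective g
    have hac : a ∉ Subgroup.center SL2 := fun h => hsq (by
      rw [← map_mul]
      exact (QuotientGroup.eq_one_iff _).2 (mul_mem h h))
    have h : π₂ a = π₂ (G' * a * G'⁻¹) := by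
      simp only [toPSL, QuotientGroup.mk_mul, QuotientGroup.mk_inv]
      exact hg.symm
    rcases entries_eq h with e | e
    · refine ⟨G', ?_, rfl⟩
      rw [SetLike.mem_coe, hT, ← centralizer_eq hM ha hac, Subgroup.mem_centralizer_singleton_iff]
      exact mul_inv_eq_iff_eq_mul.1 (Subtype.ext e)
    · exfalso
      have := congrArg Matrix.trace e
      rw [trace_mul_mul_inv, trace_neg] at this
      have ha0 : (a : M₂).trace = 0 :=
        (mul_eq_zero.1 (by linear_combination this : (2 : F) * (a : M₂).trace = 0)).resolve_left h2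
      exact hsq (sq_one_of_orderOf_two ((orderOf_two_iff h2 a).2 ha0))

end CfsgLib.Goldschmidt.PSL
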