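import Cfsg.Agent.Lib.Goldschmidt.Sections
import Cfsg.Agent.Lib.Goldschmidt.PSLFacts
import Cfsg.Agent.Lib.SuzukiSub.Basic
import Cfsg.Agent.Lib.SuzukiMatrix.Bridge
import Cfsg.Prelude.Def_Sz

/-!
Sections isomorphic to `S₃` and `S₄` in `PSL₂` and in the Suzuki groups.
-/

set_option autoImplicit false
set_option linter.style.haveILetI false
set_option linter.unusedSectionVars false

namespace CfsgLib.Goldschmidt

open Matrix Cfsg CfsgLib.PSL2Sub CfsgLib.SL2Trace

theorem involves_congr {H G G' : Type*} [Group H] [Group G] [Group G'] (e : G ≃* G')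
    (h : Involves H G') : Involves H G := by
  obtain ⟨K, f, hf⟩ := CfsgLib.LocalEven.exists_surjective_of_involves h
  refine CfsgLib.LocalEven.involves_of_surjective (K.comap e.toMonoidHom)
    (f.comp (e.toMonoidHom.subgroupComap K)) (hf.comp ?_)
  intro k
  exact ⟨⟨e.symm k, by simp⟩, Subtype.ext (e.apply_symm_apply k)⟩

theorem exists_conj_mem {G : Type*} [Group G] [Finite G] {p : ℕ} [Fact p.Prime] {A : Subgroup G}
    (hA : IsPGroup p A) (hidx : ¬ p ∣ A.index) {x : G} (hx : ∃ k : ℕ, orderOf x = p ^ k) :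
    ∃ h : G, h * x * h⁻¹ ∈ A := by
  obtain ⟨k, hk⟩ := hx
  obtain ⟨R, hR⟩ := (IsPGroup.of_card (n := k) (p := p) (G := Subgroup.zpowers x)
    (by rw [Nat.card_zpowers, hk])).exists_le_sylow
  obtain ⟨h, hh⟩ := MulAction.exists_smul_eq G R (hA.toSylow hidx)
  refine ⟨h, ?_⟩
  have hm : h * x * h⁻¹ ∈ ((hA.toSylow hidx : Sylow p G) : Subgroup G) := by
    rw [← hh]
    exact ⟨x, hR (Subgroup.mem_zpowers x), rfl⟩
  exact hm

/-- Abelian Sylow subgroups from one abelian subgroup of full order. -/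
theorem comm_sylow_of_card {G : Type*} [Group G] [Finite G] {A : Subgroup G} {n : ℕ}
    (hcard : Nat.card A = 2 ^ n) (hidx : ¬ 2 ∣ A.index)
    (hcomm : ∀ x ∈ A, ∀ y ∈ A, x * y = y * x) (S : Sylow 2 G) :
    IsMulCommutative ↥(S : Subgroup G) := by
  haveI : Fact (Nat.Prime 2) := ⟨Nat.prime_two⟩
  have hA : IsPGroup 2 A := IsPGroup.of_card hcard
  obtain ⟨g, hg⟩ := MulAction.exists_smul_eq G S (hA.toSylow hidx)
  refine ⟨⟨fun a b => Subtype.ext ?_⟩⟩
  have key : ∀ c : ↥(S : Subgroup G), g * (c : G) * g⁻¹ ∈ A := fun c => by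
    have : g * (c : G) * g⁻¹ ∈ ((hA.toSylow hidx : Sylow 2 G) : Subgroup G) := by
      rw [← hg]; exact ⟨c, c.2, rfl⟩
    exact this
  have := hcomm _ (key a) _ (key b)
  rw [conj_mul, conj_mul] at this
  exact (MulAut.conj g).injective this

theorem suzuki_facts {G : Type*} [Group G] [Finite G] (hG : Lie.IsoSuzuki G) :
    ¬ 3 ∣ Nat.card G := by
  obtain ⟨F, _, _, m, hm, hF, ⟨e⟩⟩ := hG
  have h : CfsgLib.Suzuki.SzHyp F m := ⟨hm, hF⟩
  rw [Nat.card_congr (e.trans (CfsgLib.SuzukiMatrix.szEquiv h).symm).toEquiv]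
  exact CfsgLib.SuzukiSub.not_three h

theorem not_involves_of_not_three {H G : Type*} [Group H] [Group G] [Finite G]
    (hH : 3 ∣ Nat.card H) (hG : ¬ 3 ∣ Nat.card G) : ¬ Involves H G := by
  intro h
  obtain ⟨K, f, hf⟩ := CfsgLib.LocalEven.exists_surjective_of_involves h
  exact hG (hH.trans ((Subgroup.card_dvd_of_surjective f hf).trans (Subgroup.card_subgroup_dvd_card K)))

variable {F : Type*} [Field F] [Fintype F]

local notation "SL2" => Matrix.SpecialLinearGroup (Fin 2) F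
local notation "M₂" => Matrix (Fin 2) (Fin 2) F
local notation "π₂" => CfsgLib.SL2Trace.toPSL (F := F)

/-- Outside characteristic three there is a dihedral subgroup of order six. -/
theorem involves_three_psl (h3 : (3 : F) ≠ 0) :
    Involves (Equiv.Perm (Fin 3)) (PS F) := by
  obtain ⟨a, c, hac⟩ := exists_quad_eq (F := F) 1 (-1) 1 (-1) (by
    intro h; exact h3 (by linear_combination -h))
  set w : SL2 := mk2 0 (-1) 1 (-1) (by ring) with hw
  set g : SL2 := mk2 a (c - a) c (-a) (by linear_combination -hac) with hg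
  have hone : ∀ M : SL2, M ∈ Subgroup.center SL2 → π₂ M = 1 := fun M hM =>
    (QuotientGroup.eq_one_iff M).2 hM
  have hsq : π₂ g * π₂ g = 1 := by
    rw [toPSL, ← QuotientGroup.mk_mul]
    exact hone _ (mul_self_mem_center (by simp [hg, coe_mk2, trace_fin_two]))
  have hgw : π₂ g * π₂ w * (π₂ g * π₂ w) = 1 := by
    rw [toPSL, toPSL, ← QuotientGroup.mk_mul, ← QuotientGroup.mk_mul]
    refine hone _ (mul_self_mem_center ?_)
    simp [hg, hw, coe_mk2, Matrix.SpecialLinearGroup.coe_mul, trace_fin_two]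
    try ring
  have hw3 : π₂ w ^ 3 = 1 := by
    have : w * w * w = 1 := by
      apply Subtype.ext
      simp only [hw, Matrix.SpecialLinearGroup.coe_mul, coe_mk2, Matrix.SpecialLinearGroup.coe_one]
      ext i j
      fin_cases i <;> fin_cases j <;> simp [Matrix.mul_apply, Fin.sum_univ_two]
    rw [pow_succ, pow_two, toPSL, ← QuotientGroup.mk_mul, ← QuotientGroup.mk_mul, this]
    exact QuotientGroup.mk_one _
  have hw1 : π₂ w ≠ 1 := by
    intro h
    have h' : π₂ (1 : SL2) = π₂ w := (QuotientGroup.mk_one _).trans h.symm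
    rcases PSL.entries_eq h' with e | e <;>
    · have := congrFun (congrFun e 1) 0
      simp [hw, coe_mk2] at this
  refine involves_three_iff.2 ⟨π₂ g, π₂ w, ?_, ?_, hw1, ?_⟩
  · obtain ⟨k, -, hk⟩ := (Nat.dvd_prime_pow Nat.prime_two).1
      (orderOf_dvd_of_pow_eq_one (n := 2 ^ 1) (x := π₂ g) (by rw [pow_one, pow_two, hsq]))
    exact ⟨k, hk⟩
  · obtain ⟨k, -, hk⟩ := (Nat.dvd_prime_pow Nat.prime_three).1
      (orderOf_dvd_of_pow_eq_one (n := 3 ^ 1) (x := π₂ w) (by rw [pow_one, hw3]))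
    exact ⟨k, hk⟩
  · rw [inv_eq_of_mul_eq_one_right hsq]
    exact eq_inv_of_mul_eq_one_left (by rw [← hgw]; group)

/-- In `PSL₂(3^(2n+1))` no section is isomorphic to `S₃`. -/
theorem not_involves_three_psl {n : ℕ} (hF : Fintype.card F = 3 ^ (2 * n + 1)) :
    ¬ Involves (Equiv.Perm (Fin 3)) (PS F) := by
  haveI : Fact (Nat.Prime 3) := ⟨Nat.prime_three⟩
  have h4 : Fintype.card F % 4 = 3 := by
    rw [hF, pow_succ, pow_mul, Nat.mul_mod, Nat.pow_mod]; norm_num
  have h2 := PSL.two_ne h4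
  have hodd : Odd (Fintype.card F) := Nat.odd_iff.2 (by omega)
  rw [involves_three_iff]
  rintro ⟨x, y, ⟨i, hi⟩, hy, hy1, hxy⟩
  have hU : IsPGroup 3 (PSL.U F) := IsPGroup.of_card (n := 2 * n + 1) (by rw [PSL.card_U h2, hF])
  have hidx : ¬ 3 ∣ (PSL.U F).index := by
    intro hd
    have h1 := PSL.card_PSL (F := F) h2
    rw [← Subgroup.card_mul_index (PSL.U F), PSL.card_U h2, ← mul_assoc,
      mul_comm 2, mul_assoc] at h1
    have h2' := Nat.eq_of_mul_eq_mul_left Fintype.card_pos h1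
    have h3 : 3 ∣ Fintype.card F ^ 2 - 1 := h2' ▸ dvd_mul_of_dvd_right hd 2
    have h5 : 3 ∣ Fintype.card F ^ 2 := dvd_pow (hF ▸ dvd_pow_self 3 (by omega)) two_ne_zero
    have h6 : 1 ≤ Fintype.card F ^ 2 := Nat.one_le_pow _ _ Fintype.card_pos
    omega
  obtain ⟨h, hh⟩ := exists_conj_mem hU hidx hy
  set x' := h * x * h⁻¹ with hx'
  set y' := h * y * h⁻¹ with hy'
  have hxy' : x' * y' * x'⁻¹ = y'⁻¹ := by
    have : h * (x * y * x⁻¹) * h⁻¹ = h * y⁻¹ * h⁻¹ := by rw [hxy]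
    rw [hx', hy']
    calc _ = h * (x * y * x⁻¹) * h⁻¹ := by group
      _ = h * y⁻¹ * h⁻¹ := this
      _ = _ := by group
  have hy'1 : y' ≠ 1 := fun e => hy1 (by simpa [hy'] using e)
  have hxord : orderOf x' = 2 ^ i := by
    rw [← hi]; exact (MulAut.conj h).orderOf_eq x
  have hsqU : x' * x' ∈ PSL.U F := PSL.centralizer_U h2 hh hy'1 (by
    calc x' * x' * y' * (x' * x')⁻¹ = x' * (x' * y' * x'⁻¹) * x'⁻¹ := by group
      _ = x' * y'⁻¹ * x'⁻¹ := by rw [hxy']
      _ = (x' * y' * x'⁻¹)⁻¹ := by group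
      _ = y' := by rw [hxy', inv_inv])
  have hd1 : orderOf (x' * x') ∣ Fintype.card F := by
    rw [← PSL.card_U h2, ← Subgroup.orderOf_mk (x' * x') hsqU]
    exact orderOf_dvd_natCard _
  have hd2 : orderOf (x' * x') ∣ 2 ^ i := by
    rw [← hxord, ← pow_two]; exact orderOf_pow_dvd 2
  have hsq : x' * x' = 1 := orderOf_eq_one_iff.1 (Nat.eq_one_of_dvd_coprimes
    (Nat.Coprime.pow_right i (Nat.coprime_two_right.2 hodd)) hd1 hd2)
  have hx'2 : orderOf x' = 2 := by
    rw [orderOf_eq_prime_iff]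
    refine ⟨by rw [pow_two, hsq], fun e => ?_⟩
    rw [e, one_mul, inv_one, mul_one] at hxy'
    refine hy'1 ?_
    have hk : orderOf y' ∣ 2 := orderOf_dvd_of_pow_eq_one (by
      rw [pow_two]; nth_rw 2 [hxy']; exact mul_inv_cancel y')
    obtain ⟨k, hk'⟩ := hy
    have hk'' : orderOf y' = 3 ^ k := by rw [← hk']; exact (MulAut.conj h).orderOf_eq y
    exact orderOf_eq_one_iff.1 (Nat.eq_one_of_dvd_coprimes
      (Nat.Coprime.pow_left k (by norm_num : Nat.Coprime 3 2)) (hk'' ▸ dvd_rfl) hk)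
  exact PSL.no_involution_normalizes h4 hh hy'1 hx'2 (by
    rw [hxy']; exact inv_mem hh)

theorem comm_sylow_psl_two_pow {n : ℕ} (hn : 1 ≤ n) (hF : Fintype.card F = 2 ^ n)
    (S : Sylow 2 (PS F)) : IsMulCommutative ↥(S : Subgroup (PS F)) := by
  haveI hc : CharP F 2 := charP_of_card_eq_prime_pow (hp := ⟨Nat.prime_two⟩) hF
  have hz : Nat.card (Subgroup.center SL2) = 1 := by
    rw [Subgroup.card_eq_one, eq_bot_iff]
    intro z hz
    obtain ⟨r, hr, hrz⟩ := Matrix.SpecialLinearGroup.mem_center_iff.1 hz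
    rw [Fintype.card_fin, sq_eq_one_iff, CharTwo.neg_eq, or_self] at hr
    rw [Subgroup.mem_bot]
    apply Subtype.ext
    rw [Matrix.SpecialLinearGroup.coe_one, ← hrz, hr, map_one]
  have hinj : Function.Injective (PSL.uHom (F := F)) := by
    intro a b h
    rcases PSL.entries_eq h with e | e <;>
    · have := congrFun (congrFun e 0) 1
      simp [PSL.coe_uni, CharTwo.neg_eq] at this
      exact this.symm
  have hcard : Nat.card (PSL.U F) = 2 ^ n := by
    rw [PSL.U, ← Nat.card_congr (MonoidHom.ofInjective hinj).toEquiv, Nat.card_eq_fintype_card,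
      Fintype.card_multiplicative, hF]
  refine comm_sylow_of_card hcard ?_ (fun x hx y hy => PSL.comm_U hx hy) S
  have h1 := CfsgLib.Linear.card_SL_two (F := F)
  rw [Subgroup.card_eq_card_quotient_mul_card_subgroup (Subgroup.center SL2), hz, mul_one,
    ← Subgroup.card_mul_index (PSL.U F), hcard, hF] at h1
  rw [Nat.eq_of_mul_eq_mul_left (Nat.two_pow_pos n) h1]
  intro hd
  have h2 : 2 ∣ (2 ^ n) ^ 2 := dvd_pow (dvd_pow_self 2 (by omega)) two_ne_zero
  have h3 : 1 ≤ (2 ^ n) ^ 2 := Nat.one_le_pow _ _ (Nat.two_pow_pos n)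
  omega

theorem comm_sylow_psl_odd {q : ℕ} (hF : Fintype.card F = q) (hq : q % 8 = 3 ∨ q % 8 = 5)
    (S : Sylow 2 (PS F)) : IsMulCommutative ↥(S : Subgroup (PS F)) := by
  haveI : Fact (Nat.Prime 2) := ⟨Nat.prime_two⟩
  have h2 : (2 : F) ≠ 0 := two_ne_zero_of_odd (Nat.odd_iff.2 (by omega))
  have h1 := PSL.card_PSL (F := F) h2
  rw [hF] at h1
  obtain ⟨k, hk, hko⟩ : ∃ k, q ^ 2 - 1 = 8 * k ∧ k % 2 = 1 := by
    rcases hq with h | h
    · refine ⟨8 * (q / 8) ^ 2 + 6 * (q / 8) + 1, ?_, by omega⟩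
      have : q = 8 * (q / 8) + 3 := by omega
      have hh : q ^ 2 = 8 * (8 * (q / 8) ^ 2 + 6 * (q / 8) + 1) + 1 := by
        nth_rw 1 [this]; ring
      omega
    · refine ⟨8 * (q / 8) ^ 2 + 10 * (q / 8) + 3, ?_, by omega⟩
      have : q = 8 * (q / 8) + 5 := by omega
      have hh : q ^ 2 = 8 * (8 * (q / 8) ^ 2 + 10 * (q / 8) + 3) + 1 := by
        nth_rw 1 [this]; ring
      omega
  have hodd : ¬ 2 ∣ q * k := by
    rw [Nat.prime_two.dvd_mul]
    omega
  have hcard : Nat.card (PS F) = 2 ^ 2 * (q * k) := by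
    rw [hk] at h1
    refine Nat.eq_of_mul_eq_mul_left two_pos ?_
    rw [h1]; ring
  have hS : Nat.card ↥(S : Subgroup (PS F)) = 2 ^ 2 := by
    rw [S.card_eq_multiplicity, hcard, Nat.factorization_mul (by norm_num) (by
      intro e; rw [e] at hodd; exact hodd (dvd_zero 2)), Finsupp.add_apply,
      Nat.Prime.factorization_pow Nat.prime_two, Finsupp.single_eq_same,
      Nat.factorization_eq_zero_of_not_dvd hodd, add_zero]
  exact IsPGroup.isMulCommutative_of_card_eq_prime_sq hS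

/-- `PSL₂(q)`, `q ≡ 3, 5 (mod 8)`: either characteristic three with odd exponent, or an `S₃`. -/
theorem psl_odd_cases {q : ℕ} (hF : Fintype.card F = q) (hq : q % 8 = 3 ∨ q % 8 = 5) :
    (∃ n : ℕ, Fintype.card F = 3 ^ (2 * n + 1)) ∨ (3 : F) ≠ 0 := by
  by_cases h3 : (3 : F) = 0
  · left
    haveI : Fact (Nat.Prime 3) := ⟨Nat.prime_three⟩
    haveI : CharP F 3 := (CharP.charP_iff_prime_eq_zero Nat.prime_three).2 (by exact_mod_cast h3)
    obtain ⟨n, -, hn⟩ := FiniteField.card F 3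
    rcases Nat.even_or_odd (n : ℕ) with ⟨j, hj⟩ | ⟨j, hj⟩
    · exfalso
      rw [hF, hj, ← two_mul, pow_mul] at hn
      rw [hn, Nat.pow_mod] at hq
      norm_num at hq
    · exact ⟨j, by rw [hn, hj]⟩
  · exact Or.inr h3

end CfsgLib.Goldschmidt
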