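import Mathlib

/-!
Three orthogonal integral vectors of norm four with a common parity.
-/

set_option autoImplicit false

namespace CfsgLib.Goldschmidt

open Finset Matrix

theorem four_expansion (x y z : Fin 4 → ℤ) (hx : ∀ i, x i * x i = 1) (hy : ∀ i, y i * y i = 1)
    (hz : ∀ i, z i * z i = 1) (hxy : ∑ i, x i * y i = 0) (hxz : ∑ i, x i * z i = 0)
    (hyz : ∑ i, y i * z i = 0) (g : Fin 4 → ℤ) (i : Fin 4) :
    4 * g i = x i * y i * z i * ∑ j, x j * y j * z j * g j + x i * ∑ j, x j * g j +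
      y i * ∑ j, y j * g j + z i * ∑ j, z j * g j := by
  let H : Matrix (Fin 4) (Fin 4) ℚ :=
    ![fun j => (x j : ℚ) * y j * z j, fun j => (x j : ℚ), fun j => (y j : ℚ), fun j => (z j : ℚ)]
  have cx : ∀ j, (x j : ℚ) * x j = 1 := fun j => by exact_mod_cast hx j
  have cy : ∀ j, (y j : ℚ) * y j = 1 := fun j => by exact_mod_cast hy j
  have cz : ∀ j, (z j : ℚ) * z j = 1 := fun j => by exact_mod_cast hz j
  have sxy : ∑ j, (x j : ℚ) * y j = 0 := by exact_mod_cast hxy
  have sxz : ∑ j, (x j : ℚ) * z j = 0 := by exact_mod_cast hxz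
  have syz : ∑ j, (y j : ℚ) * z j = 0 := by exact_mod_cast hyz
  have h : H * ((1 / 4 : ℚ) • H.transpose) = 1 := by
    have p00 : ∀ j, (x j : ℚ) * y j * z j * (x j * y j * z j) = 1 := fun j => by
      linear_combination ((y j : ℚ) * y j * z j * z j) * cx j + ((z j : ℚ) * z j) * cy j + cz j
    have p01 : ∀ j, (x j : ℚ) * y j * z j * x j = y j * z j := fun j => by
      linear_combination ((y j : ℚ) * z j) * cx j
    have p02 : ∀ j, (x j : ℚ) * y j * z j * y j = x j * z j := fun j => by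
      linear_combination ((x j : ℚ) * z j) * cy j
    have p03 : ∀ j, (x j : ℚ) * y j * z j * z j = x j * y j := fun j => by
      linear_combination ((x j : ℚ) * y j) * cz j
    have p10 : ∀ j, (x j : ℚ) * (x j * y j * z j) = y j * z j := fun j => by rw [mul_comm, p01 j]
    have p20 : ∀ j, (y j : ℚ) * (x j * y j * z j) = x j * z j := fun j => by rw [mul_comm, p02 j]
    have p30 : ∀ j, (z j : ℚ) * (x j * y j * z j) = x j * y j := fun j => by rw [mul_comm, p03 j]
    have syx : ∑ j, (y j : ℚ) * x j = 0 := by simpa only [mul_comm] using sxy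
    have szx : ∑ j, (z j : ℚ) * x j = 0 := by simpa only [mul_comm] using sxz
    have szy : ∑ j, (z j : ℚ) * y j = 0 := by simpa only [mul_comm] using syz
    have key : ∀ a b, ∑ j, H a j * H b j = if a = b then 4 else 0 := fun a b => by
      fin_cases a <;> fin_cases b <;>
        simp [H, p00, p01, p02, p03, p10, p20, p30, cx, cy, cz, sxy, sxz, syz, syx, szx, szy]
    ext a b
    have hab := key a b
    rw [Matrix.mul_smul, Matrix.smul_apply, Matrix.mul_apply, Matrix.one_apply]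
    simp only [Matrix.transpose_apply, smul_eq_mul]
    rw [hab]
    split_ifs <;> norm_num
  have h' : (1 / 4 : ℚ) • H.transpose * H = 1 := mul_eq_one_comm.1 h
  have e : (1 / 4 : ℚ) * ∑ k, H k i * ∑ j, H k j * (g j : ℚ) = g i := by
    have := congrFun (congrArg (fun M : Matrix (Fin 4) (Fin 4) ℚ => M.mulVec fun j => (g j : ℚ)) h') i
    rw [Matrix.smul_mul, Matrix.smul_mulVec, ← Matrix.mulVec_mulVec, Matrix.one_mulVec,
      Pi.smul_apply, smul_eq_mul] at this
    exact this
  simp only [Fin.sum_univ_four (f := fun k => H k i * ∑ j, H k j * (g j : ℚ))] at e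
  simp [H] at e
  have : (4 * g i : ℚ) = ((x i * y i * z i * ∑ j, x j * y j * z j * g j + x i * ∑ j, x j * g j +
      y i * ∑ j, y j * g j + z i * ∑ j, z j * g j : ℤ) : ℚ) := by
    push_cast
    rw [← e]
    ring
  exact_mod_cast this

theorem four_core {a : ℤ} (x y z f X : Fin 4 → ℤ) (hx : ∀ i, x i * x i = 1)
    (hy : ∀ i, y i * y i = 1) (hz : ∀ i, z i * z i = 1) (hxy : ∑ i, x i * y i = 0)
    (hxz : ∑ i, x i * z i = 0) (hyz : ∑ i, y i * z i = 0) (hf : ∀ i, 0 < f i)
    (hxf : ∑ i, x i * f i = 0) (hyf : ∑ i, y i * f i = 0) (hzf : ∑ i, z i * f i = 0)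
    (hxX : ∑ i, x i * X i = 4 * a) (hyX : ∑ i, y i * X i = 4 * a) (hzX : ∑ i, z i * X i = 4 * a) :
    (∀ i, f i = f 0) ∧ 8 * a ∣ ∑ i, x i * X i ^ 2 := by
  have E := four_expansion x y z hx hy hz hxy hxz hyz
  set s : Fin 4 → ℤ := fun i => x i * y i * z i with hs
  have hs1 : ∀ i, s i * s i = 1 := fun i => by
    simp only [hs]; linear_combination (y i * y i * z i * z i) * hx i + (z i * z i) * hy i + hz i
  set Sf := ∑ j, s j * f j with hSf
  have hfe : ∀ i, 4 * f i = s i * Sf := fun i => by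
    rw [E f i, hxf, hyf, hzf]; simp [hs, hSf]
  have hsσ : ∀ i, s i = s 0 := by
    intro i
    rcases mul_self_eq_one_iff.1 (hs1 i) with h1 | h1 <;>
      rcases mul_self_eq_one_iff.1 (hs1 0) with h2 | h2 <;>
      have hi := hfe i <;> have h0 := hfe 0 <;> rw [h1] at hi ⊢ <;> rw [h2] at h0 ⊢ <;>
      have := hf i <;> have := hf 0 <;> linarith
  refine ⟨fun i => ?_, ?_⟩
  · have hi := hfe i
    rw [hsσ i, ← hfe 0] at hi
    linarith
  set SX := ∑ j, s j * X j with hSX
  have hXe : ∀ i, 4 * X i = s i * SX + 4 * a * (x i + y i + z i) := fun i => by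
    rw [E X i, hxX, hyX, hzX]; simp [hs, hSX]; ring
  obtain ⟨k, hk⟩ : (4 : ℤ) ∣ SX := by
    have h := hXe 0
    refine ⟨s 0 * (X 0 - a * (x 0 + y 0 + z 0)), ?_⟩
    linear_combination (-SX) * hs1 0 - s 0 * h
  refine ⟨s 0 * a + s 0 * k, ?_⟩
  set σ := s 0 with hσ
  have hσ2 : σ * σ = 1 := hs1 0
  have hX : ∀ i, X i = σ * k + a * (x i + y i + z i) := fun i => by
    have := hXe i
    rw [hsσ i, hk] at this
    linarith
  have hzi : ∀ i, z i = σ * (x i * y i) := fun i => by
    have h := hsσ i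
    simp only [hs] at h
    linear_combination (x i * y i) * h - (z i * y i * y i) * hx i - z i * hy i
  have hterm : ∀ i, x i * X i ^ 2 = (3 * a ^ 2 + k ^ 2) * x i + 2 * a * σ * k + 2 * a * a * σ +
      (2 * a * σ * k + 2 * a * a * σ) * (x i * y i) + (2 * a * σ * k + 2 * a * a * σ) * (x i * z i) := by
    intro i
    have hxi := hx i
    have hyi := hy i
    have hz' := hzi i
    rw [hX i, hz']
    grind
  have hsum : ∑ i, x i = 0 := by
    have h1 : ∀ i, x i = σ * (y i * z i) := fun i => by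
      have h := hsσ i
      simp only [hs] at h
      linear_combination (y i * z i) * h - (x i * z i * z i) * hy i - x i * hz i
    rw [Finset.sum_congr rfl fun i _ => h1 i, ← Finset.mul_sum, hyz, mul_zero]
  rw [Finset.sum_congr rfl fun i _ => hterm i]
  simp only [Finset.sum_add_distrib, ← Finset.mul_sum, hxy, hxz, hsum, Finset.sum_const,
    Finset.card_univ, Fintype.card_fin]
  ring

variable {ι : Type*} [Fintype ι]

theorem abs_le_one_of {x f : ι → ℤ} (hx : ∑ i, x i * x i = 4) (hf : ∀ i, 0 < f i)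
    (hxf : ∑ i, x i * f i = 0) (i : ι) : x i * x i ≤ 1 := by
  classical
  have hsplit := Finset.sum_eq_add_sum_sdiff_singleton_of_mem (Finset.mem_univ i) (fun j => x j * x j)
  rw [hx] at hsplit
  have hnn : 0 ≤ ∑ j ∈ univ \ {i}, x j * x j := Finset.sum_nonneg fun j _ => mul_self_nonneg _
  by_contra h
  push Not at h
  have h2 : x i = 2 ∨ x i = -2 := by
    have hle : x i * x i ≤ 4 := by linarith
    have : -2 ≤ x i ∧ x i ≤ 2 := by constructor <;> nlinarith
    rcases (show x i = -2 ∨ x i = -1 ∨ x i = 0 ∨ x i = 1 ∨ x i = 2 by omega) with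
      e | e | e | e | e <;> rw [e] at h <;> norm_num at h <;> simp [e]
  have hxi4 : x i * x i = 4 := by rcases h2 with e | e <;> rw [e] <;> norm_num
  rw [hxi4] at hsplit
  have h0 : ∀ j, j ≠ i → x j = 0 := fun j hj => mul_self_eq_zero.1
    ((Finset.sum_eq_zero_iff_of_nonneg fun j _ => mul_self_nonneg (x j)).1
      (by linarith : ∑ j ∈ univ \ {i}, x j * x j = 0) j (by simp [hj]))
  rw [Finset.sum_eq_single i (fun j _ hj => by rw [h0 j hj, zero_mul]) (by simp)] at hxf
  have := hf i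
  rcases h2 with e | e <;> rw [e] at hxf <;> linarith

theorem four_vectors {a : ℤ} (x y z f X : ι → ℤ) (hx : ∑ i, x i * x i = 4)
    (hy : ∑ i, y i * y i = 4) (hz : ∑ i, z i * z i = 4) (hxy : ∑ i, x i * y i = 0)
    (hxz : ∑ i, x i * z i = 0) (hyz : ∑ i, y i * z i = 0) (hpar : ∀ i, 2 ∣ x i - y i ∧ 2 ∣ x i - z i)
    (hf : ∀ i, 0 < f i) (hxf : ∑ i, x i * f i = 0) (hyf : ∑ i, y i * f i = 0)
    (hzf : ∑ i, z i * f i = 0) (hxX : ∑ i, x i * X i = 4 * a) (hyX : ∑ i, y i * X i = 4 * a)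
    (hzX : ∑ i, z i * X i = 4 * a) :
    ∃ F₀ : ℤ, 0 < F₀ ∧ (∀ i, x i ≠ 0 → f i = F₀) ∧ 8 * a ∣ ∑ i, x i * X i ^ 2 ∧
      ∑ i, x i * X i ^ 2 ≤ ∑ i, X i ^ 2 := by
  classical
  have ax := abs_le_one_of hx hf hxf
  have ay := abs_le_one_of hy hf hyf
  have az := abs_le_one_of hz hf hzf
  have hval : ∀ {u : ℤ}, u * u ≤ 1 → u = -1 ∨ u = 0 ∨ u = 1 := fun {u} hu => by
    have : -1 ≤ u ∧ u ≤ 1 := by constructor <;> nlinarith
    omega
  have hsupp : ∀ i, (x i = 0 → y i = 0) ∧ (x i = 0 → z i = 0) ∧ (x i ≠ 0 → x i * x i = 1) ∧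
      (x i ≠ 0 → y i * y i = 1) ∧ (x i ≠ 0 → z i * z i = 1) := by
    intro i
    obtain ⟨h1, h2⟩ := hpar i
    rcases hval (ax i) with e | e | e <;> rcases hval (ay i) with e' | e' | e' <;>
      rcases hval (az i) with e'' | e'' | e'' <;> simp_all <;> norm_num at *
  set Q := univ.filter fun i => x i ≠ 0 with hQ
  have hred : ∀ g : ι → ℤ, (∀ i, x i = 0 → g i = 0) → ∑ i, g i = ∑ i ∈ Q, g i := fun g hg => by
    rw [hQ]
    exact (Finset.sum_filter_of_ne (p := fun i => x i ≠ 0) fun i _ hi hxi => hi (hg i hxi)).symm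
  have hQ4 : Q.card = 4 := by
    have := hred (fun i => x i * x i) fun i hi => by simp [hi]
    rw [hx, Finset.sum_congr rfl fun i hi => (hsupp i).2.2.1 (Finset.mem_filter.1 hi).2] at this
    rw [Finset.sum_const, nsmul_eq_mul, mul_one] at this
    rw [hQ]
    omega
  let e : Fin 4 ≃ Q := (Q.equivFinOfCardEq hQ4).symm
  have hre : ∀ g : ι → ℤ, (∀ i, x i = 0 → g i = 0) → ∑ k, g (e k) = ∑ i, g i := fun g hg => by
    rw [hred g hg, ← Finset.sum_coe_sort Q g]
    exact e.sum_comp fun i => g i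
  have hne : ∀ k, x (e k) ≠ 0 := fun k => (Finset.mem_filter.1 (e k).2).2
  obtain ⟨hfc, hdvd⟩ := four_core (a := a) (fun k => x (e k)) (fun k => y (e k)) (fun k => z (e k))
    (fun k => f (e k)) (fun k => X (e k)) (fun k => (hsupp _).2.2.1 (hne k))
    (fun k => (hsupp _).2.2.2.1 (hne k)) (fun k => (hsupp _).2.2.2.2 (hne k))
    ((hre (fun i => x i * y i) fun i hi => by simp [hi]).trans hxy)
    ((hre (fun i => x i * z i) fun i hi => by simp [hi]).trans hxz)
    ((hre (fun i => y i * z i) fun i hi => by simp [(hsupp i).1 hi]).trans hyz)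
    (fun k => hf _) ((hre (fun i => x i * f i) fun i hi => by simp [hi]).trans hxf)
    ((hre (fun i => y i * f i) fun i hi => by simp [(hsupp i).1 hi]).trans hyf)
    ((hre (fun i => z i * f i) fun i hi => by simp [(hsupp i).2.1 hi]).trans hzf)
    ((hre (fun i => x i * X i) fun i hi => by simp [hi]).trans hxX)
    ((hre (fun i => y i * X i) fun i hi => by simp [(hsupp i).1 hi]).trans hyX)
    ((hre (fun i => z i * X i) fun i hi => by simp [(hsupp i).2.1 hi]).trans hzX)
  refine ⟨f (e 0), hf _, fun i hi => ?_, ?_, ?_⟩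
  · have := hfc (e.symm ⟨i, Finset.mem_filter.2 ⟨Finset.mem_univ _, hi⟩⟩)
    simpa using this
  · rwa [← hre (fun i => x i * X i ^ 2) fun i hi => by simp [hi]]
  · refine Finset.sum_le_sum fun i _ => mul_le_of_le_one_left (sq_nonneg _) ?_
    rcases hval (ax i) with e | e | e <;> omega

end CfsgLib.Goldschmidt
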