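import Cfsg.Agent.Lib.Goldschmidt.Families
import Cfsg.Agent.Lib.Sporadic.J1.InvCentralizer

/-!
Sections isomorphic to `S₃` and `S₄` in the smallest Janko group.
-/

set_option autoImplicit false
set_option linter.style.haveILetI false

namespace CfsgLib.Goldschmidt

open CfsgLib.J1

/-- An element of the icosahedral subgroup inverting `el wc3`. -/
def winv : List Bool := wc5 ++ wc3 ++ wc3 ++ wc5 ++ wc5 ++ wc3 ++ wc3 ++ wc5 ++ wc5

theorem involves_three_janko : Cfsg.Involves (Equiv.Perm (Fin 3)) Cfsg.Spor.J1 := by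
  have h1 : el winv ^ 2 = 1 := (el_pow_eq_one_iff _ _).2 (by decide +kernel)
  have h2 : el (winv ++ wc3) ^ 2 = 1 := (el_pow_eq_one_iff _ _).2 (by decide +kernel)
  rw [el_append, pow_two] at h2
  rw [pow_two] at h1
  refine involves_three_iff.2 ⟨el winv, el wc3, ?_, ⟨1, wc3_order⟩, ?_, ?_⟩
  · obtain ⟨k, -, hk⟩ := (Nat.dvd_prime_pow Nat.prime_two).1
      (orderOf_dvd_of_pow_eq_one (n := 2 ^ 1) (x := el winv) (by rw [pow_one, pow_two, h1]))
    exact ⟨k, hk⟩
  · intro h
    have := wc3_order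
    rw [h, orderOf_one] at this
    exact absurd this (by norm_num)
  · rw [inv_eq_of_mul_eq_one_right h1]
    exact eq_inv_of_mul_eq_one_left (by rw [← h2]; group)

theorem comm_sylow_janko (S : Sylow 2 Cfsg.Spor.J1) :
    IsMulCommutative ↥(S : Subgroup Cfsg.Spor.J1) := by
  refine comm_sylow_of_card (A := E8) (n := 3) card_E8 ?_ ?_ S
  · have h := Subgroup.card_mul_index E8
    rw [card_E8, card_J1] at h
    omega
  · intro x hx y hy
    have e : ∀ z ∈ E8, z⁻¹ = z := fun z hz =>
      inv_eq_of_mul_eq_one_right (by rw [← pow_two, sq_of_mem_E8 hz])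
    rw [← e _ (mul_mem hx hy), mul_inv_rev, e x hx, e y hy]

end CfsgLib.Goldschmidt
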