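import Cfsg.Agent.Lib.Goldschmidt.CharSums

/-!
A group in which an involution has a four-group as centralizer, fused, is small.
-/

set_option autoImplicit false
set_option linter.unusedSectionVars false
set_option linter.style.haveILetI false

open scoped ComplexConjugate
open Cfsg

namespace CfsgLib.Goldschmidt

theorem inv_sum_bound {A B C : ℤ} (hA : (4 : ℤ) ∣ A - 1) (hB : (4 : ℤ) ∣ B - 1)
    (hC : (4 : ℤ) ∣ C - 1) (h : A + B + C = -1) :
    (11 : ℚ) / 21 ≤ 1 + 1 / (A : ℚ) + 1 / B + 1 / C := by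
  have h3 : ∀ {X : ℤ}, (4 : ℤ) ∣ X - 1 → -1 / 3 ≤ 1 / (X : ℚ) := by
    intro X hX
    rcases lt_trichotomy X 0 with hneg | h0 | hpos
    · have : (X : ℚ) ≤ -3 := by exact_mod_cast (by omega : X ≤ -3)
      rw [le_div_iff_of_neg (by linarith)]; linarith
    · omega
    · have : (0 : ℚ) < X := by exact_mod_cast hpos
      have := div_pos one_pos this
      linarith
  have h7 : ∀ {X : ℤ}, (4 : ℤ) ∣ X - 1 → X ≠ -3 → -1 / 7 ≤ 1 / (X : ℚ) := by
    intro X hX hne
    rcases lt_trichotomy X 0 with hneg | h0 | hpos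
    · have : (X : ℚ) ≤ -7 := by exact_mod_cast (by omega : X ≤ -7)
      rw [le_div_iff_of_neg (by linarith)]; linarith
    · omega
    · have : (0 : ℚ) < X := by exact_mod_cast hpos
      have := div_pos one_pos this
      linarith
  have hp : ∀ {X : ℤ}, 0 < X → (0 : ℚ) ≤ 1 / (X : ℚ) := fun {X} hX =>
    (div_pos one_pos (by exact_mod_cast hX)).le
  have key : ∀ {U V W : ℤ}, (4 : ℤ) ∣ U - 1 → (4 : ℤ) ∣ V - 1 → U + V + W = -1 → 0 < W →
      (11 : ℚ) / 21 ≤ 1 + 1 / (U : ℚ) + 1 / V + 1 / W := by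
    intro U V W hU hV hs hW
    by_cases hU3 : U = -3
    · by_cases hV3 : V = -3
      · obtain rfl : W = 5 := by omega
        rw [hU3, hV3]; norm_num
      · linarith [h3 hU, h7 hV hV3, hp hW]
    · linarith [h7 hU hU3, h3 hV, hp hW]
  by_cases hA0 : 0 < A
  · linarith [key hB hC (by omega : B + C + A = -1) hA0]
  by_cases hB0 : 0 < B
  · linarith [key hA hC (by omega : A + C + B = -1) hB0]
  exact key hA hB h (by omega)

variable {H : Type*} [Group H] [Finite H]

theorem klein_bound {t : H} (ht : t * t = 1) (ht1 : t ≠ 1)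
    (hC : Nat.card (Subgroup.centralizer ({t} : Set H)) = 4)
    (hsq : ∀ a ∈ Subgroup.centralizer ({t} : Set H), a * a = 1)
    (hconj : ∀ a ∈ Subgroup.centralizer ({t} : Set H), a ≠ 1 → IsConj t a) :
    Nat.card H ≤ 61 := by
  classical
  set C := Subgroup.centralizer ({t} : Set H) with hCdef
  haveI : Fintype C := Fintype.ofFinite _
  have htinv : t⁻¹ = t := inv_eq_of_mul_eq_one_right ht
  choose a ha using fun χ : IrrCharacter H => exists_int_involution ht χ
  let f : IrrCharacter H → ℕ := fun χ => CfsgLib.Char.degree (χ : H → ℂ)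
  have hf : ∀ χ, ((f χ : ℕ) : ℂ) = (χ : H → ℂ) 1 := fun χ =>
    CfsgLib.Char.IsCharacter.degree_cast (CfsgLib.Char.IsIrrCharacter.isCharacter χ.2)
  have hfpos : ∀ χ, 0 < f χ := fun χ => CfsgLib.Char.IsIrrCharacter.degree_pos χ.2
  have hsqsum : ∑ χ, a χ * a χ = 4 := by
    have h := CfsgLib.Char.sum_mul_conj t t
    rw [if_pos (IsConj.refl t), hC] at h
    simp only [ha, map_intCast] at h
    exact_mod_cast h
  have hcross : ∑ χ, a χ * f χ = 0 := by
    have h := CfsgLib.Char.sum_mul_conj t 1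
    rw [if_neg fun e => ht1 (isConj_one_left.1 e)] at h
    simp only [ha, ← hf, map_natCast] at h
    exact_mod_cast h
  have hmod : ∀ χ, a χ * a χ = 1 → (4 : ℤ) ∣ a χ * f χ - 1 := fun χ h1 => by
    obtain ⟨m, hm⟩ := CfsgLib.Blk83.exists_nat_sum_eq χ C
    rw [hC, ← Finset.add_sum_erase _ _ (Finset.mem_univ (1 : C)),
      Finset.sum_congr rfl fun w hw => by
        show (χ : H → ℂ) w = (a χ : ℂ)
        rw [← ha, ← CfsgLib.Char.IsClassFunction.eq_of_isConj
          (CfsgLib.Char.IsIrrCharacter.isClassFunction χ.2)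
          (hconj w w.2 fun e => (Finset.mem_erase.1 hw).1 (Subtype.ext e))],
      Finset.sum_const, Finset.card_erase_of_mem (Finset.mem_univ _), Finset.card_univ,
      ← Nat.card_eq_fintype_card, hC, OneMemClass.coe_one, ← hf] at hm
    have hm' : (f χ : ℤ) + 3 * a χ = 4 * m := by
      simp only [nsmul_eq_mul] at hm
      exact_mod_cast hm
    exact ⟨m * a χ - 1, by linear_combination a χ * hm' - 3 * h1⟩
  -- the three nonprincipal characters not vanishing at `t`
  set P := (CfsgLib.Char.principalIrr : IrrCharacter H) with hP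
  have hPa : a P = 1 := by
    have := ha P
    rw [hP, CfsgLib.Char.principalIrr_apply] at this
    exact_mod_cast this.symm
  have hPf : f P = 1 := by
    have := hf P
    rw [hP, CfsgLib.Char.principalIrr_apply] at this
    exact_mod_cast this
  set R := Finset.univ.erase P with hR
  have hR3 : ∑ χ ∈ R, a χ * a χ = 3 := by
    have := Finset.add_sum_erase _ (fun χ => a χ * a χ) (Finset.mem_univ P)
    rw [hsqsum, hPa] at this
    linarith
  have hle : ∀ χ ∈ R, a χ * a χ ≤ 1 := fun χ hχ => by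
    have h1 := Finset.single_le_sum (fun ψ _ => mul_self_nonneg (a ψ)) hχ
    rw [hR3] at h1
    have : -1 ≤ a χ ∧ a χ ≤ 1 := by constructor <;> nlinarith
    nlinarith
  set Q := R.filter fun χ => a χ ≠ 0 with hQ
  have hone : ∀ χ ∈ Q, a χ * a χ = 1 := fun χ hχ => by
    obtain ⟨h1, h2⟩ := Finset.mem_filter.1 hχ
    have := hle χ h1
    have := mul_self_pos.2 h2
    omega
  have hQ3 : Q.card = 3 := by
    rw [← Finset.sum_filter_of_ne (p := fun χ => a χ ≠ 0) (fun χ _ h e => h (by simp [e])),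
      Finset.sum_congr rfl hone] at hR3
    rw [Finset.sum_const, nsmul_eq_mul, mul_one] at hR3
    exact_mod_cast hR3
  obtain ⟨i, j, k, hij, hik, hjk, hQe⟩ := Finset.card_eq_three.1 hQ3
  have hsum3 : ∀ {M : Type} [AddCommMonoid M] (g : IrrCharacter H → M),
      (∀ χ, a χ = 0 → g χ = 0) → ∑ χ, g χ = g P + (g i + g j + g k) := by
    intro M _ g hg
    rw [← Finset.add_sum_erase _ g (Finset.mem_univ P), ← hR,
      ← Finset.sum_filter_of_ne (p := fun χ => a χ ≠ 0) (fun χ _ h e => h (hg χ e)), ← hQ, hQe,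
      Finset.sum_insert (by simp [hij, hik]), Finset.sum_insert (by simp [hjk]),
      Finset.sum_singleton, ← add_assoc (g i)]
  have hA := hsum3 (fun χ => a χ * (f χ : ℤ)) fun χ h => by simp [h]
  rw [hcross, hPa, hPf] at hA
  have hi : i ∈ Q := by simp [hQe]
  have hj : j ∈ Q := by simp [hQe]
  have hk : k ∈ Q := by simp [hQe]
  have hb := inv_sum_bound (hmod i (hone i hi)) (hmod j (hone j hj)) (hmod k (hone k hk))
    (by push_cast at hA; linarith)
  -- class counting
  have hN : Nat.card {s : H // IsConj t s ∧ IsConj t (s * t)} = 2 := by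
    have e : ∀ s, IsConj t s ∧ IsConj t (s * t) ↔ s ∈ C ∧ s ≠ 1 ∧ s ≠ t := by
      intro s
      constructor
      · rintro ⟨h1, h2⟩
        obtain ⟨c, hc⟩ := isConj_iff.1 h1
        obtain ⟨d, hd⟩ := isConj_iff.1 h2
        have hs : s * s = 1 := by
          calc s * s = c * (t * t) * c⁻¹ := by rw [← hc]; group
            _ = 1 := by rw [ht]; group
        have hst : (s * t) * (s * t) = 1 := by
          calc (s * t) * (s * t) = d * (t * t) * d⁻¹ := by rw [← hd]; group
            _ = 1 := by rw [ht]; group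
        refine ⟨?_, fun e => ht1 ?_, fun e => ?_⟩
        · rw [hCdef, Subgroup.mem_centralizer_singleton_iff, eq_inv_of_mul_eq_one_left hst,
            _root_.mul_inv_rev, htinv, inv_eq_of_mul_eq_one_right hs]
        · subst e; exact isConj_one_left.1 h1
        · subst e; rw [ht] at h2; exact ht1 (isConj_one_left.1 h2)
      · rintro ⟨h1, h2, h3⟩
        refine ⟨hconj s h1 h2, hconj _ (mul_mem h1 (Subgroup.mem_centralizer_singleton_iff.2 rfl))
          fun e => h3 ?_⟩
        rw [eq_inv_of_mul_eq_one_left e, htinv]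
    rw [Nat.card_congr (Equiv.subtypeEquivRight e),
      Nat.card_congr (Equiv.subtypeSubtypeEquivSubtypeInter (fun s => s ∈ C)
        (fun s => s ≠ 1 ∧ s ≠ t)).symm, Nat.card_eq_fintype_card, Fintype.card_subtype]
    have e2 : (Finset.univ.filter fun s : {s // s ∈ C} => (s : H) ≠ 1 ∧ (s : H) ≠ t) =
        (Finset.univ : Finset C) \ {1, ⟨t, Subgroup.mem_centralizer_singleton_iff.2 rfl⟩} := by
      ext s
      simp only [Finset.mem_filter, Finset.mem_univ, true_and, Finset.mem_sdiff, Finset.mem_insert,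
        Finset.mem_singleton, not_or, ne_eq]
      exact Iff.and (not_congr ⟨fun e => Subtype.ext e, fun e => congrArg Subtype.val e⟩)
        (not_congr ⟨fun e => Subtype.ext e, fun e => congrArg Subtype.val e⟩)
    rw [e2, Finset.card_sdiff_of_subset (Finset.subset_univ _), Finset.card_univ,
      ← Nat.card_eq_fintype_card, hC, Finset.card_pair (fun e => ht1 (congrArg Subtype.val e).symm)]
  have hcol := sum_sq_mul_div ht t
  rw [hN, hC] at hcol
  have hterm : ∀ χ : IrrCharacter H, (χ : H → ℂ) t ^ 2 * (χ : H → ℂ) t / (χ : H → ℂ) 1 =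
      (((a χ : ℚ) ^ 2 * a χ / f χ : ℚ) : ℂ) := fun χ => by
    rw [← hf χ, ha χ]; push_cast; rfl
  simp only [hterm, ← Rat.cast_sum] at hcol
  have hcol' : ∑ χ, ((a χ : ℚ) ^ 2 * a χ / f χ) = (4 : ℚ) ^ 2 * 2 / Nat.card H :=
    Rat.cast_injective (α := ℂ) (hcol.trans (by push_cast; ring))
  rw [hsum3 (fun χ => (a χ : ℚ) ^ 2 * a χ / f χ) fun χ h => by simp [h]] at hcol'
  have hinv : ∀ χ ∈ Q, (a χ : ℚ) ^ 2 * a χ / f χ = 1 / ((a χ * f χ : ℤ) : ℚ) := fun χ hχ => by
    have h1 : (a χ : ℚ) * a χ = 1 := by exact_mod_cast hone χ hχ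
    have h2 : (a χ : ℚ) ≠ 0 := fun e => by simp [e] at h1
    have h3 : (f χ : ℚ) ≠ 0 := by exact_mod_cast (hfpos χ).ne'
    push_cast
    field_simp
    linear_combination (((a χ : ℚ) * a χ) + 1) * h1
  rw [hinv i hi, hinv j hj, hinv k hk, hPa, hPf] at hcol'
  have hH : (0 : ℚ) < Nat.card H := by exact_mod_cast Nat.card_pos
  have hfin : (11 : ℚ) / 21 ≤ 4 ^ 2 * 2 / Nat.card H := by
    rw [← hcol']
    push_cast at hb ⊢
    linarith
  rw [le_div_iff₀ hH] at hfin
  by_contra hgt
  have h62 : (62 : ℚ) ≤ Nat.card H := by exact_mod_cast (by omega : 62 ≤ Nat.card H)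
  nlinarith

end CfsgLib.Goldschmidt
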