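import Cfsg.Agent.Lib.Goldschmidt.PSLFacts
import Cfsg.Agent.Lib.Transfer.AbelianSylow
import Cfsg.Agent.Lib.Char.Complete
import Cfsg.Prelude.Def_LocalEven
import Mathlib.GroupTheory.NoncommCoprod

/-!
Groups of Ree type: the Sylow 2-subgroup `⟨t⟩ × V`, fusion of involutions, and the element of order 3
permuting the involutions of a four-group containing `t`.
-/

set_option autoImplicit false
set_option linter.unusedSectionVars false
set_option linter.style.haveILetI false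

namespace CfsgLib.Goldschmidt.Ree

open Subgroup CfsgLib.PSL2Sub

variable {G : Type*} [Group G] [Finite G] {F : Type*} [Field F] [Fintype F]

/-- `C(t) = ⟨t⟩ × K` with `K` the range of `f`. -/
structure Data (t : G) (f : PS F →* G) : Prop where
  ht : orderOf t = 2
  inj : Function.Injective f
  comm : ∀ k, t * f k = f k * t
  ne : ∀ k, f k ≠ t
  decomp : ∀ g, g * t = t * g → ∃ k, g = f k ∨ g = t * f k
  odd_index : Odd (centralizer ({t} : Set G)).index
  card_F : ∃ n, 1 ≤ n ∧ Fintype.card F = 3 ^ (2 * n + 1)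
  perfect : commutator G = ⊤

variable {t : G} {f : PS F →* G} (D : Data t f)
include D

theorem Data.q_facts : Fintype.card F % 8 = 3 ∧ 27 ≤ Fintype.card F ∧
    ¬ 3 ∣ Fintype.card F + 1 ∧ ¬ 5 ∣ Fintype.card F + 1 := by
  obtain ⟨n, hn, hq⟩ := D.card_F
  have h9 : (3 : ℕ) ^ (2 * n + 1) = 3 * 9 ^ n := by rw [pow_succ, pow_mul]; ring
  have e8 : 9 ^ n % 8 = 1 := by rw [Nat.pow_mod]; norm_num
  have e5 : 9 ^ n % 5 = 1 ∨ 9 ^ n % 5 = 4 := by
    rw [Nat.pow_mod]
    induction n with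
    | zero => simp
    | succ k ih =>
      rw [pow_succ, Nat.mul_mod]
      rcases Nat.eq_zero_or_pos k with rfl | hk
      · simp
      · rcases (by
          have := Nat.pow_mod (9 % 5) k 5
          rcases Nat.even_or_odd k with ⟨r, rfl⟩ | ⟨r, rfl⟩
          · left; rw [← two_mul, pow_mul, Nat.pow_mod]; norm_num
          · right; rw [pow_succ, pow_mul, Nat.mul_mod, Nat.pow_mod]; norm_num :
            (9 % 5) ^ k % 5 = 1 ∨ (9 % 5) ^ k % 5 = 4) with h | h <;> rw [h] <;> norm_num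
  have h27 : 27 ≤ 3 * 9 ^ n := by
    have : 9 ^ 1 ≤ 9 ^ n := Nat.pow_le_pow_right (by norm_num) hn
    omega
  rw [hq, h9]
  refine ⟨by omega, h27, by omega, by omega⟩

theorem Data.h4 : Fintype.card F % 4 = 3 := by have := D.q_facts; omega

theorem Data.sq_t : t * t = 1 := sq_one_of_orderOf_two D.ht

theorem Data.t_inv : t⁻¹ = t := inv_eq_of_mul_eq_one_right D.sq_t

theorem Data.t_ne : t ≠ 1 := ne_one_of_orderOf_two D.ht

theorem Data.t_f_ne (k : PS F) : t * f k ≠ 1 := fun h =>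
  D.ne k ((inv_eq_of_mul_eq_one_right h).symm.trans D.t_inv)

theorem Data.eq_of_f_eq_t_f {k l : PS F} : f k ≠ t * f l := fun h =>
  D.ne (k * l⁻¹) (by rw [map_mul, map_inv, h, mul_inv_cancel_right])

theorem Data.f_mem (k : PS F) : f k ∈ centralizer ({t} : Set G) :=
  mem_centralizer_singleton_iff.2 (D.comm k).symm

theorem Data.mem_cases {g : G} (h : g ∈ centralizer ({t} : Set G)) :
    ∃ k, g = f k ∨ g = t * f k := D.decomp g (mem_centralizer_singleton_iff.1 h)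

theorem Data.card_centralizer : Nat.card ↥(centralizer ({t} : Set G)) =
    Fintype.card F * (Fintype.card F ^ 2 - 1) := by
  classical
  rw [← CfsgLib.Goldschmidt.PSL.card_PSL (PSL.two_ne D.h4), two_mul, ← Nat.card_sum]
  refine (Nat.card_eq_of_bijective (Sum.elim (fun k => (⟨f k, D.f_mem k⟩ :
      centralizer ({t} : Set G)))
    (fun k => ⟨t * f k, mul_mem (mem_centralizer_singleton_iff.2 rfl) (D.f_mem k)⟩)) ⟨?_, ?_⟩).symm
  · rintro (a | a) (b | b) h <;> simp only [Sum.elim_inl, Sum.elim_inr, Subtype.mk.injEq] at h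
    · exact congrArg Sum.inl (D.inj h)
    · exact absurd h D.eq_of_f_eq_t_f
    · exact absurd h.symm D.eq_of_f_eq_t_f
    · exact congrArg Sum.inr (D.inj (mul_left_cancel h))
  · rintro ⟨g, hg⟩
    obtain ⟨k, rfl | rfl⟩ := D.mem_cases hg
    exacts [⟨Sum.inl k, rfl⟩, ⟨Sum.inr k, rfl⟩]

theorem Data.card_PSL_twopart :
    ∃ o, Odd o ∧ Nat.card (PS F) = 4 * o := by
  obtain ⟨h8, -, -, -⟩ := D.q_facts
  obtain ⟨r, hr⟩ : ∃ r, Fintype.card F = 8 * r + 3 := ⟨Fintype.card F / 8, by omega⟩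
  refine ⟨(8 * r + 3) * (4 * r + 1) * (2 * r + 1), ?_, ?_⟩
  · simp only [Nat.odd_mul]
    exact ⟨⟨⟨4 * r + 1, by ring⟩, ⟨2 * r, by ring⟩⟩, ⟨r, by ring⟩⟩
  · have h := CfsgLib.Goldschmidt.PSL.card_PSL (F := F) (PSL.two_ne D.h4)
    rw [hr] at h
    have e : (8 * r + 3) ^ 2 - 1 = 8 * (4 * r + 1) * (2 * r + 1) := by
      refine Nat.sub_eq_of_eq_add ?_
      ring
    rw [e] at h
    linarith

theorem Data.klein_sylow {V : Subgroup (PS F)} (hV : IsKleinFour V) :
    ∃ P : Sylow 2 (PS F), (P : Subgroup (PS F)) = V := by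
  haveI : Fact (Nat.Prime 2) := ⟨Nat.prime_two⟩
  obtain ⟨o, ho, hc⟩ := D.card_PSL_twopart
  have h2 : IsPGroup 2 V := IsPGroup.of_card (n := 2) (by rw [hV.card_four]; norm_num)
  refine ⟨h2.toSylow ?_, h2.toSylow_coe _⟩
  have := Subgroup.card_mul_index V
  rw [hc, hV.card_four] at this
  rw [Nat.two_dvd_ne_zero, ← Nat.odd_iff, Nat.eq_of_mul_eq_mul_left (by norm_num) this]
  exact ho

/-- An element of order three of `N(V)` cycling the involutions of `V`. -/
theorem Data.exists_cycle {V : Subgroup (PS F)} (hV : IsKleinFour V) {a b : PS F} (ha : a ∈ V)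
    (hb : b ∈ V) (ha1 : a ≠ 1) (hb1 : b ≠ 1) (hab : a ≠ b) :
    ∃ m : PS F, orderOf m = 3 ∧ m ∈ normalizer (V : Set (PS F)) ∧ m * a * m⁻¹ = b ∧
      m * b * m⁻¹ = a * b ∧ m * (a * b) * m⁻¹ = a := by
  haveI : Fact (Nat.Prime 2) := ⟨Nat.prime_two⟩
  have h2 := PSL.two_ne D.h4
  obtain ⟨P, hP⟩ := D.klein_sylow hV
  haveI : IsMulCommutative (P : Subgroup (PS F)) :=
    ⟨⟨fun x y => Subtype.ext (klein_comm hV (hP ▸ x.2) (hP ▸ y.2))⟩⟩
  have oa := orderOf_two_of (klein_mul_self hV ha) ha1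
  have ob := orderOf_two_of (klein_mul_self hV hb) hb1
  obtain ⟨g, hg⟩ := isConj_iff.1 (isConj_involutions h2 a b oa ob)
  obtain ⟨n, hn, hne⟩ := P.conj_eq_normalizer_conj_of_mem a g⁻¹ ((SetLike.ext_iff.1 hP a).2 ha)
    (by rw [inv_inv, hg]; exact (SetLike.ext_iff.1 hP b).2 hb)
  rw [inv_inv, hg] at hne
  set m := n⁻¹ with hm
  have hmV : m ∈ normalizer (V : Set (PS F)) := by rw [← hP]; exact inv_mem hn
  have h1 : m * a * m⁻¹ = b := by rw [hm, inv_inv, hne]
  have hmem : ∀ x ∈ V, m * x * m⁻¹ ∈ V := fun x hx => (mem_normalizer_iff.1 hmV x).1 hx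
  have hinj : ∀ x y, m * x * m⁻¹ = m * y * m⁻¹ → x = y := fun x y h =>
    mul_left_cancel (mul_right_cancel h)
  have hfour : ∀ x ∈ V, x = 1 ∨ x = a ∨ x = b ∨ x = a * b := by
    intro x hx
    by_contra hne'
    push Not at hne'
    classical
    haveI : Fintype V := Fintype.ofFinite _
    have hsub : ({1, ⟨a, ha⟩, ⟨b, hb⟩, ⟨a * b, mul_mem ha hb⟩, ⟨x, hx⟩} : Finset V).card = 5 := by
      have e1 : a * b ≠ 1 := fun e => hab ((eq_inv_of_mul_eq_one_left e).trans
        (inv_eq_of_mul_eq_one_right (klein_mul_self hV hb)))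
      rw [Finset.card_insert_of_notMem, Finset.card_insert_of_notMem, Finset.card_insert_of_notMem,
        Finset.card_insert_of_notMem, Finset.card_singleton] <;>
        simp [← Subtype.coe_inj, hab, ha1, hb1, hne'.1.symm, hne'.2.1.symm, hne'.2.2.1.symm,
          hne'.2.2.2.symm, Ne.symm ha1, Ne.symm hb1, e1.symm]
    have := Finset.card_le_univ ({1, ⟨a, ha⟩, ⟨b, hb⟩, ⟨a * b, mul_mem ha hb⟩, ⟨x, hx⟩} : Finset V)
    rw [hsub, ← Nat.card_eq_fintype_card, hV.card_four] at this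
    omega
  have hb2 : m * b * m⁻¹ = a * b := by
    rcases hfour _ (hmem b hb) with e | e | e | e
    · exact absurd (hinj b 1 (by rw [e]; group)) hb1
    · exfalso
      -- `m ^ 2` centralizes `V`, so `m` is a 2-element normalizing the Sylow subgroup `V`
      have hm2 : ∀ x ∈ V, (m * m) * x = x * (m * m) := by
        intro x hx
        rw [← mul_inv_eq_iff_eq_mul]
        have e' : (m * m) * x * (m * m)⁻¹ = m * (m * x * m⁻¹) * m⁻¹ := by group
        rw [e']
        rcases hfour x hx with rfl | rfl | rfl | rfl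
        · group
        · rw [h1, e]
        · rw [e, h1]
        · rw [show m * (a * b) * m⁻¹ = (m * a * m⁻¹) * (m * b * m⁻¹) by group, h1, e,
            show m * (b * a) * m⁻¹ = (m * b * m⁻¹) * (m * a * m⁻¹) by group, e, h1]
      have hm2V := CfsgLib.JankoRee.centralizer_klein h2 hV hm2
      have hm4 : m ^ 4 = 1 := by
        rw [show (4 : ℕ) = 2 * 2 from rfl, pow_mul, sq m, sq, klein_mul_self hV hm2V]
      have hmP : IsPGroup 2 (zpowers m) := by
        obtain ⟨k, -, hk⟩ := (Nat.dvd_prime_pow Nat.prime_two).1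
          (orderOf_dvd_of_pow_eq_one (n := 2 ^ 2) (by norm_num; exact hm4))
        exact IsPGroup.of_card (n := k) (by rw [Nat.card_zpowers, hk])
      have hsup : IsPGroup 2 ↥(zpowers m ⊔ (P : Subgroup (PS F))) :=
        hmP.to_sup_of_normal_right' P.2 (zpowers_le.2 (by rw [hP]; exact hmV))
      have hmemV : m ∈ V := by
        rw [← hP, ← P.3 hsup le_sup_right]
        exact mem_sup_left (mem_zpowers m)
      rw [klein_comm hV hmemV ha, mul_inv_cancel_right] at h1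
      exact hab h1
    · exact absurd (hinj b a (e.trans h1.symm)) (Ne.symm hab)
    · exact e
  have hb3 : m * (a * b) * m⁻¹ = a := by
    rw [← conj_mul, h1, hb2, klein_comm hV ha hb, ← mul_assoc, klein_mul_self hV hb, one_mul]
  have hm3 : m ^ 3 ∈ V := by
    refine CfsgLib.JankoRee.centralizer_klein h2 hV fun x hx => ?_
    rw [← mul_inv_eq_iff_eq_mul]
    have e' : m ^ 3 * x * (m ^ 3)⁻¹ = m * (m * (m * x * m⁻¹) * m⁻¹) * m⁻¹ := by
      simp [pow_succ, mul_assoc]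
    rw [e']
    rcases hfour x hx with rfl | rfl | rfl | rfl
    · group
    · rw [h1, hb2, hb3]
    · rw [hb2, hb3, h1]
    · rw [hb3, h1, hb2]
  have h6 : m ^ 6 = 1 := by
    rw [show (6 : ℕ) = 3 * 2 from rfl, pow_mul, sq, klein_mul_self hV hm3]
  -- `m ^ 4` has order three and acts as `m`
  have hact : ∀ x ∈ V, m ^ 4 * x * (m ^ 4)⁻¹ = m * x * m⁻¹ := by
    intro x hx
    have h' := klein_comm hV hm3 (hmem x hx)
    calc m ^ 4 * x * (m ^ 4)⁻¹ = m ^ 3 * (m * x * m⁻¹) * (m ^ 3)⁻¹ := by group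
      _ = m * x * m⁻¹ := by rw [h', mul_inv_cancel_right]
  refine ⟨m ^ 4, orderOf_eq_prime (hp := ⟨Nat.prime_three⟩) ?_ ?_, pow_mem hmV 4,
    by rw [hact a ha, h1], by rw [hact b hb, hb2], by rw [hact _ (mul_mem ha hb), hb3]⟩
  · rw [← pow_mul, show 4 * 3 = 6 * 2 from rfl, pow_mul, h6, one_pow]
  · intro e
    have := hact a ha
    rw [e, h1, one_mul, inv_one, mul_one] at this
    exact hab this

/-- `⟨t⟩ × V` as a subgroup. -/
def E (V : Subgroup (PS F)) : Subgroup G where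
  carrier := {g | ∃ v ∈ V, g = f v ∨ g = t * f v}
  one_mem' := ⟨1, one_mem V, Or.inl (map_one f).symm⟩
  mul_mem' := by
    rintro a b ⟨v, hv, rfl | rfl⟩ ⟨v', hv', rfl | rfl⟩
    · exact ⟨_, mul_mem hv hv', Or.inl (map_mul f v v').symm⟩
    · refine ⟨_, mul_mem hv hv', Or.inr ?_⟩
      rw [map_mul, ← mul_assoc, ← D.comm, mul_assoc]
    · refine ⟨_, mul_mem hv hv', Or.inr ?_⟩
      rw [map_mul, mul_assoc]
    · refine ⟨_, mul_mem hv hv', Or.inl ?_⟩
      rw [map_mul, mul_assoc t, ← mul_assoc (f v), ← D.comm, ← mul_assoc, ← mul_assoc, D.sq_t,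
        one_mul]
  inv_mem' := by
    rintro a ⟨v, hv, rfl | rfl⟩
    · exact ⟨v⁻¹, inv_mem hv, Or.inl (map_inv f v).symm⟩
    · refine ⟨v⁻¹, inv_mem hv, Or.inr ?_⟩
      rw [D.comm, _root_.mul_inv_rev, D.t_inv, map_inv]

theorem Data.card_E {V : Subgroup (PS F)} (hV : IsKleinFour V) : Nat.card (E D V) = 8 := by
  rw [show (8 : ℕ) = Nat.card V + Nat.card V by rw [hV.card_four], ← Nat.card_sum]
  refine (Nat.card_eq_of_bijective (Sum.elim (fun k : V => (⟨f (k : PS F), k, k.2, Or.inl rfl⟩ : E D V))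
    (fun k : V => ⟨t * f (k : PS F), k, k.2, Or.inr rfl⟩)) ⟨?_, ?_⟩).symm
  · rintro (a | a) (b | b) h <;> replace h := congrArg Subtype.val h <;>
      simp only [Sum.elim_inl, Sum.elim_inr] at h
    · exact congrArg Sum.inl (Subtype.ext (D.inj h))
    · exact absurd h D.eq_of_f_eq_t_f
    · exact absurd h.symm D.eq_of_f_eq_t_f
    · exact congrArg Sum.inr (Subtype.ext (D.inj (mul_left_cancel h)))
  · rintro ⟨g, v, hv, rfl | rfl⟩
    exacts [⟨Sum.inl ⟨v, hv⟩, rfl⟩, ⟨Sum.inr ⟨v, hv⟩, rfl⟩]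

theorem Data.E_elem {V : Subgroup (PS F)} (hV : IsKleinFour V) :
    (∀ x ∈ E D V, x * x = 1) ∧ ∀ x ∈ E D V, ∀ y ∈ E D V, x * y = y * x := by
  have key : ∀ x ∈ E D V, x * x = 1 := by
    rintro x ⟨v, hv, rfl | rfl⟩
    · rw [← map_mul, klein_mul_self hV hv, map_one]
    · rw [mul_assoc, ← mul_assoc (f v), ← D.comm, ← mul_assoc, ← mul_assoc, D.sq_t, one_mul,
        ← map_mul, klein_mul_self hV hv, map_one]
  refine ⟨key, fun x hx y hy => ?_⟩
  have := key _ (mul_mem hx hy)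
  calc x * y = x⁻¹ * y⁻¹ := by
        rw [inv_eq_of_mul_eq_one_right (key x hx), inv_eq_of_mul_eq_one_right (key y hy)]
    _ = (y * x)⁻¹ := by group
    _ = y * x := inv_eq_of_mul_eq_one_right (key _ (mul_mem hy hx))

theorem Data.exists_sylow_E {V : Subgroup (PS F)} (hV : IsKleinFour V) :
    ∃ S : Sylow 2 G, (S : Subgroup G) = E D V := by
  haveI : Fact (Nat.Prime 2) := ⟨Nat.prime_two⟩
  have h2 : IsPGroup 2 (E D V) := IsPGroup.of_card (n := 3) (D.card_E hV)
  refine ⟨h2.toSylow ?_, h2.toSylow_coe _⟩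
  obtain ⟨o, ho, hc⟩ := D.card_PSL_twopart
  have hC := D.card_centralizer
  rw [← CfsgLib.Goldschmidt.PSL.card_PSL (PSL.two_ne D.h4), hc] at hC
  have e1 := Subgroup.card_mul_index (centralizer ({t} : Set G))
  have e2 := Subgroup.card_mul_index (E D V)
  rw [D.card_E hV, ← e1, hC] at e2
  rw [Nat.two_dvd_ne_zero, ← Nat.odd_iff,
    Nat.eq_of_mul_eq_mul_left (show 0 < 8 by norm_num)
      (show 8 * (E D V).index = 8 * (o * (centralizer ({t} : Set G)).index) by linarith)]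
  exact ho.mul D.odd_index

theorem Data.sylow_comm (S : Sylow 2 G) : IsMulCommutative ↥(S : Subgroup G) := by
  haveI : Fact (Nat.Prime 2) := ⟨Nat.prime_two⟩
  obtain ⟨V, hV⟩ := CfsgLib.JankoRee.exists_klein (F := F) (PSL.two_ne D.h4)
  obtain ⟨S', hS'⟩ := D.exists_sylow_E hV
  obtain ⟨e⟩ : Nonempty (↥(S : Subgroup G) ≃* ↥(S' : Subgroup G)) := ⟨S.equiv S'⟩
  refine ⟨⟨fun a b => e.injective ?_⟩⟩
  rw [map_mul, map_mul]
  exact Subtype.ext ((D.E_elem hV).2 _ (hS' ▸ (e a).2) _ (hS' ▸ (e b).2))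

/-- Conjugation by an element of `N_K(V)` preserves `⟨t⟩ × V`. -/
theorem Data.f_mem_normalizer_E {V : Subgroup (PS F)} {m : PS F}
    (hm : m ∈ normalizer (V : Set (PS F))) : f m ∈ normalizer (E D V : Set G) := by
  refine mem_normalizer_fintype ?_
  rintro x ⟨v, hv, rfl | rfl⟩
  · exact ⟨_, (mem_normalizer_iff.1 hm v).1 hv, Or.inl (by simp)⟩
  · refine ⟨_, (mem_normalizer_iff.1 hm v).1 hv, Or.inr ?_⟩
    rw [map_mul, map_mul, map_inv, ← mul_assoc (f m), ← D.comm, mul_assoc t, mul_assoc t]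

/-- Some element of `N(⟨t⟩ × V)` carries an involution of `V` to `t`. -/
theorem Data.exists_fuse {V : Subgroup (PS F)} (hV : IsKleinFour V) :
    ∃ n ∈ normalizer (E D V : Set G), ∃ s ∈ V, s ≠ 1 ∧ n * f s * n⁻¹ = t := by
  classical
  haveI : Fact (Nat.Prime 2) := ⟨Nat.prime_two⟩
  obtain ⟨S, hS⟩ := D.exists_sylow_E hV
  have htE : t ∈ E D V := ⟨1, one_mem V, Or.inr (by rw [map_one, mul_one])⟩
  set N := normalizer (E D V : Set G) with hN
  obtain ⟨n0, hn0, hne⟩ : ∃ n ∈ N, n * t * n⁻¹ ≠ t := by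
    by_contra h
    push Not at h
    refine D.t_ne (CfsgLib.Transfer.abelian_sylow_centralPart_inf_commutator S (D.sylow_comm S)
      (hS.symm ▸ htE) ?_ (by rw [D.perfect]; trivial))
    refine mem_centralizer_iff.mpr fun n hn => ?_
    exact mul_inv_eq_iff_eq_mul.1 (h n (by rwa [hN, ← hS]))
  by_contra hno
  push Not at hno
  have hnf : ∀ n ∈ N, ∀ v ∈ V, n * t * n⁻¹ = f v → False := by
    intro n hn v hv e
    have hv1 : v ≠ 1 := by
      rintro rfl
      rw [map_one] at e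
      exact D.t_ne (mul_left_cancel (mul_right_cancel (e.trans (by group : (1 : G) = n * 1 * n⁻¹))))
    refine hno n⁻¹ (inv_mem hn) v hv hv1 ?_
    rw [← e]; group
  obtain ⟨v0, hv0, hv0e⟩ : n0 * t * n0⁻¹ ∈ E D V := (mem_normalizer_iff.1 hn0 t).1 htE
  rcases hv0e with e0 | e0
  · exact hnf n0 hn0 v0 hv0 e0
  have hv01 : v0 ≠ 1 := fun e => hne (by rw [e0, e, map_one, mul_one])
  have horb : ∀ v ∈ V, IsConj t (t * f v) ∧ ∃ n ∈ N, n * t * n⁻¹ = t * f v := by
    intro v hv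
    suffices h : ∃ n ∈ N, n * t * n⁻¹ = t * f v by
      exact ⟨isConj_iff.2 ⟨h.choose, h.choose_spec.2⟩, h⟩
    by_cases hv1 : v = 1
    · exact ⟨1, one_mem _, by simp [hv1]⟩
    by_cases hvv : v0 = v
    · exact ⟨n0, hn0, hvv ▸ e0⟩
    obtain ⟨m, -, hmN, hmc, -, -⟩ := D.exists_cycle hV hv0 hv hv01 hv1 hvv
    refine ⟨f m * n0, mul_mem (D.f_mem_normalizer_E hmN) hn0, ?_⟩
    calc f m * n0 * t * (f m * n0)⁻¹ = f m * (n0 * t * n0⁻¹) * (f m)⁻¹ := by group
      _ = t * f v := by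
        rw [e0, ← mul_assoc, ← D.comm, mul_assoc t, mul_assoc t, ← map_inv, ← map_mul, ← map_mul,
          hmc]
  let t' : N := ⟨t, le_normalizer htE⟩
  have hcard : Nat.card {x : N // IsConj t' x} = 4 := by
    rw [← hV.card_four]
    refine (Nat.card_eq_of_bijective (fun v : V =>
      (⟨⟨t * f v, le_normalizer ⟨v, v.2, Or.inr rfl⟩⟩, by
        obtain ⟨n, hn, e⟩ := (horb v v.2).2
        exact isConj_iff.2 ⟨⟨n, hn⟩, Subtype.ext e⟩⟩ : {x : N // IsConj t' x}))
      ⟨fun a b h => ?_, fun x => ?_⟩).symm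
    · have := congrArg (fun z : {x : N // IsConj t' x} => ((z : N) : G)) h
      exact Subtype.ext (D.inj (mul_left_cancel this))
    · obtain ⟨⟨x, hxN⟩, hx⟩ := x
      obtain ⟨⟨c, hc⟩, hce⟩ := isConj_iff.1 hx
      have hce' : c * t * c⁻¹ = x := congrArg Subtype.val hce
      obtain ⟨v, hv, hxe⟩ : x ∈ E D V := hce' ▸ (mem_normalizer_iff.1 hc t).1 htE
      rcases hxe with e | e
      · exact (hnf c hc v hv (hce'.trans e)).elim
      · exact ⟨⟨v, hv⟩, Subtype.ext (Subtype.ext e.symm)⟩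
  have hodd : Odd (Nat.card {x : N // IsConj t' x}) := by
    rw [← CfsgLib.Char.index_centralizer_eq_card_isConj]
    have hle : (E D V).subgroupOf N ≤ centralizer ({t'} : Set N) := fun x hx =>
      mem_centralizer_singleton_iff.2 (Subtype.ext ((D.E_elem hV).2 _ hx _ htE))
    have h1 := Subgroup.index_dvd_of_le hle
    have h2 : ((E D V).subgroupOf N).index ∣ (E D V).index :=
      Subgroup.relIndex_dvd_index_of_le (hN ▸ le_normalizer)
    have h3 : Odd (E D V).index := by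
      rw [Nat.odd_iff, ← Nat.two_dvd_ne_zero, ← hS]
      exact S.not_dvd_index
    exact Odd.of_dvd_nat h3 (h1.trans h2)
  rw [hcard] at hodd
  exact absurd hodd (by decide)

/-- The configuration around a four-group through `t`. -/
theorem Data.exists_config :
    ∃ (v u m : PS F) (n : G), orderOf v = 2 ∧ u * u = 1 ∧ u ≠ 1 ∧ u ≠ v ∧ u * v = v * u ∧
      orderOf m = 3 ∧
      (n * t * n⁻¹ = f u ∨ n * t * n⁻¹ = t * f u) ∧
      (n * f m * n⁻¹) * t * (n * f m * n⁻¹)⁻¹ = f v ∧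
      (n * f m * n⁻¹) * f v * (n * f m * n⁻¹)⁻¹ = t * f v ∧
      (n * f m * n⁻¹) * (t * f v) * (n * f m * n⁻¹)⁻¹ = t ∧
      ∀ s : G, s * s = 1 → s ≠ 1 → IsConj t s := by
  classical
  haveI : Fact (Nat.Prime 2) := ⟨Nat.prime_two⟩
  have h2 := PSL.two_ne D.h4
  obtain ⟨V, hV⟩ := CfsgLib.JankoRee.exists_klein (F := F) h2
  obtain ⟨n, hn, s, hs, hs1, hnst⟩ := D.exists_fuse hV
  obtain ⟨S, hS⟩ := D.exists_sylow_E hV
  have htE : t ∈ E D V := ⟨1, one_mem V, Or.inr (by rw [map_one, mul_one])⟩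
  have hfE : ∀ x ∈ V, f x ∈ E D V := fun x hx => ⟨x, hx, Or.inl rfl⟩
  have hnE : ∀ x ∈ E D V, n * x * n⁻¹ ∈ E D V := fun x hx => (mem_normalizer_iff.1 hn x).1 hx
  have hninj : ∀ x y : G, n * x * n⁻¹ = n * y * n⁻¹ → x = y := fun x y h =>
    mul_left_cancel (mul_right_cancel h)
  haveI : Finite V := inferInstance
  obtain ⟨x, hx, hx1, hxs⟩ : ∃ x ∈ V, x ≠ 1 ∧ x ≠ s := by
    by_contra hc
    push Not at hc
    haveI : Fintype V := Fintype.ofFinite _
    have h : (Finset.univ : Finset V) ⊆ {1, ⟨s, hs⟩} := fun y _ => by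
      by_cases hy : (y : PS F) = 1
      · simp [Subtype.ext hy (a2 := (1 : V))]
      · have := hc y y.2 hy
        simp [Subtype.ext this (a2 := ⟨s, hs⟩)]
    have h' := (Finset.card_le_card h).trans Finset.card_le_two
    rw [Finset.card_univ, ← Nat.card_eq_fintype_card, hV.card_four] at h'
    omega
  obtain ⟨y, hy, hy1, hys, v, hv, hyv⟩ :
      ∃ y ∈ V, y ≠ 1 ∧ y ≠ s ∧ ∃ v ∈ V, n * f y * n⁻¹ = f v := by
    obtain ⟨v', hv', e | e⟩ := hnE _ (hfE x hx)
    · exact ⟨x, hx, hx1, hxs, v', hv', e⟩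
    · refine ⟨s * x, mul_mem hs hx, ?_, ?_, v', hv', ?_⟩
      · intro h
        exact hxs ((eq_inv_of_mul_eq_one_right h).trans
          (inv_eq_of_mul_eq_one_right (klein_mul_self hV hs)))
      · intro h
        exact hx1 (mul_eq_left.1 h)
      · rw [map_mul, ← conj_mul, hnst, e, ← mul_assoc, D.sq_t, one_mul]
  obtain ⟨m, hm3, hmN, hm1, hm2, hm3'⟩ := D.exists_cycle hV hs hy hs1 hy1 (Ne.symm hys)
  have hv1 : v ≠ 1 := by
    rintro rfl
    refine hy1 (D.inj (hninj _ _ ?_))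
    rw [hyv, map_one]; group
  have hsy : n * f (s * y) * n⁻¹ = t * f v := by rw [map_mul, ← conj_mul, hnst, hyv]
  have hw : ∀ a b : PS F, m * a * m⁻¹ = b →
      (n * f m * n⁻¹) * (n * f a * n⁻¹) * (n * f m * n⁻¹)⁻¹ = n * f b * n⁻¹ := by
    intro a b h
    rw [← h, map_mul, map_mul, map_inv]; group
  have w1 : (n * f m * n⁻¹) * t * (n * f m * n⁻¹)⁻¹ = f v := by
    conv_lhs => rw [← hnst]
    rw [hw s y hm1, hyv]
  have w2 : (n * f m * n⁻¹) * f v * (n * f m * n⁻¹)⁻¹ = t * f v := by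
    conv_lhs => rw [← hyv]
    rw [hw y (s * y) hm2, hsy]
  have w3 : (n * f m * n⁻¹) * (t * f v) * (n * f m * n⁻¹)⁻¹ = t := by
    conv_lhs => rw [← hsy]
    rw [hw (s * y) s hm3', hnst]
  obtain ⟨u, hu, hue⟩ := hnE t htE
  have hu1 : u ≠ 1 ∧ u ≠ v := by
    constructor <;> intro e <;> subst e <;> rcases hue with e' | e'
    · rw [map_one] at e'
      exact D.t_ne (hninj _ _ (e'.trans (by group)))
    · rw [map_one, mul_one] at e'
      exact D.ne s (hninj (f s) t (hnst.trans e'.symm))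
    · exact D.ne y (hninj (f y) t (hyv.trans e'.symm))
    · exact D.ne (s * y) (hninj (f (s * y)) t (hsy.trans e'.symm))
  refine ⟨v, u, m, n, orderOf_two_of (klein_mul_self hV hv) hv1, klein_mul_self hV hu, hu1.1, hu1.2,
    klein_comm hV hu hv, hm3, hue, w1, w2, w3, ?_⟩
  -- fusion of involutions
  have hconjV : ∀ a ∈ V, a ≠ 1 → IsConj t (f a) := fun a ha ha1 => by
    have h1 : IsConj t (f s) := (isConj_iff.2 ⟨n, hnst⟩).symm
    obtain ⟨c, hc⟩ := isConj_iff.1 (isConj_involutions h2 s a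
      (orderOf_two_of (klein_mul_self hV hs) hs1) (orderOf_two_of (klein_mul_self hV ha) ha1))
    exact h1.trans (isConj_iff.2 ⟨f c, by rw [← hc, map_mul, map_mul, map_inv]⟩)
  intro z hz hz1
  have hzp : IsPGroup 2 (zpowers z) := IsPGroup.of_card (n := 1) (by
    rw [Nat.card_zpowers, orderOf_two_of hz hz1, pow_one])
  obtain ⟨R, hR⟩ := hzp.exists_le_sylow
  obtain ⟨g, hg⟩ := MulAction.exists_smul_eq G R S
  have hgz : g * z * g⁻¹ ∈ E D V := by
    rw [← hS, ← hg]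
    exact smul_mem_pointwise_smul _ (MulAut.conj g) _ (hR (mem_zpowers z))
  have hgz1 : g * z * g⁻¹ ≠ 1 := fun e => hz1 (by
    have := congrArg (fun a => g⁻¹ * a * g) e
    simpa [mul_assoc] using this)
  refine IsConj.trans ?_ (isConj_iff.2 ⟨g, rfl⟩).symm
  obtain ⟨a, ha, e | e⟩ := hgz <;> rw [e] at hgz1 ⊢
  · exact hconjV a ha fun h => hgz1 (by rw [h, map_one])
  · by_cases ha1 : a = 1
    · rw [ha1, map_one, mul_one]
    have htv : IsConj t (t * f v) := (isConj_iff.2 ⟨n * f m * n⁻¹, w3⟩).symm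
    by_cases hav : v = a
    · exact hav ▸ htv
    obtain ⟨c, -, -, hc, -, -⟩ := D.exists_cycle hV hv ha hv1 ha1 hav
    refine htv.trans (isConj_iff.2 ⟨f c, ?_⟩)
    rw [← mul_assoc, ← D.comm, mul_assoc t, mul_assoc t, ← map_inv, ← map_mul, ← map_mul, hc]

end CfsgLib.Goldschmidt.Ree
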