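import Cfsg.Agent.Lib.LocalEven.Involves

/-!
Criteria for the absence of sections isomorphic to `S₄` and `S₃`.
-/

set_option autoImplicit false
set_option linter.style.haveILetI false

namespace CfsgLib.Goldschmidt

open Subgroup Cfsg

theorem card_centralizer_double_swap :
    Nat.card ↥(centralizer ({Equiv.swap 0 2 * Equiv.swap 1 3} : Set (Equiv.Perm (Fin 4)))) = 8 := by
  rw [Nat.card_congr (Equiv.subtypeEquivRight (q := fun x : Equiv.Perm (Fin 4) =>
    x * (Equiv.swap 0 2 * Equiv.swap 1 3) = Equiv.swap 0 2 * Equiv.swap 1 3 * x)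
    fun x => mem_centralizer_singleton_iff), Nat.card_eq_fintype_card]
  decide

theorem perm_four_sylow_not_comm :
    ∃ S : Sylow 2 (Equiv.Perm (Fin 4)), ¬ IsMulCommutative ↥(S : Subgroup (Equiv.Perm (Fin 4))) := by
  obtain ⟨S, hS⟩ := (IsPGroup.of_card (p := 2) (n := 3)
    card_centralizer_double_swap).exists_le_sylow
  refine ⟨S, fun hc => ?_⟩
  have h : Equiv.swap (1 : Fin 4) 3 * finRotate 4 = finRotate 4 * Equiv.swap 1 3 :=
    congrArg Subtype.val (hc.is_comm.comm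
    ⟨Equiv.swap 1 3, hS (mem_centralizer_singleton_iff.2 (by decide))⟩
    ⟨finRotate 4, hS (mem_centralizer_singleton_iff.2 (by decide))⟩)
  revert h
  decide

variable {G : Type*} [Group G]

theorem not_involves_four_of_abelian [Finite G]
    (hab : ∀ S : Sylow 2 G, IsMulCommutative ↥(S : Subgroup G)) :
    ¬ Involves (Equiv.Perm (Fin 4)) G := by
  intro h
  obtain ⟨K, f, hf⟩ := CfsgLib.LocalEven.exists_surjective_of_involves h
  haveI : Fact (Nat.Prime 2) := ⟨Nat.prime_two⟩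
  obtain ⟨R, hR⟩ := perm_four_sylow_not_comm
  obtain ⟨S, hS⟩ := Sylow.mapSurjective_surjective hf 2 R
  obtain ⟨T, hT⟩ := ((S.2).map K.subtype).exists_le_sylow
  refine hR ⟨⟨fun a b => Subtype.ext ?_⟩⟩
  have ha : (a : Equiv.Perm (Fin 4)) ∈ ((S.mapSurjective hf : Sylow 2 _) : Subgroup _) := by
    rw [hS]; exact a.2
  have hb : (b : Equiv.Perm (Fin 4)) ∈ ((S.mapSurjective hf : Sylow 2 _) : Subgroup _) := by
    rw [hS]; exact b.2
  rw [Sylow.coe_mapSurjective] at ha hb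
  obtain ⟨x, hx, hxa⟩ := ha
  obtain ⟨y, hy, hyb⟩ := hb
  have hxy : x * y = y * x := K.subtype_injective (by
    rw [map_mul, map_mul]
    exact congrArg Subtype.val ((hab T).is_comm.comm ⟨_, hT ⟨x, hx, rfl⟩⟩ ⟨_, hT ⟨y, hy, rfl⟩⟩))
  show (a : Equiv.Perm (Fin 4)) * b = b * a
  rw [← hxa, ← hyb, ← map_mul, ← map_mul, hxy]

/-- `S₃` is absent exactly when no 2-element inverts a nontrivial 3-element. -/
theorem involves_three_iff [Finite G] :
    Involves (Equiv.Perm (Fin 3)) G ↔ ∃ x y : G, (∃ k : ℕ, orderOf x = 2 ^ k) ∧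
      (∃ k : ℕ, orderOf y = 3 ^ k) ∧ y ≠ 1 ∧ x * y * x⁻¹ = y⁻¹ := by
  haveI : Fact (Nat.Prime 3) := ⟨Nat.prime_three⟩
  constructor
  · intro h
    obtain ⟨K, f, hf⟩ := CfsgLib.LocalEven.exists_surjective_of_involves h
    obtain ⟨x, y, hx, hy, hy1, hxy⟩ := CfsgLib.LocalEven.exists_inverted (p := 3) (by decide)
      (CfsgLib.LocalEven.dihedralThreeEquiv.symm.toMonoidHom.comp f)
      (CfsgLib.LocalEven.dihedralThreeEquiv.symm.surjective.comp hf)
    refine ⟨x, y, ?_, ?_, ?_, ?_⟩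
    · simpa [Subgroup.orderOf_coe] using hx
    · simpa [Subgroup.orderOf_coe] using hy
    · intro e
      exact hy1 (by rw [Subtype.ext (e.trans K.coe_one.symm) (a1 := y), map_one])
    · simpa using congrArg Subtype.val hxy
  · rintro ⟨x, y, hx, hy, hy1, hxy⟩
    obtain ⟨K, R, hn, ⟨e⟩⟩ := CfsgLib.LocalEven.involves_dihedral (p := 3) (by decide) hx hy hy1 hxy
    exact ⟨K, R, hn, ⟨e.trans CfsgLib.LocalEven.dihedralThreeEquiv⟩⟩

theorem involves_three_of_orderOf [Finite G] {x y : G} (hx : orderOf x = 2) (hy : orderOf y = 3)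
    (hxy : x * y * x⁻¹ = y⁻¹) : Involves (Equiv.Perm (Fin 3)) G :=
  involves_three_iff.2 ⟨x, y, ⟨1, hx⟩, ⟨1, hy⟩, fun e => by simp [e] at hy, hxy⟩

end CfsgLib.Goldschmidt
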