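import Cfsg.Agent.Lib.Goldschmidt.ReeColumns
import Cfsg.Agent.Lib.Goldschmidt.KleinBound
import Cfsg.Agent.Lib.Goldschmidt.Sections

/-!
Groups of Ree type involve `S₃`: with the element of order three centralizing the torus, the
centralizer of the torus is too small for the Sylow 3-subgroup acting on it.
-/

set_option autoImplicit false
set_option linter.unusedSectionVars false
set_option linter.style.haveILetI false

namespace CfsgLib.Goldschmidt.Ree

open Subgroup CfsgLib.PSL2Sub Cfsg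

variable {G : Type*} [Group G] [Finite G] {F : Type*} [Field F] [Fintype F]
variable {t : G} {f : PS F →* G} (D : Data t f)

section

variable {T : Subgroup G} {a w e : G} (Tr : Torus t f T a w e)
include D Tr

theorem Data.cent_t_cent_k {k g : G} (hk : k ∈ T) (hk1 : k ≠ 1) (hgt : g * t = t * g)
    (hgk : g * k = k * g) :
    g ∈ centralizer (T : Set G) ∧ g ^ (2 * Nat.card T) = 1 := by
  obtain ⟨hodd, hpow, -⟩ := D.n1_facts Tr
  obtain ⟨l, hl, h⟩ := Tr.cent k hk hk1 g hgt hgk
  have hWT : ∀ (s : G), s * s = 1 → (∀ x ∈ T, s * x = x * s) →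
      s * l ∈ centralizer (T : Set G) ∧ (s * l) ^ (2 * Nat.card T) = 1 := by
    intro s hs hsx
    refine ⟨mem_centralizer_iff.2 fun x hx => ?_, ?_⟩
    · exact ((show Commute x s from (hsx x hx).symm).mul_right (Tr.comm x hx l hl)).eq
    · rw [(show Commute s l from hsx l hl).mul_pow, pow_mul, sq, hs, one_pow, one_mul, mul_comm 2,
        pow_mul, hpow l hl, one_pow]
  rcases h with rfl | rfl | rfl | rfl
  · simpa using hWT 1 (one_mul 1) fun x _ => by simp
  · exact hWT t D.sq_t fun x hx => (Tr.commT x hx).symm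
  · exact hWT a Tr.a_sq fun x hx => (Tr.commA x hx).symm
  · refine hWT (t * a) ?_ fun x hx => ?_
    · rw [mul_assoc, ← mul_assoc a, Tr.a_comm, ← mul_assoc, ← mul_assoc, D.sq_t, one_mul, Tr.a_sq]
    · rw [mul_assoc, ← Tr.commA x hx, ← mul_assoc, ← Tr.commT x hx, mul_assoc]

theorem Data.card_centT_le (hw : ∀ k ∈ T, w * k = k * w) :
    ∃ h : ℕ, Nat.card ↥(centralizer (T : Set G)) = Nat.card T * h ∧ 4 ∣ h ∧ 3 ∣ h ∧ h ≤ 61 := by
  classical
  obtain ⟨hodd, hpow, hn3⟩ := D.n1_facts Tr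
  obtain ⟨-, h27, -, -⟩ := D.q_facts
  obtain ⟨k0, hk0, hk01⟩ : ∃ k ∈ T, k ≠ 1 := by
    by_contra h
    push Not at h
    have := Tr.card
    rw [(eq_bot_iff_forall T).2 h, card_bot] at this
    omega
  set C := centralizer (T : Set G) with hC
  have hTC : T ≤ C := fun x hx => mem_centralizer_iff.2 fun l hl => Tr.comm l hl x hx
  have htC : t ∈ C := mem_centralizer_iff.2 fun l hl => Tr.commT l hl
  have haC : a ∈ C := mem_centralizer_iff.2 fun l hl => Tr.commA l hl
  have hwC : w ∈ C := mem_centralizer_iff.2 fun l hl => (hw l hl).symm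
  set N := T.subgroupOf C with hN
  haveI : N.Normal := ⟨fun n hn g => by
    show ((g * n * g⁻¹ : C) : G) ∈ T
    have h := mem_centralizer_iff.1 g.2 (n : G) hn
    simp only [Subgroup.coe_mul, InvMemClass.coe_inv]
    rw [← h, mul_inv_cancel_right]
    exact hn⟩
  let π := QuotientGroup.mk' N
  have hNcard : Nat.card N = Nat.card T := Nat.card_congr (subgroupOfEquivOfLe hTC).toEquiv
  have hcard : Nat.card C = Nat.card T * Nat.card (C ⧸ N) := by
    rw [card_eq_card_quotient_mul_card_subgroup N, hNcard, mul_comm]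
  let t' : C := ⟨t, htC⟩
  let a' : C := ⟨a, haC⟩
  let w' : C := ⟨w, hwC⟩
  have hTinv : ∀ s ∈ T, s * s = 1 → s = 1 := by
    intro s hs hss
    obtain ⟨r, hr⟩ := hodd
    have := hpow s hs
    rwa [hr, pow_succ, pow_mul, sq, hss, one_pow, one_mul] at this
  have ht1 : π t' ≠ 1 := fun h => D.t_ne (hTinv t ((QuotientGroup.eq_one_iff t').1 h) D.sq_t)
  have hsq : π t' * π t' = 1 := by
    rw [← map_mul]; exact congrArg π (Subtype.ext D.sq_t) |>.trans (map_one π)
  -- the centralizer of the image of `t`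
  have hcases : ∀ x ∈ centralizer ({π t'} : Set (C ⧸ N)),
      x = 1 ∨ x = π t' ∨ x = π a' ∨ x = π (t' * a') := by
    intro x hx
    obtain ⟨g, rfl⟩ := QuotientGroup.mk'_surjective N x
    rw [mem_centralizer_singleton_iff, ← map_mul, ← map_mul] at hx
    have hk : ((t' * g)⁻¹ * (g * t') : C).1 ∈ T := (QuotientGroup.eq (s := N)).1 hx.symm
    set k := ((t' * g)⁻¹ * (g * t') : C).1 with hkdef
    have hgt : (g : G) * t = t * g * k := by simp [hkdef, t', mul_assoc]
    have hcT : ∀ z : C, ∀ l ∈ T, Commute (z : G) l := fun z l hl =>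
      (mem_centralizer_iff.1 z.2 l hl).symm
    have hk2 : k * k = 1 := by
      have h1 : (g : G) * t * (g : G)⁻¹ = t * k := by
        rw [hgt, mul_assoc t, (hcT g k hk).eq, ← mul_assoc, mul_inv_cancel_right]
      have h2 : (t * k) * (t * k) = 1 := by rw [← h1, conj_mul, D.sq_t]; group
      rwa [mul_assoc, ← mul_assoc k, Tr.commT k hk, ← mul_assoc, ← mul_assoc, D.sq_t, one_mul] at h2
    rw [hTinv k hk hk2, mul_one] at hgt
    obtain ⟨l, hl, h⟩ := Tr.cent k0 hk0 hk01 g hgt (hcT g k0 hk0).eq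
    let l' : C := ⟨l, hTC hl⟩
    have hl1 : π l' = 1 := (QuotientGroup.eq_one_iff l').2 hl
    rcases h with h | h | h | h
    · left; rw [show g = l' from Subtype.ext h, hl1]
    · right; left; rw [show g = t' * l' from Subtype.ext h, map_mul, hl1, mul_one]
    · right; right; left; rw [show g = a' * l' from Subtype.ext h, map_mul, hl1, mul_one]
    · right; right; right; rw [show g = t' * a' * l' from Subtype.ext h, map_mul, hl1, mul_one]
  have hwt : π w' * π t' * (π w')⁻¹ = π a' := by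
    rw [← map_inv, ← map_mul, ← map_mul]; exact congrArg π (Subtype.ext Tr.w_t)
  have hwa : π w' * π a' * (π w')⁻¹ = π (t' * a') := by
    rw [← map_inv, ← map_mul, ← map_mul]; exact congrArg π (Subtype.ext Tr.w_a)
  have hconj : ∀ x ∈ centralizer ({π t'} : Set (C ⧸ N)), x ≠ 1 → IsConj (π t') x := by
    intro x hx hx1
    rcases hcases x hx with h | h | h | h
    · exact absurd h hx1
    · exact h ▸ IsConj.refl _
    · exact h ▸ isConj_iff.2 ⟨π w', hwt⟩
    · exact h ▸ (isConj_iff.2 ⟨π w', hwt⟩).trans (isConj_iff.2 ⟨π w', hwa⟩)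
  have hsqs : ∀ x ∈ centralizer ({π t'} : Set (C ⧸ N)), x * x = 1 := by
    intro x hx
    rcases eq_or_ne x 1 with rfl | hx1
    · exact one_mul 1
    obtain ⟨c, rfl⟩ := isConj_iff.1 (hconj x hx hx1)
    rw [conj_mul, hsq]; group
  have ha1 : π a' ≠ 1 := fun h => Tr.a_ne (hTinv a ((QuotientGroup.eq_one_iff a').1 h) Tr.a_sq)
  have hat : π a' ≠ π t' := by
    intro h
    have hk : ((a' : C)⁻¹ * t' : C).1 ∈ T := (QuotientGroup.eq (s := N)).1 h
    have hk' : a * t ∈ T := by
      simpa [a', t', inv_eq_of_mul_eq_one_right Tr.a_sq] using hk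
    refine Tr.a_ne_t ((eq_inv_of_mul_eq_one_left (hTinv _ hk' ?_)).trans D.t_inv)
    rw [mul_assoc, ← mul_assoc t, ← Tr.a_comm, mul_assoc a t t, D.sq_t, mul_one, Tr.a_sq]
  have htc : π t' * π a' = π a' * π t' := by
    rw [← map_mul, ← map_mul]; exact congrArg π (Subtype.ext Tr.a_comm.symm)
  have h4 : Nat.card ↥(centralizer ({π t'} : Set (C ⧸ N))) = 4 := by
    let S : Finset (C ⧸ N) := {1, π t', π a', π (t' * a')}
    have hS : ∀ x, x ∈ centralizer ({π t'} : Set (C ⧸ N)) ↔ x ∈ S := by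
      intro x
      constructor
      · intro hx
        simpa [S] using hcases x hx
      · intro hx
        simp only [S, Finset.mem_insert, Finset.mem_singleton] at hx
        rw [mem_centralizer_singleton_iff]
        rcases hx with rfl | rfl | rfl | rfl
        · simp
        · rfl
        · exact htc.symm
        · rw [map_mul, mul_assoc, ← htc]
    rw [Nat.card_congr (Equiv.subtypeEquivRight hS), Nat.card_eq_fintype_card, Fintype.card_coe]
    have hta : π (t' * a') = π t' * π a' := map_mul π t' a'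
    have e1 : π t' * π a' ≠ 1 := fun h => hat (by
      rw [eq_inv_of_mul_eq_one_right h, inv_eq_of_mul_eq_one_right hsq])
    have e2 : π t' * π a' ≠ π t' := fun h => ha1 (mul_eq_left.1 h)
    have e3 : π t' * π a' ≠ π a' := fun h => ht1 (mul_eq_right.1 h)
    rw [Finset.card_insert_of_notMem, Finset.card_insert_of_notMem, Finset.card_insert_of_notMem,
      Finset.card_singleton] <;>
      simp [hta, ht1.symm, ha1.symm, hat.symm, e1.symm, e2.symm, e3.symm]
  refine ⟨Nat.card (C ⧸ N), hcard, ?_, ?_, klein_bound hsq ht1 h4 hsqs hconj⟩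
  · rw [← h4]; exact card_subgroup_dvd_card _
  · have h3 : orderOf (π w') ∣ 3 := orderOf_dvd_of_pow_eq_one (by
      rw [← map_pow, show w' ^ 3 = 1 from Subtype.ext Tr.w_three, map_one])
    rcases (Nat.dvd_prime Nat.prime_three).1 h3 with h | h
    · exfalso
      have hwT := (QuotientGroup.eq_one_iff w').1 (orderOf_eq_one_iff.1 h)
      have := pow_gcd_eq_one.2 ⟨hpow w hwT, Tr.w_three⟩
      rw [hn3.gcd_eq_one, pow_one] at this
      exact Tr.w_ne this
    · exact h ▸ orderOf_dvd_natCard _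

end

include D

theorem Data.not_noInv : ¬ NoInv G := by
  classical
  intro hno
  haveI : Fact (Nat.Prime 3) := ⟨Nat.prime_three⟩
  obtain ⟨T, a, w, e, Tr, g, m, hm, hgw, hge⟩ := D.exists_torus
  have hw := D.w_centralizes Tr hno
  obtain ⟨hodd, hpow, hn3⟩ := D.n1_facts Tr
  obtain ⟨-, h27, -, h5⟩ := D.q_facts
  obtain ⟨h, hh⟩ := D.exists_U_conj hm
  set g' := f h * g with hg'
  set φ := (MulAut.conj g').toMonoidHom with hφ
  have hφa : ∀ x, φ x = g' * x * g'⁻¹ := fun x => rfl
  have hφinj : Function.Injective φ := (MulAut.conj g').injective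
  have hφw : φ w = f (h * m * h⁻¹) := by
    rw [map_mul f, map_mul f, map_inv, ← hgw, hφa, hg']; group
  have hφe : φ e = t := by
    rw [hφa, hg', show f h * g * e * (f h * g)⁻¹ = f h * (g * e * g⁻¹) * (f h)⁻¹ by group, hge,
      ← D.comm, mul_inv_cancel_right]
  set y := φ w with hy
  have hyP : y ∈ Pthree D := ⟨_, hh, hφw.symm⟩
  have hy1 : y ≠ 1 := fun h => Tr.w_ne (hφinj (h.trans (map_one φ).symm))
  obtain ⟨J, hJC, hCJ, hJ3, hJodd, -, hJcomm, hJmem⟩ := D.cent_three hno hyP hy1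
  set J' := J.comap φ with hJ'
  set P' := (Pthree D).comap φ with hP'
  have hord : ∀ x, orderOf (φ x) = orderOf x := fun x => orderOf_injective φ hφinj x
  have hcentw : ∀ x, x * w = w * x → φ x ∈ centralizer ({y} : Set G) := fun x hx => by
    rw [mem_centralizer_singleton_iff, hy, ← map_mul, hx, map_mul]
  have hTJ : T ≤ J' := by
    intro x hx
    have hd : orderOf x ∣ Nat.card T := orderOf_dvd_of_pow_eq_one (hpow x hx)
    refine hJmem (φ x) (hcentw x (hw x hx).symm) ?_ ?_
    · rw [hord]; exact hodd.of_dvd_nat hd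
    · rw [hord]
      intro h3
      exact (Nat.Prime.coprime_iff_not_dvd Nat.prime_three).1 hn3.symm (h3.trans hd)
  have hJ'comm : ∀ x ∈ J', ∀ z ∈ J', x * z = z * x := fun x hx z hz =>
    hφinj (by rw [map_mul, map_mul]; exact hJcomm _ hx _ hz)
  set C := centralizer (T : Set G) with hC
  have hJ'C : J' ≤ C := fun x hx => mem_centralizer_iff.2 fun l hl => hJ'comm l (hTJ hl) x hx
  obtain ⟨nH, hcardC, h4H, h3H, hH⟩ := D.card_centT_le Tr hw
  obtain ⟨j, hj⟩ := card_dvd_of_le hTJ
  have hJ'card : Nat.card J' = Nat.card J := by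
    refine Nat.card_congr (Equiv.subtypeEquiv (MulAut.conj g').toEquiv fun x => Iff.rfl)
  have hjH : j ∣ nH := by
    have := card_dvd_of_le hJ'C
    rw [hj, hcardC] at this
    exact Nat.dvd_of_mul_dvd_mul_left Nat.card_pos this
  have hjodd : Odd j := (hJodd.of_dvd_nat (hJ'card ▸ hj ▸ dvd_mul_left j _))
  have hj3 : ¬ 3 ∣ j := fun h3 => hJ3 (h3.trans (hJ'card ▸ hj ▸ dvd_mul_left j _))
  have h12 : 12 * j ∣ nH := by
    refine Nat.Coprime.mul_dvd_of_dvd_of_dvd ?_ (Nat.Coprime.mul_dvd_of_dvd_of_dvd (by norm_num)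
      h4H h3H : 4 * 3 ∣ nH) hjH
    rw [show (12 : ℕ) = 2 ^ 2 * 3 from rfl]
    exact Nat.Coprime.mul_left (Nat.Coprime.pow_left 2 (Nat.coprime_two_left.2 hjodd))
      ((Nat.Prime.coprime_iff_not_dvd Nat.prime_three).2 hj3)
  have hnHpos : 0 < nH := by
    by_contra h0
    rw [Nat.eq_zero_of_not_pos h0, mul_zero] at hcardC
    exact Nat.card_pos.ne' hcardC
  have hj5 : j = 1 ∨ j = 5 := by
    have := Nat.le_of_dvd hnHpos h12
    obtain ⟨r, hr⟩ := hjodd
    omega
  have hcopj : Nat.Coprime j (Nat.card T) := by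
    rcases hj5 with rfl | rfl
    · exact Nat.coprime_one_left _
    · rw [Nat.Prime.coprime_iff_not_dvd (by norm_num)]
      intro h
      exact h5 (Tr.card ▸ dvd_mul_of_dvd_right h 4)
  have hTchar : ∀ x ∈ J', x ^ Nat.card T = 1 → x ∈ T := by
    intro x hx hxn
    haveI : (T.subgroupOf J').Normal := ⟨fun n hn g => by
      show ((g * n * g⁻¹ : J') : G) ∈ T
      simp only [Subgroup.coe_mul, InvMemClass.coe_inv]
      rw [hJ'comm _ g.2 _ n.2, mul_inv_cancel_right]
      exact hn⟩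
    have hidx : (T.subgroupOf J').index = j := by
      have := card_mul_index (T.subgroupOf J')
      rw [Nat.card_congr (subgroupOfEquivOfLe hTJ).toEquiv, hj] at this
      exact Nat.eq_of_mul_eq_mul_left Nat.card_pos this
    have h1 := pow_index_mem (T.subgroupOf J') (⟨x, hx⟩ : J')
    rw [hidx] at h1
    have h1' : x ^ j ∈ T := h1
    have e : x ^ ((Nat.gcd j (Nat.card T) : ℕ) : ℤ) =
        (x ^ j) ^ (Nat.gcdA j (Nat.card T)) * (x ^ Nat.card T) ^ (Nat.gcdB j (Nat.card T)) := by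
      rw [Nat.gcd_eq_gcd_ab, zpow_add, zpow_mul, zpow_mul, zpow_natCast, zpow_natCast]
    rw [hcopj.gcd_eq_one, Nat.cast_one, zpow_one, hxn, one_zpow, mul_one] at e
    rw [e]
    exact zpow_mem h1' _
  have hP'w : ∀ p ∈ P', p * w = w * p := fun p hp =>
    hφinj (by rw [map_mul, map_mul]; exact D.P_comm hp hyP)
  have hPT : ∀ p ∈ P', ∀ k ∈ T, p * k * p⁻¹ ∈ T := by
    intro p hp k hk
    refine hTchar _ ?_ (by rw [conj_pow, hpow k hk]; group)
    show φ (p * k * p⁻¹) ∈ J
    rw [map_mul, map_mul, map_inv]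
    exact (mem_normalizer_iff.1 (hCJ (hcentw p (hP'w p hp))) _).1 (hTJ hk)
  obtain ⟨k0, hk0, hk01⟩ : ∃ k ∈ T, k ≠ 1 := by
    by_contra h
    push Not at h
    have := Tr.card
    rw [(eq_bot_iff_forall T).2 h, card_bot] at this
    omega
  have hfree : ∀ p ∈ P', p * t = t * p → p = 1 := by
    intro p hp hpt
    obtain ⟨i, hi⟩ := D.odd_order_of_three D.isPGroup_P (hp : φ p ∈ Pthree D)
    rw [hord] at hi
    have hfix : p * k0 * p⁻¹ = k0 := by
      rcases Tr.fusion k0 hk0 _ (hPT p hp k0 hk0) (isConj_iff.2 ⟨p, by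
        rw [← mul_assoc, hpt]; group⟩) with h | h
      · exact h
      · exfalso
        have hsq : p ^ 2 * k0 * (p ^ 2)⁻¹ = k0 := by
          calc p ^ 2 * k0 * (p ^ 2)⁻¹ = p * (p * k0 * p⁻¹) * p⁻¹ := by simp [sq, mul_assoc]
            _ = p * k0⁻¹ * p⁻¹ := by rw [h]
            _ = (p * k0 * p⁻¹)⁻¹ := by group
            _ = k0 := by rw [h, inv_inv]
        have hc : Commute (p ^ 2) k0 := mul_inv_eq_iff_eq_mul.1 hsq
        obtain ⟨r, hr⟩ : Odd (orderOf p) := by rw [hi]; exact Odd.pow (by decide)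
        have hp1 : p = (p ^ 2) ^ (r + 1) := by
          rw [← pow_mul, show 2 * (r + 1) = orderOf p + 1 by omega, pow_succ, pow_orderOf_eq_one,
            one_mul]
        have hc' : Commute p k0 := hp1 ▸ hc.pow_left (r + 1)
        rw [hc'.eq, mul_inv_cancel_right] at h
        exact hk01 (by
          obtain ⟨r', hr'⟩ := hodd
          have h1 := hpow k0 hk0
          have h2 : k0 * k0 = 1 := by nth_rewrite 1 [h]; exact inv_mul_cancel k0
          rwa [hr', pow_succ, pow_mul, sq, h2, one_pow, one_mul] at h1)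
    obtain ⟨-, h2⟩ := D.cent_t_cent_k Tr hk0 hk01 hpt (mul_inv_eq_iff_eq_mul.1 hfix)
    have h3 : p ^ (3 ^ i) = 1 := hi ▸ pow_orderOf_eq_one p
    have := pow_gcd_eq_one.2 ⟨h2, h3⟩
    rwa [Nat.Coprime.gcd_eq_one ((Nat.Coprime.mul_left (by norm_num) hn3).pow_right i), pow_one] at this
  -- the orbit of `t`
  have htC : t ∈ C := mem_centralizer_iff.2 fun l hl => Tr.commT l hl
  have hwC : w ∈ C := mem_centralizer_iff.2 fun l hl => (hw l hl).symm
  let t' : C := ⟨t, htC⟩
  haveI : Fact (Nat.Prime 2) := ⟨Nat.prime_two⟩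
  obtain ⟨R, hR⟩ : ∃ R : Sylow 2 C, t' ∈ (R : Subgroup C) := by
    obtain ⟨R, hR⟩ := (IsPGroup.of_card (n := 1) (p := 2) (G := zpowers t') (by
      rw [Nat.card_zpowers, ← Subgroup.orderOf_coe, D.ht, pow_one])).exists_le_sylow
    exact ⟨R, hR (mem_zpowers t')⟩
  obtain ⟨S, hS⟩ := (R.2.map C.subtype).exists_le_sylow
  have hinvC : ∀ s : C, s * s = 1 → s ≠ 1 → IsConj t' s := by
    intro s hs hs1
    obtain ⟨R', hR'⟩ := (IsPGroup.of_card (n := 1) (p := 2) (G := zpowers s) (by
      rw [Nat.card_zpowers, orderOf_two_of hs hs1, pow_one])).exists_le_sylow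
    obtain ⟨c, hc⟩ := MulAction.exists_smul_eq C R' R
    have hx : c * s * c⁻¹ ∈ (R : Subgroup C) := by
      rw [← hc]
      exact smul_mem_pointwise_smul _ (MulAut.conj c) _ (hR' (mem_zpowers s))
    set x := c * s * c⁻¹ with hxdef
    have hx2 : x * x = 1 := by rw [hxdef, conj_mul, hs]; group
    have hx1 : x ≠ 1 := fun h => hs1 (conj_eq_one_iff.1 h)
    refine IsConj.trans ?_ (isConj_iff.2 ⟨c⁻¹, show c⁻¹ * x * c⁻¹⁻¹ = s by rw [hxdef]; group⟩)
    have hxt : (x : G) * t = t * x := congrArg Subtype.val ((D.sylow_comm S).is_comm.comm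
      ⟨x, hS ⟨x, hx, rfl⟩⟩ ⟨t, hS ⟨t', hR, rfl⟩⟩)
    obtain ⟨l, hl, hcase⟩ := Tr.cent k0 hk0 hk01 x hxt (mem_centralizer_iff.1 x.2 k0 hk0).symm
    have hxx : (x : G) * x = 1 := congrArg Subtype.val hx2
    have hWl : ∀ s : G, s * s = 1 → (∀ z ∈ T, s * z = z * s) → (x : G) = s * l → (x : G) = s := by
      intro s hss hsz he
      rw [he, mul_assoc, ← mul_assoc l, ← hsz l hl, ← mul_assoc, ← mul_assoc, hss, one_mul] at hxx
      obtain ⟨r, hr⟩ := hodd
      have := hpow l hl
      rw [hr, pow_succ, pow_mul, sq, hxx, one_pow, one_mul] at this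
      rw [he, this, mul_one]
    have h1 : IsConj t' (⟨a, mem_centralizer_iff.2 fun z hz => Tr.commA z hz⟩ : C) :=
      isConj_iff.2 ⟨⟨w, hwC⟩, Subtype.ext Tr.w_t⟩
    rcases hcase with he | he | he | he
    · exfalso
      exact hx1 (Subtype.ext (hWl 1 (one_mul 1) (fun z _ => by simp) (by rw [one_mul]; exact he)))
    · rw [show x = t' from Subtype.ext (hWl t D.sq_t (fun z hz => (Tr.commT z hz).symm) he)]
    · rw [show x = (⟨a, mem_centralizer_iff.2 fun z hz => Tr.commA z hz⟩ : C) from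
        Subtype.ext (hWl a Tr.a_sq (fun z hz => (Tr.commA z hz).symm) he)]
      exact h1
    · have := hWl (t * a) (by
          rw [mul_assoc, ← mul_assoc a, Tr.a_comm, ← mul_assoc, ← mul_assoc, D.sq_t, one_mul, Tr.a_sq])
        (fun z hz => by rw [mul_assoc, ← Tr.commA z hz, ← mul_assoc, ← Tr.commT z hz, mul_assoc]) he
      exact h1.trans (isConj_iff.2 ⟨⟨w, hwC⟩, Subtype.ext (by
        show w * a * w⁻¹ = (x : G)
        rw [Tr.w_a, this])⟩)
  have hPC : ∀ p ∈ P', p * t * p⁻¹ ∈ C := fun p hp => mem_centralizer_iff.2 fun l hl => by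
    have hl' := hPT p⁻¹ (inv_mem hp) l hl
    rw [inv_inv] at hl'
    have h := Tr.commT _ hl'
    calc l * (p * t * p⁻¹) = p * ((p⁻¹ * l * p) * t) * p⁻¹ := by group
      _ = p * (t * (p⁻¹ * l * p)) * p⁻¹ := by rw [h]
      _ = p * t * p⁻¹ * l := by group
  have horb : Nat.card P' ≤ Nat.card {s : C // IsConj t' s} := by
    refine Nat.card_le_card_of_injective (fun p => (⟨⟨p * t * (p : G)⁻¹, hPC p p.2⟩, hinvC _
      (Subtype.ext (by show _ * _ = (1 : G); rw [conj_mul, D.sq_t]; group))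
      (fun h => D.t_ne (conj_eq_one_iff.1 (congrArg Subtype.val h : (p : G) * t * (p : G)⁻¹ = 1)))⟩ :
      {s : C // IsConj t' s})) ?_
    intro p q hpq
    have he : (p : G) * t * (p : G)⁻¹ = q * t * (q : G)⁻¹ :=
      congrArg (fun z : {s : C // IsConj t' s} => ((z : C) : G)) hpq
    have := hfree ((q : G)⁻¹ * p) (mul_mem (inv_mem q.2) p.2) (by
      calc (q : G)⁻¹ * p * t = (q : G)⁻¹ * (p * t * (p : G)⁻¹) * p := by group
        _ = t * ((q : G)⁻¹ * p) := by rw [he]; group)
    exact Subtype.ext (inv_mul_eq_one.1 this).symm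
  have hP'card : Nat.card P' = Fintype.card F := by
    rw [← D.card_P]
    exact Nat.card_congr (Equiv.subtypeEquiv (MulAut.conj g').toEquiv fun x => Iff.rfl)
  have hidx := CfsgLib.Char.card_isConj_mul_card_centralizer t'
  have hle4 : 4 * Nat.card T ≤ Nat.card ↥(centralizer ({t'} : Set C)) := by
    rw [Tr.card, ← D.card_cent_tk Tr hk0 hk01]
    have key : ∀ x ∈ centralizer ({t * k0} : Set G), x * t = t * x ∧ x ∈ C := by
      intro x hx
      rw [mem_centralizer_singleton_iff, ← mul_inv_eq_iff_eq_mul] at hx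
      obtain ⟨hxt, hxk⟩ := D.split_conj hodd (Tr.commT k0 hk0) (hpow k0 hk0) (Tr.commT k0 hk0)
        (hpow k0 hk0) hx
      exact ⟨hxt, (D.cent_t_cent_k Tr hk0 hk01 hxt (mul_inv_eq_iff_eq_mul.1 hxk)).1⟩
    refine Nat.card_le_card_of_injective (fun x : centralizer ({t * k0} : Set G) =>
      (⟨⟨x, (key x x.2).2⟩, mem_centralizer_singleton_iff.2 (Subtype.ext (key x x.2).1)⟩ :
        centralizer ({t'} : Set C))) fun x z h => ?_
    exact Subtype.ext (congrArg (fun u : centralizer ({t'} : Set C) => ((u : C) : G)) h)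
  rw [hcardC] at hidx
  rw [hP'card] at horb
  have h61 : Nat.card {s : C // IsConj t' s} * 4 ≤ 61 := by
    refine Nat.le_of_mul_le_mul_right ?_ (Nat.card_pos (α := T))
    calc Nat.card {s : C // IsConj t' s} * 4 * Nat.card T
        = Nat.card {s : C // IsConj t' s} * (4 * Nat.card T) := by ring
      _ ≤ Nat.card T * nH := hidx ▸ Nat.mul_le_mul_left _ hle4
      _ ≤ 61 * Nat.card T := by rw [mul_comm (Nat.card T)]; exact Nat.mul_le_mul_right _ hH
  omega

end CfsgLib.Goldschmidt.Ree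

namespace CfsgLib.Goldschmidt

open Subgroup Cfsg

theorem noInv_of_not_involves {G : Type*} [Group G] [Finite G]
    (h : ¬ Involves (Equiv.Perm (Fin 3)) G) : NoInv G := by
  intro s y hs hy hsy
  by_contra hy1
  refine h (involves_three_iff.2 ⟨s, y, ?_, hy, hy1, hsy⟩)
  haveI : Fact (Nat.Prime 2) := ⟨Nat.prime_two⟩
  exact ((Nat.dvd_prime_pow Nat.prime_two).1
    (orderOf_dvd_of_pow_eq_one (n := 2 ^ 1) (by rw [pow_one, sq, hs]))).imp fun k hk => hk.2

theorem commutator_eq_top_of_simple {G : Type*} [Group G] (hs : IsSimpleGroup G)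
    (hn : ¬ IsMulCommutative G) : commutator G = ⊤ := by
  rcases hs.eq_bot_or_eq_top_of_normal (commutator G) inferInstance with h | h
  · refine absurd ⟨⟨fun x y => ?_⟩⟩ hn
    exact commutatorElement_eq_one_iff_mul_comm.1 (mem_bot.1 (h ▸
      commutator_mem_commutator (mem_top x) (mem_top y)))
  · exact h

theorem exists_data_of_ree {G : Type*} [Group G] [Finite G] (h : IsReeType G) :
    ∃ (F : Type) (_ : Field F) (_ : Fintype F) (t : G) (f : PSL2Sub.PS F →* G), Ree.Data t f := by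
  obtain ⟨hs, hnc, t, K, n, hn, ht, hodd, ⟨-, hK, hcomm, hinf, hsup⟩, F, iF, iFF, hF, ⟨e⟩⟩ := h
  refine ⟨F, iF, iFF, t, K.subtype.comp e.symm.toMonoidHom, ht,
    K.subtype_injective.comp e.symm.injective, fun k => hcomm t (mem_zpowers t) _ (e.symm k).2,
    fun k hk => ?_, fun g hg => ?_, hodd, ⟨n, hn, hF⟩,
    commutator_eq_top_of_simple hs hnc⟩
  · have h1 : t ∈ zpowers t ⊓ K := ⟨mem_zpowers t, by rw [← hk]; exact (e.symm k).2⟩
    rw [hinf, mem_bot] at h1
    exact PSL2Sub.ne_one_of_orderOf_two ht h1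
  · have hn : K ≤ normalizer (zpowers t : Set G) := fun x hx => mem_normalizer_fintype fun z hz => by
      rw [← hcomm z hz x hx, mul_inv_cancel_right]
      exact hz
    have hgC : g ∈ zpowers t ⊔ K := by
      rw [hsup]; exact mem_centralizer_singleton_iff.2 hg
    obtain ⟨z, hz, k, hk, rfl⟩ := (Solvable.mem_sup_of_le_normalizer hn).1 hgC
    obtain ⟨i, rfl⟩ := mem_zpowers_iff.1 hz
    refine ⟨e ⟨k, hk⟩, ?_⟩
    simp only [MonoidHom.comp_apply, MulEquiv.coe_toMonoidHom, MulEquiv.symm_apply_apply,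
      coe_subtype]
    rcases Int.emod_two_eq_zero_or_one i with h' | h'
    · left; rw [← zpow_mod_orderOf, ht]; simp [h']
    · right; rw [← zpow_mod_orderOf, ht]; simp [h']

theorem involves_three_of_ree {G : Type*} [Group G] [Finite G] (h : IsReeType G) :
    Involves (Equiv.Perm (Fin 3)) G := by
  by_contra hc
  obtain ⟨F, iF, iFF, t, f, D⟩ := exists_data_of_ree h
  exact D.not_noInv (noInv_of_not_involves hc)

theorem not_involves_four_of_ree {G : Type*} [Group G] [Finite G] (h : IsReeType G) :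
    ¬ Involves (Equiv.Perm (Fin 4)) G := by
  obtain ⟨F, iF, iFF, t, f, D⟩ := exists_data_of_ree h
  exact not_involves_four_of_abelian D.sylow_comm

end CfsgLib.Goldschmidt
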