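import Cfsg.Agent.Lib.Goldschmidt.ReeCounts
import Cfsg.Agent.Lib.Goldschmidt.CharSums
import Cfsg.Agent.Lib.Goldschmidt.FourVectors

/-!
The element of order three centralizes the torus: otherwise three orthogonal norm-four combinations of
the columns at `tP` and `tT` contradict a class multiplication count.
-/

set_option autoImplicit false
set_option linter.unusedSectionVars false
set_option linter.style.haveILetI false

open scoped ComplexConjugate
open Cfsg

namespace CfsgLib.Goldschmidt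

section Sums

variable {G : Type*} [Group G] [Finite G]

/-- Inner product of two columns. -/
noncomputable def colB (g h : G) : ℂ :=
  ∑ χ : IrrCharacter G, (χ : G → ℂ) g * conj ((χ : G → ℂ) h)

theorem colB_self (g : G) :
    colB g g = Nat.card (Subgroup.centralizer ({g} : Set G)) := by
  classical
  rw [colB, CfsgLib.Char.sum_mul_conj, if_pos (IsConj.refl g)]

theorem colB_eq_zero {g h : G} (hgh : ¬ IsConj g h) : colB g h = 0 := by
  classical
  rw [colB, CfsgLib.Char.sum_mul_conj, if_neg hgh]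

theorem colB_of_isConj {g h : G} (hgh : IsConj g h) :
    colB g h = Nat.card (Subgroup.centralizer ({g} : Set G)) := by
  classical
  rw [colB, CfsgLib.Char.sum_mul_conj, if_pos hgh]

theorem sum_hom_inv_eq_zero {T : Type*} [Group T] [Fintype T] (α : T →* ℂˣ) (h : α ≠ 1) :
    ∑ k : T, ((α k⁻¹ : ℂˣ) : ℂ) = 0 := by
  have hne : (Units.coeHom ℂ).comp α ≠ 1 := fun e => h (by
    ext k
    simpa using DFunLike.congr_fun e k)
  rw [← sum_hom_units_eq_zero _ hne]
  exact Fintype.sum_equiv (Equiv.inv T) _ _ fun u => by simp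

theorem sum_hom_inv_mul {T : Type*} [CommGroup T] [Fintype T] [DecidableEq (T →* ℂˣ)]
    (α β : T →* ℂˣ) :
    ∑ k : T, ((α k⁻¹ : ℂˣ) : ℂ) * ((β k : ℂˣ) : ℂ) = if α = β then (Fintype.card T : ℂ) else 0 := by
  have e : ∀ k : T, ((α k⁻¹ : ℂˣ) : ℂ) * ((β k : ℂˣ) : ℂ) = (((α * β⁻¹) k⁻¹ : ℂˣ) : ℂ) := fun k => by
    simp
  simp only [e]
  split_ifs with h
  · subst h
    simp
  · exact sum_hom_inv_eq_zero _ fun e' => h (mul_inv_eq_one.1 e')

end Sums

namespace Ree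

open Subgroup CfsgLib.PSL2Sub

variable {G : Type*} [Group G] [Finite G] {F : Type*} [Field F] [Fintype F]
variable {t : G} {f : PS F →* G} (D : Data t f)
variable {T : Subgroup G} {a w e : G} (Tr : Torus t f T a w e)
include D Tr

theorem Data.colB_tk [Fintype T] [DecidableEq T] (k l : T) :
    colB (t * (k : G)) (t * (l : G)) =
      (if l = k then ((Fintype.card F + 1 : ℕ) : ℂ) +
          (if k = 1 then ((Fintype.card F * (Fintype.card F ^ 2 - 1) : ℕ) : ℂ) -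
            ((Fintype.card F + 1 : ℕ) : ℂ) else 0) else 0) +
        (if l = k⁻¹ ∧ k ≠ 1 then ((Fintype.card F + 1 : ℕ) : ℂ) else 0) := by
  obtain ⟨hodd, hpow, -⟩ := D.n1_facts Tr
  have hkk : k ≠ 1 → k⁻¹ ≠ k := fun hk h => hk (by
    obtain ⟨r, hr⟩ := hodd
    have h1 := pow_card_eq_one' (x := k)
    have h2 : k * k = 1 := by
      nth_rewrite 1 [← h]
      exact inv_mul_cancel k
    rwa [hr, pow_succ, pow_mul, sq, h2, one_pow, one_mul] at h1)
  have hne : ∀ h : k ≠ 1, Nat.card ↥(centralizer ({t * (k : G)} : Set G)) = Fintype.card F + 1 :=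
    fun h => D.card_cent_tk Tr k.2 fun e => h (Subtype.ext e)
  by_cases hlk : l = k
  · subst hlk
    rw [colB_self, if_pos rfl]
    by_cases hl : l = 1
    · subst hl
      rw [if_pos rfl, if_neg (fun h => h.2 rfl), add_zero, add_sub_cancel, OneMemClass.coe_one,
        mul_one, D.card_centralizer]
    · rw [if_neg hl, if_neg fun h => hkk hl h.1.symm, add_zero, add_zero, hne hl]
  rw [if_neg hlk, zero_add]
  by_cases hlk' : l = k⁻¹
  · have hk : k ≠ 1 := fun h => hlk (by rw [hlk', h, inv_one])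
    rw [if_pos ⟨hlk', hk⟩, colB_of_isConj, hne hk]
    subst hlk'
    refine isConj_iff.2 ⟨e, ?_⟩
    rw [InvMemClass.coe_inv, ← Tr.e_inv k k.2, ← mul_assoc, Tr.e_comm]
    group
  · rw [if_neg fun h => hlk' h.1, colB_eq_zero fun h => ?_]
    rcases Tr.fusion k k.2 l l.2 h with h' | h'
    · exact hlk (Subtype.ext h')
    · exact hlk' (Subtype.ext h')

theorem Data.w_centralizes (hno : NoInv G) : ∀ k ∈ T, w * k = k * w := by
  classical
  by_contra hcon
  push Not at hcon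
  obtain ⟨k0, hk0, hk0w⟩ := hcon
  haveI : Fintype T := Fintype.ofFinite _
  letI : CommGroup T :=
    { (inferInstance : Group T) with mul_comm := fun x y => Subtype.ext (Tr.comm x x.2 y y.2) }
  haveI : NeZero (Monoid.exponent T) := ⟨Monoid.exponent_ne_zero_of_finite⟩
  obtain ⟨hodd, hpow, hn3⟩ := D.n1_facts Tr
  let c : T →* T := MonoidHom.mk' (fun k => ⟨w * k * w⁻¹, Tr.w_T k k.2⟩) fun x y =>
    Subtype.ext (by show w * ((x : G) * y) * w⁻¹ = _; simp [mul_assoc])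
  have hc : ∀ k : T, ((c k : T) : G) = w * (k : G) * w⁻¹ := fun k => rfl
  have hc3 : ∀ k : T, c (c (c k)) = k := fun k => Subtype.ext (by
    rw [hc, hc, hc]
    calc w * (w * (w * (k : G) * w⁻¹) * w⁻¹) * w⁻¹ = w ^ 3 * k * (w ^ 3)⁻¹ := by
          simp [pow_succ, mul_assoc]
      _ = k := by rw [Tr.w_three]; group)
  let ce : T ≃ T := ⟨c, fun k => c (c k), hc3, hc3⟩
  -- three linear characters
  have hne : c ⟨k0, hk0⟩ / ⟨k0, hk0⟩ ≠ 1 := fun h => hk0w (by
    have := congrArg Subtype.val (div_eq_one.1 h)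
    rw [hc] at this
    exact mul_inv_eq_iff_eq_mul.1 this)
  obtain ⟨θ, hθ⟩ := CommGroup.exists_apply_ne_one_of_hasEnoughRootsOfUnity T ℂ hne
  let σ : (T →* ℂˣ) → (T →* ℂˣ) := fun α => α.comp c
  have hσ3 : ∀ α, σ (σ (σ α)) = α := fun α => by
    ext k
    simp [σ, hc3]
  have hθσ : σ θ ≠ θ := fun h => hθ (by
    rw [map_div, ← MonoidHom.comp_apply]
    exact div_eq_one.2 (DFunLike.congr_fun h _))
  have hθ1 : θ ≠ 1 := fun h => hθ (by rw [h]; rfl)
  have hσ1 : σ 1 = 1 := by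
    ext k
    simp [σ]
  have hσinj : ∀ α β, σ α = σ β → α = β := fun α β h => by rw [← hσ3 α, h, hσ3]
  set θ' := σ θ with hθ'
  set θ'' := σ θ' with hθ''
  have d12 : θ ≠ θ' := Ne.symm hθσ
  have d13 : θ ≠ θ'' := fun h => d12 (by rw [hθ', h, hθ'', hθ', hσ3]; exact h.symm)
  have d23 : θ' ≠ θ'' := fun h => d12 (hσinj _ _ h)
  have hsq : ∀ α : T →* ℂˣ, α ≠ 1 → α * α ≠ 1 := fun α hα h => hα (by
    ext k
    obtain ⟨r, hr⟩ := hodd
    have h1 : α k ^ Nat.card T = 1 := by rw [← map_pow, pow_card_eq_one', map_one]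
    have h2 : α k * α k = 1 := DFunLike.congr_fun h k
    rw [hr, pow_succ, pow_mul, sq, h2, one_pow, one_mul] at h1
    rw [h1, MonoidHom.one_apply])
  have hpt : ∀ k : T, θ' k = θ (c k) ∧ θ'' k = θ (c (c k)) := fun k => ⟨rfl, rfl⟩
  have n12 : θ * θ' ≠ 1 := fun h => d13 (MonoidHom.ext fun k => by
    have e1 : θ k * θ (c k) = 1 := DFunLike.congr_fun h k
    have e2 : θ (c k) * θ (c (c k)) = 1 := DFunLike.congr_fun h (c k)
    rw [(hpt k).2, eq_inv_of_mul_eq_one_left e1, ← inv_eq_of_mul_eq_one_right e2])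
  have n23 : θ' * θ'' ≠ 1 := fun h => n12 (MonoidHom.ext fun k => by
    have e1 : θ (c (c (c k))) * θ (c (c (c (c k)))) = 1 := DFunLike.congr_fun h (c (c k))
    simp only [hc3] at e1
    exact e1)
  have n13 : θ * θ'' ≠ 1 := fun h => n12 (MonoidHom.ext fun k => by
    have e1 : θ (c k) * θ (c (c (c k))) = 1 := DFunLike.congr_fun h (c k)
    rw [hc3, mul_comm] at e1
    exact e1)
  have n11 : θ * θ ≠ 1 := hsq θ hθ1
  have n22 : θ' * θ' ≠ 1 := hsq θ' fun h => hθ1 (hσinj _ _ (by rw [← hθ', h, hσ1]))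
  have n33 : θ'' * θ'' ≠ 1 := hsq θ'' fun h => hθ1 (hσinj _ _ (by
    rw [← hθ', hσ1]
    exact hσinj _ _ (by rw [← hθ'', h, hσ1])))
  -- `y` and its two columns
  obtain ⟨y, hy, hy1⟩ := D.exists_y
  have hy' : y⁻¹ ∈ Pthree D := inv_mem hy
  have hy'1 : y⁻¹ ≠ 1 := inv_ne_one.2 hy1
  have hPt : ∀ x ∈ Pthree D, x * t = t * x := fun x hx =>
    mem_centralizer_singleton_iff.1 (D.P_le hx)
  set q := Fintype.card F with hq
  set n1 := Nat.card T with hn1
  have hn1pos : 0 < n1 := Nat.card_pos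
  have hq4 : 4 * n1 = q + 1 := Tr.card
  obtain ⟨hq8, hq27, -, -⟩ := D.q_facts
  set C0 : ℂ := ((q * (q ^ 2 - 1) : ℕ) : ℂ) with hC0
  -- column inner products
  have hcoprime : Nat.Coprime n1 q := by
    obtain ⟨r, -, hr⟩ := D.card_F
    rw [hq, hr]
    exact hn3.pow_right _
  have hBtt : colB t t = C0 := by rw [colB_self, D.card_centralizer]
  have hBt1 : ∀ g : G, g ≠ 1 → colB g 1 = 0 := fun g hg =>
    colB_eq_zero fun h => hg (isConj_one_left.1 h)
  have hBty : ∀ z ∈ Pthree D, z ≠ 1 → colB t (t * z) = 0 ∧ colB (t * z) t = 0 := by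
    intro z hz hz1
    have key : ¬ IsConj t (t * z) := by
      intro h
      obtain ⟨g, hg⟩ := isConj_iff.1 h
      obtain ⟨-, h'⟩ := D.split_conj D.q_odd (show (1 : G) * t = t * 1 by simp) (one_pow _) (hPt z hz)
        (D.pow_q hz) (g := g) (by rw [mul_one]; exact hg)
      exact hz1 (by rw [← h']; group)
    exact ⟨colB_eq_zero key, colB_eq_zero fun h => key h.symm⟩
  have hByk : ∀ z ∈ Pthree D, z ≠ 1 → ∀ k : T,
      colB (t * z) (t * (k : G)) = 0 ∧ colB (t * (k : G)) (t * z) = 0 := by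
    intro z hz hz1 k
    have key : ¬ IsConj (t * z) (t * (k : G)) := by
      intro h
      obtain ⟨g, hg⟩ := isConj_iff.1 h
      obtain ⟨-, h'⟩ := D.split_conj (N := q * n1) (D.q_odd.mul hodd) (hPt z hz)
        (by rw [pow_mul, D.pow_q hz, one_pow]) (Tr.commT k k.2)
        (by rw [mul_comm, pow_mul, hpow k k.2, one_pow]) hg
      have h1 : z ^ n1 = 1 := by
        have := hpow k k.2
        rw [← h', conj_pow] at this
        exact conj_eq_one_iff.1 this
      have h2 := pow_gcd_eq_one.2 ⟨h1, D.pow_q hz⟩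
      rw [hcoprime.gcd_eq_one, pow_one] at h2
      exact hz1 h2
    exact ⟨colB_eq_zero key, colB_eq_zero fun h => key h.symm⟩
  have hByy : ∀ z ∈ Pthree D, z ≠ 1 → colB (t * z) (t * z) = 2 * (q : ℂ) := fun z hz hz1 => by
    rw [colB_self, D.card_cent_ty hz hz1]; push_cast; rfl
  have hy12 : colB (t * y) (t * y⁻¹) = 0 := colB_eq_zero (D.ty_not_conj hno hy hy1)
  have hy21 : colB (t * y⁻¹) (t * y) = 0 :=
    colB_eq_zero fun h => D.ty_not_conj hno hy hy1 h.symm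
  have hBtk : ∀ k : T, colB t (t * (k : G)) = (if k = 1 then C0 else 0) ∧
      colB (t * (k : G)) t = (if k = 1 then C0 else 0) := by
    intro k
    by_cases hk : k = 1
    · subst hk
      simp only [OneMemClass.coe_one, mul_one, if_true, hBtt, and_self]
    · have h1 := D.colB_tk Tr 1 k
      have h2 := D.colB_tk Tr k 1
      rw [if_neg hk, zero_add, if_neg (fun h => h.2 rfl), OneMemClass.coe_one, mul_one] at h1
      rw [if_neg (Ne.symm hk), zero_add, if_neg (fun h => hk (inv_eq_one.1 h.1.symm)),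
        OneMemClass.coe_one, mul_one] at h2
      rw [if_neg hk]
      exact ⟨h1, h2⟩
  have htk1 : ∀ k : T, t * (k : G) ≠ 1 := fun k h => by
    have := D.pow_mul_t (Tr.commT k k.2) hodd (hpow k k.2)
    rw [h, one_pow] at this
    exact D.t_ne this.symm
  have hty1 : ∀ z ∈ Pthree D, t * z ≠ 1 := fun z hz h => by
    have := D.pow_mul_t (hPt z hz) D.q_odd (D.pow_q hz)
    rw [h, one_pow] at this
    exact D.t_ne this.symm
  -- the vectors
  let V : IrrCharacter G → G → ℂ := fun χ => (χ : G → ℂ)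
  let Fs : (T →* ℂˣ) → IrrCharacter G → ℂ := fun α χ =>
    ∑ k : T, (χ : G → ℂ) (t * (k : G)) * ((α k⁻¹ : ℂˣ) : ℂ)
  let U : IrrCharacter G → ℂ := fun χ =>
    2 * (χ : G → ℂ) t - (χ : G → ℂ) (t * y) - (χ : G → ℂ) (t * y⁻¹)
  have hFconj : ∀ α χ, conj (Fs α χ) =
      ∑ k : T, ((α k : ℂˣ) : ℂ) * conj ((χ : G → ℂ) (t * (k : G))) := fun α χ => by
    simp only [Fs, map_sum, map_mul, conj_hom_units, inv_inv]
    exact Finset.sum_congr rfl fun k _ => mul_comm _ _
  have hUconj : ∀ χ, conj (U χ) = 2 * conj ((χ : G → ℂ) t) - conj ((χ : G → ℂ) (t * y)) -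
      conj ((χ : G → ℂ) (t * y⁻¹)) := fun χ => by
    simp only [U, map_sub, map_mul, map_ofNat]
  have hUU : ∑ χ, U χ * conj (U χ) = 4 * C0 + 4 * (q : ℂ) := by
    have e : ∀ χ, U χ * conj (U χ) =
        4 * (V χ t * conj (V χ t)) - 2 * (V χ t * conj (V χ (t * y))) -
          2 * (V χ t * conj (V χ (t * y⁻¹))) - 2 * (V χ (t * y) * conj (V χ t)) +
          (V χ (t * y) * conj (V χ (t * y))) + (V χ (t * y) * conj (V χ (t * y⁻¹))) -
          2 * (V χ (t * y⁻¹) * conj (V χ t)) + (V χ (t * y⁻¹) * conj (V χ (t * y))) +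
          (V χ (t * y⁻¹) * conj (V χ (t * y⁻¹))) := fun χ => by
      rw [hUconj]; simp only [U, V]; ring
    simp only [e, Finset.sum_add_distrib, Finset.sum_sub_distrib, ← Finset.mul_sum]
    simp only [V, ← colB.eq_def, hBtt, (hBty y hy hy1).1, (hBty y hy hy1).2, (hBty _ hy' hy'1).1,
      (hBty _ hy' hy'1).2, hByy y hy hy1, hByy _ hy' hy'1, hy12, hy21]
    ring
  have hUk : ∀ k : T, (∑ χ, U χ * conj (V χ (t * (k : G))) = if k = 1 then 2 * C0 else 0) ∧
      (∑ χ, V χ (t * (k : G)) * conj (U χ) = if k = 1 then 2 * C0 else 0) := by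
    intro k
    constructor
    · simp only [U, V, sub_mul, mul_assoc, Finset.sum_sub_distrib, ← Finset.mul_sum, ← colB.eq_def,
        (hBtk k).1, (hByk y hy hy1 k).1, (hByk _ hy' hy'1 k).1]
      split_ifs <;> ring
    · simp only [hUconj, V, mul_sub, Finset.sum_sub_distrib, ← Finset.mul_sum,
        mul_left_comm _ (2 : ℂ), ← colB.eq_def, (hBtk k).2, (hByk y hy hy1 k).2, (hByk _ hy' hy'1 k).2]
      split_ifs <;> ring
  have hUF : ∀ α, ∑ χ, U χ * conj (Fs α χ) = 2 * C0 := by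
    intro α
    simp only [hFconj, Finset.mul_sum]
    rw [Finset.sum_comm]
    simp only [mul_left_comm (U _), ← Finset.mul_sum]
    rw [Finset.sum_eq_single (1 : T)]
    · have := (hUk 1).1
      simp only [V, if_true] at this
      rw [this, map_one, Units.val_one, one_mul]
    · intro k _ hk
      have := (hUk k).1
      simp only [V, if_neg hk] at this
      rw [this, mul_zero]
    · simp
  have hFU : ∀ α, ∑ χ, Fs α χ * conj (U χ) = 2 * C0 := by
    intro α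
    simp only [Fs, Finset.sum_mul]
    rw [Finset.sum_comm]
    simp only [mul_right_comm _ _ (conj (U _)), ← Finset.sum_mul]
    rw [Finset.sum_eq_single (1 : T)]
    · have := (hUk 1).2
      simp only [V, if_true] at this
      rw [this, inv_one, map_one, Units.val_one, mul_one]
    · intro k _ hk
      have := (hUk k).2
      simp only [V, if_neg hk] at this
      rw [this, zero_mul]
    · simp
  have hFF : ∀ α β : T →* ℂˣ, α * β ≠ 1 → ∑ χ, Fs α χ * conj (Fs β χ) =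
      ((q + 1 : ℕ) : ℂ) * (if α = β then (n1 : ℂ) else 0) + C0 - 2 * ((q + 1 : ℕ) : ℂ) := by
    intro α β hab
    simp only [hFconj]
    simp only [Fs, Finset.sum_mul]
    rw [Finset.sum_comm]
    simp only [Finset.mul_sum]
    have hin : ∀ k : T, (∑ χ : IrrCharacter G, ∑ l : T,
        (χ : G → ℂ) (t * (k : G)) * ((α k⁻¹ : ℂˣ) : ℂ) *
          (((β l : ℂˣ) : ℂ) * conj ((χ : G → ℂ) (t * (l : G))))) =
        ((α k⁻¹ : ℂˣ) : ℂ) * (((q + 1 : ℕ) : ℂ) * (((β k : ℂˣ) : ℂ) + ((β k⁻¹ : ℂˣ) : ℂ)) +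
          if k = 1 then C0 - 2 * ((q + 1 : ℕ) : ℂ) else 0) := by
      intro k
      rw [Finset.sum_comm]
      have e : ∀ l : T, (∑ χ : IrrCharacter G, (χ : G → ℂ) (t * (k : G)) * ((α k⁻¹ : ℂˣ) : ℂ) *
          (((β l : ℂˣ) : ℂ) * conj ((χ : G → ℂ) (t * (l : G))))) =
          ((α k⁻¹ : ℂˣ) : ℂ) * ((β l : ℂˣ) : ℂ) * colB (t * (k : G)) (t * (l : G)) := fun l => by
        rw [colB, Finset.mul_sum]
        exact Finset.sum_congr rfl fun χ _ => by ring
      simp only [e, D.colB_tk Tr, mul_add, mul_ite, mul_zero, Finset.sum_add_distrib,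
        Finset.sum_ite_eq', Finset.mem_univ, if_true]
      by_cases hk : k = 1
      · subst hk
        simp [← hq, ← hC0]
        ring
      · simp only [hk, not_false_eq_true, and_true, Finset.sum_ite_eq', Finset.mem_univ, if_true,
          if_false, ne_eq, ← hq]
        ring
    rw [Finset.sum_congr rfl fun k _ => hin k]
    simp only [mul_add, ← mul_assoc, mul_comm _ ((q + 1 : ℕ) : ℂ), Finset.sum_add_distrib]
    simp only [mul_assoc, ← Finset.mul_sum]
    have e2 : ∀ k : T, ((α k⁻¹ : ℂˣ) : ℂ) * ((β k⁻¹ : ℂˣ) : ℂ) = (((α * β) k⁻¹ : ℂˣ) : ℂ) := fun k => by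
      simp
    simp only [e2, sum_hom_inv_mul, sum_hom_inv_eq_zero _ hab, mul_zero, add_zero, mul_ite,
      Finset.sum_ite_eq', Finset.mem_univ, if_true, inv_one, map_one, Units.val_one, one_mul, hn1,
      Nat.card_eq_fintype_card]
    ring
  -- integrality
  choose m n hm hn using fun (α : T →* ℂˣ) (χ : IrrCharacter G) =>
    exists_int_pair D.sq_t T (fun k hk => (Tr.commT k hk).symm) α χ
  choose m' n' hm' hn' using fun (α : T →* ℂˣ) (χ : IrrCharacter G) =>
    exists_int_pair Tr.a_sq T (fun k hk => (Tr.commA k hk).symm) α χ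
  have hnC : (Nat.card T : ℂ) ≠ 0 := Nat.cast_ne_zero.2 hn1pos.ne'
  have hshift : ∀ α χ, (m (σ α) χ : ℤ) - n (σ α) χ = (m' α χ : ℤ) - n' α χ := by
    intro α χ
    have h : ∑ k : T, (χ : G → ℂ) (t * (k : G)) * (((σ α) k⁻¹ : ℂˣ) : ℂ) =
        ∑ k : T, (χ : G → ℂ) (a * (k : G)) * ((α k⁻¹ : ℂˣ) : ℂ) := by
      refine Fintype.sum_equiv ce _ _ fun k => ?_
      show _ = (χ : G → ℂ) (a * ((c k : T) : G)) * ((α (c k)⁻¹ : ℂˣ) : ℂ)
      rw [← map_inv, hc]
      congr 1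
      refine CfsgLib.Char.IsClassFunction.eq_of_isConj
        (CfsgLib.Char.IsIrrCharacter.isClassFunction χ.2) (isConj_iff.2 ⟨w, ?_⟩)
      rw [← Tr.w_t]; group
    rw [hn, hn'] at h
    exact_mod_cast mul_left_cancel₀ hnC h
  have hF1 : ∀ α χ, (m α χ : ℤ) + n α χ = (m' α χ : ℤ) + n' α χ := fun α χ => by
    have h := (hm α χ).symm.trans (hm' α χ)
    exact_mod_cast mul_left_cancel₀ hnC h
  haveI : IsMulCommutative (Pthree D) :=
    ⟨⟨fun x z => Subtype.ext (D.P_comm x.2 z.2)⟩⟩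
  have hPne : Pthree D ≠ ⊥ := fun h => hy1 (mem_bot.1 (h ▸ hy))
  have hclass : ∀ χ : IrrCharacter G, ∀ u ∈ Pthree D, u ≠ 1 →
      (χ : G → ℂ) (t * u) + (χ : G → ℂ) (t * u⁻¹) = (χ : G → ℂ) (t * y) + (χ : G → ℂ) (t * y⁻¹) := by
    intro χ u hu hu1
    obtain ⟨g, hgt, hg⟩ := D.conj_in_P hy hy1 hu hu1
    have hval : ∀ z z' : G, g * z * g⁻¹ = z' → (χ : G → ℂ) (t * z) = (χ : G → ℂ) (t * z') := by
      intro z z' h
      refine CfsgLib.Char.IsClassFunction.eq_of_isConj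
        (CfsgLib.Char.IsIrrCharacter.isClassFunction χ.2) (isConj_iff.2 ⟨g, ?_⟩)
      rw [← mul_assoc, hgt, mul_assoc t, mul_assoc t, h]
    rcases hg with h | h
    · rw [hval y u h, hval y⁻¹ u⁻¹ (by rw [← h]; group)]
    · rw [hval y u⁻¹ h, hval y⁻¹ u (by rw [← inv_inv u, ← h]; group), add_comm]
  choose z hz using fun χ : IrrCharacter G =>
    exists_int_balanced D.sq_t (Pthree D) (fun k hk => (hPt k hk).symm) hPne χ _ (hclass χ)
  let d : (T →* ℂˣ) → IrrCharacter G → ℤ := fun α χ => 2 * z χ - ((m α χ : ℤ) - n α χ)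
  have hpar : ∀ α χ, 2 ∣ d α χ - d (σ α) χ := fun α χ => by
    have h1 := hshift α χ
    have h2 := hF1 α χ
    simp only [d]
    omega
  have hqC : (q : ℂ) ≠ 0 := Nat.cast_ne_zero.2 Fintype.card_ne_zero
  have hdC : ∀ α χ, (d α χ : ℂ) = (2 / (q : ℂ)) * U χ - (1 / (n1 : ℂ)) * Fs α χ := fun α χ => by
    have h1 := hz χ
    rw [D.card_P, ← hq] at h1
    have h2 : U χ = (q : ℂ) * z χ := by rw [h1]; simp only [U]; ring
    have h3 : Fs α χ = (n1 : ℂ) * ((m α χ : ℂ) - n α χ) := hn α χ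
    rw [h2, h3]
    simp only [d]
    push_cast
    rw [← mul_assoc, ← mul_assoc, div_mul_cancel₀ _ hqC, one_div, inv_mul_cancel₀ hnC, one_mul]
  choose X hX using fun χ : IrrCharacter G => exists_int_involution D.sq_t χ
  let fd : IrrCharacter G → ℤ := fun χ => (CfsgLib.Char.degree (χ : G → ℂ) : ℤ)
  have hfd : ∀ χ, (fd χ : ℂ) = (χ : G → ℂ) 1 := fun χ => by
    simp only [fd, Int.cast_natCast]
    exact CfsgLib.Char.IsCharacter.degree_cast (CfsgLib.Char.IsIrrCharacter.isCharacter χ.2)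
  have hfpos : ∀ χ, 0 < fd χ := fun χ => by
    simp only [fd]
    exact_mod_cast CfsgLib.Char.IsIrrCharacter.degree_pos χ.2
  have hn1C : (n1 : ℂ) ≠ 0 := Nat.cast_ne_zero.2 hn1pos.ne'
  have hq1C : ((q + 1 : ℕ) : ℂ) = 4 * (n1 : ℂ) := by rw [← hq4]; push_cast; rfl
  have hqn : (q : ℂ) = 4 * (n1 : ℂ) - 1 := by rw [← hq1C]; push_cast; ring
  have hC0' : C0 = (q : ℂ) * ((q : ℂ) ^ 2 - 1) := by
    have : 1 ≤ q ^ 2 := Nat.one_le_pow _ _ Fintype.card_pos
    rw [hC0, Nat.cast_mul, Nat.cast_sub this]; push_cast; rfl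
  have hdd : ∀ α β : T →* ℂˣ, α * β ≠ 1 →
      ∑ χ, d α χ * d β χ = if α = β then 4 else 0 := by
    intro α β hab
    have key : ((∑ χ, d α χ * d β χ : ℤ) : ℂ) = if α = β then 4 else 0 := by
      have e : ∀ χ, ((d α χ : ℂ)) * (d β χ : ℂ) =
          (4 / (q : ℂ) ^ 2) * (U χ * conj (U χ)) -
            (2 / ((q : ℂ) * n1)) * (U χ * conj (Fs β χ)) -
            (2 / ((q : ℂ) * n1)) * (Fs α χ * conj (U χ)) +
            (1 / (n1 : ℂ) ^ 2) * (Fs α χ * conj (Fs β χ)) := fun χ => by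
        nth_rewrite 1 [← map_intCast (starRingEnd ℂ) (d β χ)]
        rw [hdC, hdC, map_sub, map_mul, map_mul, map_div₀, map_div₀, map_ofNat, map_natCast, map_one,
          map_natCast]
        ring
      push_cast
      simp only [e, Finset.sum_add_distrib, Finset.sum_sub_distrib, ← Finset.mul_sum, hUU, hUF, hFU,
        hFF α β hab, hq1C]
      rw [hC0']
      split_ifs <;> field_simp <;> rw [hqn] <;> ring
    split_ifs at key ⊢ <;> exact_mod_cast key
  have hdf : ∀ α, ∑ χ, d α χ * fd χ = 0 := by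
    intro α
    have e : ∀ χ, (d α χ : ℂ) * (fd χ : ℂ) =
        (2 / (q : ℂ)) * (U χ * conj ((χ : G → ℂ) 1)) -
          (1 / (n1 : ℂ)) * (Fs α χ * conj ((χ : G → ℂ) 1)) := fun χ => by
      rw [← hfd, map_intCast (starRingEnd ℂ), hdC]; ring
    have h1 : ∑ χ, U χ * conj ((χ : G → ℂ) 1) = 0 := by
      simp only [U, sub_mul, mul_assoc, Finset.sum_sub_distrib, ← Finset.mul_sum, ← colB.eq_def,
        hBt1 t D.t_ne, hBt1 _ (hty1 y hy), hBt1 _ (hty1 _ hy')]
      ring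
    have h2 : ∑ χ, Fs α χ * conj ((χ : G → ℂ) 1) = 0 := by
      simp only [Fs, Finset.sum_mul]
      rw [Finset.sum_comm]
      simp only [mul_right_comm _ _ (conj _), ← Finset.sum_mul, ← colB.eq_def]
      exact Finset.sum_eq_zero fun k _ => by rw [hBt1 _ (htk1 k), zero_mul]
    have key : ((∑ χ, d α χ * fd χ : ℤ) : ℂ) = 0 := by
      push_cast
      simp only [e, Finset.sum_sub_distrib, ← Finset.mul_sum, h1, h2]
      ring
    exact_mod_cast key
  have hdX : ∀ α, ∑ χ, d α χ * X χ = 4 * ((q : ℤ) - 1) := by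
    intro α
    have e : ∀ χ, (d α χ : ℂ) * (X χ : ℂ) =
        (2 / (q : ℂ)) * (U χ * conj ((χ : G → ℂ) t)) -
          (1 / (n1 : ℂ)) * (Fs α χ * conj ((χ : G → ℂ) t)) := fun χ => by
      rw [hX, map_intCast (starRingEnd ℂ), hdC]; ring
    have h1 : ∑ χ, U χ * conj ((χ : G → ℂ) t) = 2 * C0 := by
      simp only [U, sub_mul, mul_assoc, Finset.sum_sub_distrib, ← Finset.mul_sum, ← colB.eq_def,
        hBtt, (hBty y hy hy1).2, (hBty _ hy' hy'1).2]
      ring
    have h2 : ∑ χ, Fs α χ * conj ((χ : G → ℂ) t) = C0 := by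
      simp only [Fs, Finset.sum_mul]
      rw [Finset.sum_comm]
      simp only [mul_right_comm _ _ (conj _), ← Finset.sum_mul, ← colB.eq_def]
      rw [Finset.sum_eq_single (1 : T)]
      · simp only [OneMemClass.coe_one, mul_one, inv_one, map_one, Units.val_one, hBtt]
      · intro k _ hk
        rw [(hBtk k).2, if_neg hk, zero_mul]
      · simp
    have key : ((∑ χ, d α χ * X χ : ℤ) : ℂ) = 4 * ((q : ℂ) - 1) := by
      push_cast
      simp only [e, Finset.sum_sub_distrib, ← Finset.mul_sum, h1, h2]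
      rw [hC0']
      field_simp
      rw [hqn]; ring
    exact_mod_cast key
  have hself : ∀ α : T →* ℂˣ, α * α ≠ 1 → ∑ χ, d α χ * d α χ = 4 := fun α h =>
    (hdd α α h).trans (if_pos rfl)
  obtain ⟨F0, hF0, hfF0, hdvd, hle⟩ := four_vectors (a := (q : ℤ) - 1) (d θ) (d θ') (d θ'') fd X
    (hself θ n11) (hself θ' n22) (hself θ'' n33)
    ((hdd θ θ' n12).trans (if_neg d12)) ((hdd θ θ'' n13).trans (if_neg d13))
    ((hdd θ' θ'' n23).trans (if_neg d23))
    (fun χ => ⟨hpar θ χ, by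
      have h1 := hpar θ χ
      have h2 := hpar θ' χ
      rw [← hθ'] at h1
      rw [← hθ''] at h2
      omega⟩)
    hfpos (hdf θ) (hdf θ') (hdf θ'') (hdX θ) (hdX θ') (hdX θ'')
  set L := ∑ χ, d θ χ * X χ ^ 2 with hL
  -- the class multiplication count
  set S : G → ℂ := fun g =>
    ∑ χ : IrrCharacter G, (χ : G → ℂ) t ^ 2 * (χ : G → ℂ) g / (χ : G → ℂ) 1 with hS
  set K : ℂ := C0 ^ 2 / (Nat.card G : ℂ) with hK
  have hSval : ∀ g, S g = K * Nat.card {s : G // IsConj t s ∧ IsConj t (s * g)} := fun g => by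
    rw [hS, hK]
    dsimp only
    rw [sum_sq_mul_div D.sq_t, D.card_centralizer]
    ring
  have hSy : ∀ z ∈ Pthree D, z ≠ 1 → S (t * z) = 0 := fun z hz hz1 => by
    rw [hSval, D.count_ty hno Tr.invol hz hz1, Nat.cast_zero, mul_zero]
  have hSt : S t = K * ((q : ℂ) * ((q : ℂ) - 1)) := by
    rw [hSval, D.count_t Tr.invol, ← hq, Nat.cast_mul, Nat.cast_sub Fintype.card_pos]
    push_cast
    rfl
  have hSk : ∀ k : T, k ≠ 1 → S (t * (k : G)) = K * ((q + 1 : ℕ) : ℂ) := fun k hk => by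
    rw [hSval, D.count_tk Tr k.2 fun h => hk (Subtype.ext h)]
  have hF0C : (F0 : ℂ) ≠ 0 := Int.cast_ne_zero.2 hF0.ne'
  have hleft : ∑ χ, (d θ χ : ℂ) * (X χ : ℂ) ^ 2 / (fd χ : ℂ) = (L : ℂ) / F0 := by
    rw [hL, Int.cast_sum, Finset.sum_div]
    refine Finset.sum_congr rfl fun χ _ => ?_
    by_cases h : d θ χ = 0
    · simp [h]
    · rw [hfF0 χ h]; push_cast; ring
  have hsumθ : ∑ k : T, S (t * (k : G)) * ((θ k⁻¹ : ℂˣ) : ℂ) =
      K * ((q : ℂ) * ((q : ℂ) - 1)) - K * ((q + 1 : ℕ) : ℂ) := by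
    have hsplit : ∀ k : T, S (t * (k : G)) * ((θ k⁻¹ : ℂˣ) : ℂ) =
        K * ((q + 1 : ℕ) : ℂ) * ((θ k⁻¹ : ℂˣ) : ℂ) +
          if k = 1 then K * ((q : ℂ) * ((q : ℂ) - 1)) - K * ((q + 1 : ℕ) : ℂ) else 0 := by
      intro k
      by_cases hk : k = 1
      · subst hk
        simp [hSt]
      · rw [hSk k hk, if_neg hk, add_zero]
    rw [Finset.sum_congr rfl fun k _ => hsplit k, Finset.sum_add_distrib, ← Finset.mul_sum,
      sum_hom_inv_eq_zero θ hθ1, mul_zero, zero_add, Finset.sum_ite_eq' Finset.univ (1 : T),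
      if_pos (Finset.mem_univ _)]
  have hright : ∑ χ, (d θ χ : ℂ) * (X χ : ℂ) ^ 2 / (fd χ : ℂ) =
      (2 / (q : ℂ)) * (2 * S t - S (t * y) - S (t * y⁻¹)) -
        (1 / (n1 : ℂ)) * ∑ k : T, S (t * (k : G)) * ((θ k⁻¹ : ℂˣ) : ℂ) := by
    have h3 : ∀ χ, (d θ χ : ℂ) * (X χ : ℂ) ^ 2 / (fd χ : ℂ) =
        (2 / (q : ℂ)) * (2 * ((χ : G → ℂ) t ^ 2 * (χ : G → ℂ) t / (χ : G → ℂ) 1) -
          (χ : G → ℂ) t ^ 2 * (χ : G → ℂ) (t * y) / (χ : G → ℂ) 1 -
          (χ : G → ℂ) t ^ 2 * (χ : G → ℂ) (t * y⁻¹) / (χ : G → ℂ) 1) -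
        (1 / (n1 : ℂ)) * ∑ k : T,
          ((χ : G → ℂ) t ^ 2 * (χ : G → ℂ) (t * (k : G)) / (χ : G → ℂ) 1) * ((θ k⁻¹ : ℂˣ) : ℂ) := by
      intro χ
      rw [hdC, ← hfd, ← hX]
      have : ∑ k : T, ((χ : G → ℂ) t ^ 2 * (χ : G → ℂ) (t * (k : G)) / (fd χ : ℂ)) *
          ((θ k⁻¹ : ℂˣ) : ℂ) = ((χ : G → ℂ) t ^ 2 / (fd χ : ℂ)) * Fs θ χ := by
        simp only [Fs, Finset.mul_sum]
        exact Finset.sum_congr rfl fun k _ => by ring
      rw [this]
      simp only [U]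
      ring
    simp only [h3, Finset.sum_sub_distrib, ← Finset.mul_sum]
    rw [Finset.sum_comm]
    simp only [← Finset.sum_mul, hS]
  rw [hleft, hSy y hy hy1, hSy _ hy' hy'1, hSt, hsumθ, hq1C, hK] at hright
  obtain ⟨Q, hQ⟩ := D.exists_sylow_P hno
  haveI : Fact (Nat.Prime 3) := ⟨Nat.prime_three⟩
  have hGC : (Nat.card G : ℂ) ≠ 0 := Nat.cast_ne_zero.2 Nat.card_pos.ne'
  set M := (Pthree D).index with hM
  have hGM : Nat.card G = q * M := by
    rw [hM, hq, ← D.card_P, Subgroup.card_mul_index]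
  have hM3 : ¬ 3 ∣ M := by rw [hM, ← hQ]; exact Q.not_dvd_index
  have hZ : L * (Nat.card G : ℤ) * ((q : ℤ) + 1) =
      8 * (q : ℤ) * ((q : ℤ) * ((q : ℤ) ^ 2 - 1)) ^ 2 * F0 := by
    have h' : (L : ℂ) * (Nat.card G : ℂ) * ((q : ℂ) + 1) =
        8 * (q : ℂ) * ((q : ℂ) * ((q : ℂ) ^ 2 - 1)) ^ 2 * (F0 : ℂ) := by
      rw [← hC0', (div_eq_iff hF0C).1 hright]
      field_simp
      rw [hqn]; ring
    exact_mod_cast h'
  have hLpos : 0 < L := by
    have hpos : (0 : ℤ) < 8 * (q : ℤ) * ((q : ℤ) * ((q : ℤ) ^ 2 - 1)) ^ 2 * F0 := by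
      have : (27 : ℤ) ≤ (q : ℤ) := by exact_mod_cast hq27
      have h2 : (0 : ℤ) < (q : ℤ) ^ 2 - 1 := by nlinarith
      positivity
    rw [← hZ] at hpos
    have hG : (0 : ℤ) ≤ (Nat.card G : ℤ) * ((q : ℤ) + 1) := by positivity
    rw [mul_assoc] at hpos
    exact pos_of_mul_pos_left hpos hG
  have hq2 : ((q : ℤ)) ^ 2 ∣ L := by
    have h1 : ((q : ℤ)) ^ 2 ∣ L * ((M : ℤ) * ((q : ℤ) + 1)) := by
      refine ⟨8 * ((q : ℤ) ^ 2 - 1) ^ 2 * F0, ?_⟩
      have hG : (Nat.card G : ℤ) = (q : ℤ) * M := by rw [hGM]; push_cast; rfl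
      rw [hG] at hZ
      refine mul_left_cancel₀ (show (q : ℤ) ≠ 0 by exact_mod_cast Fintype.card_ne_zero) ?_
      linear_combination hZ
    refine IsCoprime.dvd_of_dvd_mul_right ?_ h1
    obtain ⟨r, -, hr⟩ := D.card_F
    have : Nat.Coprime (q ^ 2) (M * (q + 1)) := by
      refine Nat.Coprime.pow_left 2 ?_
      rw [hq, hr]
      refine Nat.Coprime.pow_left _ (Nat.Coprime.mul_right ?_ ?_)
      · exact (Nat.Prime.coprime_iff_not_dvd Nat.prime_three).2 hM3
      · refine (Nat.Prime.coprime_iff_not_dvd Nat.prime_three).2 fun h => ?_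
        have : 3 ∣ 3 ^ (2 * r + 1) := dvd_pow_self 3 (by omega)
        omega
    exact_mod_cast Nat.isCoprime_iff_coprime.2 this
  have hall : 8 * ((q : ℤ) - 1) * (q : ℤ) ^ 2 ≤ L := by
    refine Int.le_of_dvd hLpos (IsCoprime.mul_dvd ?_ hdvd hq2)
    obtain ⟨r, -, hr⟩ := D.card_F
    have : Nat.Coprime (8 * (q - 1)) (q ^ 2) := by
      refine Nat.Coprime.pow_right 2 ?_
      rw [hq, hr]
      refine Nat.Coprime.pow_right _ ?_
      rw [Nat.coprime_comm]
      refine (Nat.Prime.coprime_iff_not_dvd Nat.prime_three).2 fun h => ?_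
      rcases (Nat.Prime.dvd_mul Nat.prime_three).1 h with h | h
      · norm_num at h
      · have : 3 ∣ 3 ^ (2 * r + 1) := dvd_pow_self 3 (by omega)
        have : 0 < 3 ^ (2 * r + 1) := pow_pos (by norm_num) _
        omega
    have h2 := Nat.isCoprime_iff_coprime.2 this
    rw [Nat.cast_mul, Nat.cast_pow, Nat.cast_sub Fintype.card_pos] at h2
    simpa using h2
  have hXX : ∑ χ, X χ ^ 2 = (q : ℤ) * ((q : ℤ) ^ 2 - 1) := by
    have key : ((∑ χ, X χ ^ 2 : ℤ) : ℂ) = (q : ℂ) * ((q : ℂ) ^ 2 - 1) := by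
      rw [← hC0', ← hBtt, colB]
      push_cast
      exact Finset.sum_congr rfl fun χ _ => by rw [hX, map_intCast (starRingEnd ℂ)]; ring
    exact_mod_cast key
  rw [hXX] at hle
  have h27 : (27 : ℤ) ≤ (q : ℤ) := by exact_mod_cast hq27
  nlinarith [mul_pos (mul_pos (show (0 : ℤ) < (q : ℤ) by linarith)
    (show (0 : ℤ) < (q : ℤ) - 1 by linarith)) (show (0 : ℤ) < 7 * (q : ℤ) - 1 by linarith)]

end Ree

end CfsgLib.Goldschmidt
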