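import Cfsg.Agent.Lib.Goldschmidt.ReeTorus

/-!
Classes, centralizer orders and product counts for the elements `t`, `tk`, `ty`.
-/

set_option autoImplicit false
set_option linter.unusedSectionVars false
set_option linter.style.haveILetI false

namespace CfsgLib.Goldschmidt.Ree

open Subgroup CfsgLib.PSL2Sub

variable {G : Type*} [Group G] [Finite G] {F : Type*} [Field F] [Fintype F]
variable {t : G} {f : PS F →* G} (D : Data t f)
include D

theorem Data.no_inversion (hno : NoInv G) {g y : G} (hy : ∃ k, orderOf y = 3 ^ k)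
    (h : g * y * g⁻¹ = y⁻¹) : y = 1 := by
  obtain ⟨e, o, ho, heo⟩ := Nat.exists_eq_pow_mul_and_not_dvd (orderOf_pos g).ne' 2 (by norm_num)
  set s := g ^ o with hs
  have hsq : s * s = 1 := D.sq_of_two ⟨e, by
    rw [hs, orderOf_pow_of_dvd (fun h0 => ho (by rw [h0]; exact dvd_zero 2)) (heo ▸ dvd_mul_left o _), heo,
      Nat.mul_div_cancel _ (Nat.pos_of_ne_zero fun h0 => ho (by rw [h0]; exact dvd_zero 2))]⟩
  refine hno s y hsq hy ?_
  have h2 : ∀ i : ℕ, g ^ (2 * i + 1) * y * (g ^ (2 * i + 1))⁻¹ = y⁻¹ := by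
    intro i
    induction i with
    | zero => simpa using h
    | succ i ih =>
      have e1 : g ^ (2 * (i + 1) + 1) * y * (g ^ (2 * (i + 1) + 1))⁻¹ =
          g * (g * (g ^ (2 * i + 1) * y * (g ^ (2 * i + 1))⁻¹) * g⁻¹) * g⁻¹ := by
        rw [show 2 * (i + 1) + 1 = 1 + 1 + (2 * i + 1) by ring, pow_add g (1 + 1), pow_add, pow_one]
        group
      rw [e1, ih]
      have h' : g * y⁻¹ * g⁻¹ = y := by
        rw [← inv_inj, conj_inv, inv_inv]; exact h
      rw [h', h]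
  obtain ⟨i, hi⟩ : Odd o := Nat.odd_iff.2 (by omega)
  rw [hs, hi]
  exact h2 i

theorem Data.pow_mul_t {x : G} {N : ℕ} (hx : x * t = t * x) (hN : Odd N) (hxN : x ^ N = 1) :
    (t * x) ^ N = t := by
  obtain ⟨r, rfl⟩ := hN
  rw [(show Commute t x from hx.symm).mul_pow, hxN, mul_one, pow_succ, pow_mul, sq, D.sq_t, one_pow,
    one_mul]

/-- Conjugacy of `tx` and `tz` for elements of odd order commuting with `t`. -/
theorem Data.split_conj {x z g : G} {N : ℕ} (hN : Odd N) (hx : x * t = t * x) (hxN : x ^ N = 1)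
    (hz : z * t = t * z) (hzN : z ^ N = 1) (hg : g * (t * x) * g⁻¹ = t * z) :
    g * t = t * g ∧ g * x * g⁻¹ = z := by
  have h := congrArg (· ^ N) hg
  simp only [conj_pow, D.pow_mul_t hx hN hxN, D.pow_mul_t hz hN hzN] at h
  refine ⟨mul_inv_eq_iff_eq_mul.1 h, ?_⟩
  have h' : (g * t * g⁻¹) * (g * x * g⁻¹) = t * z := by rw [← hg]; group
  rw [h] at h'
  exact mul_left_cancel h'

theorem Data.conj_t_iff (hall : ∀ s : G, s * s = 1 → s ≠ 1 → IsConj t s) (s : G) :
    IsConj t s ↔ s * s = 1 ∧ s ≠ 1 := by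
  refine ⟨fun h => ?_, fun h => hall s h.1 h.2⟩
  obtain ⟨c, rfl⟩ := isConj_iff.1 h
  refine ⟨by rw [conj_mul, D.sq_t]; group, fun e => D.t_ne ?_⟩
  exact conj_eq_one_iff.1 e

theorem Data.count_set (hall : ∀ s : G, s * s = 1 → s ≠ 1 → IsConj t s) (g s : G) :
    (IsConj t s ∧ IsConj t (s * g)) ↔
      s * s = 1 ∧ s ≠ 1 ∧ s * g * s⁻¹ = g⁻¹ ∧ s * g ≠ 1 := by
  rw [D.conj_t_iff hall, D.conj_t_iff hall]
  constructor
  · rintro ⟨⟨hs, hs1⟩, hsg, hsg1⟩
    refine ⟨hs, hs1, ?_, hsg1⟩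
    rw [inv_eq_of_mul_eq_one_right hs]
    refine eq_inv_of_mul_eq_one_left ?_
    rw [← hsg]; group
  · rintro ⟨hs, hs1, h, hsg1⟩
    refine ⟨⟨hs, hs1⟩, ?_, hsg1⟩
    rw [inv_eq_of_mul_eq_one_right hs] at h
    calc s * g * (s * g) = s * g * s * g := by group
      _ = 1 := by rw [h, inv_mul_cancel]

theorem Data.pow_q {y : G} (hy : y ∈ Pthree D) : y ^ Fintype.card F = 1 := by
  rw [← D.card_P, ← orderOf_dvd_iff_pow_eq_one]
  have := orderOf_dvd_natCard (⟨y, hy⟩ : Pthree D)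
  rwa [Subgroup.orderOf_mk] at this

theorem Data.q_odd : Odd (Fintype.card F) := Nat.odd_iff.2 (by have := D.h4; omega)

theorem Data.exists_y : ∃ y ∈ Pthree D, y ≠ 1 := by
  by_contra h
  push Not at h
  have h1 : Pthree D = ⊥ := (eq_bot_iff_forall _).2 h
  have := D.card_P
  rw [h1, card_bot] at this
  have := D.q_facts
  omega

theorem Data.ty_not_conj (hno : NoInv G) {y : G} (hy : y ∈ Pthree D) (hy1 : y ≠ 1) :
    ¬ IsConj (t * y) (t * y⁻¹) := by
  intro h
  obtain ⟨g, hg⟩ := isConj_iff.1 h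
  obtain ⟨-, h'⟩ := D.split_conj D.q_odd (mem_centralizer_singleton_iff.1 (D.P_le hy)) (D.pow_q hy)
    (mem_centralizer_singleton_iff.1 (D.P_le (inv_mem hy))) (D.pow_q (inv_mem hy)) hg
  exact hy1 (D.no_inversion hno (D.odd_order_of_three D.isPGroup_P hy) h')

theorem Data.conj_in_P {y z : G} (hy : y ∈ Pthree D) (hy1 : y ≠ 1) (hz : z ∈ Pthree D) (hz1 : z ≠ 1) :
    ∃ g : G, g * t = t * g ∧ (g * y * g⁻¹ = z ∨ g * y * g⁻¹ = z⁻¹) := by
  obtain ⟨u, hu, rfl⟩ := hy
  obtain ⟨u', hu', rfl⟩ := hz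
  obtain ⟨h, hh⟩ := PSL.conj_or_inv D.h4 hu (fun e => hy1 (by rw [e, map_one])) hu'
    (fun e => hz1 (by rw [e, map_one]))
  refine ⟨f h, (D.comm h).symm, ?_⟩
  rcases hh with e | e
  · exact Or.inl (by rw [← e, map_mul, map_mul, map_inv])
  · exact Or.inr (by rw [← map_inv f u', ← e, map_mul, map_mul, map_inv])

theorem Data.card_cent_ty {y : G} (hy : y ∈ Pthree D) (hy1 : y ≠ 1) :
    Nat.card ↥(centralizer ({t * y} : Set G)) = 2 * Fintype.card F := by
  have hcomm : ∀ x ∈ Pthree D, x * t = t * x := fun x hx =>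
    mem_centralizer_singleton_iff.1 (D.P_le hx)
  rw [← D.card_P, two_mul, ← Nat.card_sum]
  have hmem : ∀ x ∈ Pthree D, x ∈ centralizer ({t * y} : Set G) := fun x hx => by
    rw [mem_centralizer_singleton_iff, ← mul_assoc, hcomm x hx, mul_assoc, D.P_comm hx hy, mul_assoc]
  have htmem : t ∈ centralizer ({t * y} : Set G) := by
    rw [mem_centralizer_singleton_iff, mul_assoc, hcomm y hy]
  refine (Nat.card_eq_of_bijective (Sum.elim
    (fun x : Pthree D => (⟨(x : G), hmem x x.2⟩ : centralizer ({t * y} : Set G)))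
    (fun x : Pthree D => ⟨t * (x : G), mul_mem htmem (hmem x x.2)⟩)) ⟨?_, ?_⟩).symm
  · have key : ∀ a b : Pthree D, (a : G) ≠ t * b := by
      intro a b h
      obtain ⟨u, -, hu⟩ := a.2
      obtain ⟨u', -, hu'⟩ := b.2
      rw [← hu, ← hu'] at h
      exact D.eq_of_f_eq_t_f h
    rintro (a | a) (b | b) h <;> replace h := congrArg Subtype.val h <;>
      simp only [Sum.elim_inl, Sum.elim_inr] at h
    · exact congrArg Sum.inl (Subtype.ext h)
    · exact absurd h (key a b)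
    · exact absurd h.symm (key b a)
    · exact congrArg Sum.inr (Subtype.ext (mul_left_cancel h))
  · rintro ⟨g, hg⟩
    rw [mem_centralizer_singleton_iff, ← mul_inv_eq_iff_eq_mul] at hg
    obtain ⟨hgt, hgy⟩ := D.split_conj D.q_odd (hcomm y hy) (D.pow_q hy) (hcomm y hy) (D.pow_q hy) hg
    obtain ⟨x, hx, e | e⟩ := D.cent_y hy hy1 hgt (mul_inv_eq_iff_eq_mul.1 hgy)
    exacts [⟨Sum.inl ⟨x, hx⟩, Subtype.ext e.symm⟩, ⟨Sum.inr ⟨x, hx⟩, Subtype.ext e.symm⟩]

theorem Data.count_ty (hno : NoInv G) (hall : ∀ s : G, s * s = 1 → s ≠ 1 → IsConj t s) {y : G}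
    (hy : y ∈ Pthree D) (hy1 : y ≠ 1) :
    Nat.card {s : G // IsConj t s ∧ IsConj t (s * (t * y))} = 0 := by
  rw [Nat.card_eq_zero]
  left
  constructor
  rintro ⟨s, hs⟩
  obtain ⟨-, -, h, -⟩ := (D.count_set hall _ s).1 hs
  have hyt := mem_centralizer_singleton_iff.1 (D.P_le hy)
  rw [_root_.mul_inv_rev, D.t_inv,
    (show y⁻¹ * t = t * y⁻¹ from mem_centralizer_singleton_iff.1 (D.P_le (inv_mem hy)))] at h
  obtain ⟨-, h'⟩ := D.split_conj D.q_odd hyt (D.pow_q hy)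
    (mem_centralizer_singleton_iff.1 (D.P_le (inv_mem hy))) (D.pow_q (inv_mem hy)) h
  exact hy1 (D.no_inversion hno (D.odd_order_of_three D.isPGroup_P hy) h')

theorem Data.count_t (hall : ∀ s : G, s * s = 1 → s ≠ 1 → IsConj t s) :
    Nat.card {s : G // IsConj t s ∧ IsConj t (s * t)} =
      Fintype.card F * (Fintype.card F - 1) := by
  classical
  have h2 := PSL.two_ne D.h4
  obtain ⟨V, hV⟩ := CfsgLib.JankoRee.exists_klein (F := F) h2
  obtain ⟨v, hv, hv1⟩ : ∃ v ∈ V, v ≠ 1 := by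
    by_contra h
    push Not at h
    have := hV.card_four
    rw [(eq_bot_iff_forall V).2 h, card_bot] at this
    omega
  have hov := orderOf_two_of (klein_mul_self hV hv) hv1
  obtain ⟨hCv, -⟩ := PSL.involution_centralizer D.h4 hov
  have hI : Nat.card {h : PS F // h * h = 1 ∧ h ≠ 1} = Nat.card {h : PS F // IsConj v h} := by
    refine Nat.card_congr (Equiv.subtypeEquivRight fun h => ⟨fun ⟨ha, hb⟩ =>
      isConj_involutions h2 v h hov (orderOf_two_of ha hb), fun hc => ?_⟩)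
    obtain ⟨c, rfl⟩ := isConj_iff.1 hc
    refine ⟨by rw [conj_mul, klein_mul_self hV hv]; group, fun e => hv1 (conj_eq_one_iff.1 e)⟩
  have hIc := CfsgLib.Char.card_isConj_mul_card_centralizer v
  rw [← hI, hCv] at hIc
  set I := Nat.card {h : PS F // h * h = 1 ∧ h ≠ 1} with hIdef
  have hq := PSL.card_PSL (F := F) h2
  rw [← hIc] at hq
  have hI2 : 2 * I = Fintype.card F * (Fintype.card F - 1) := by
    have e : Fintype.card F ^ 2 - 1 = (Fintype.card F - 1) * (Fintype.card F + 1) := by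
      rw [show Fintype.card F ^ 2 - 1 = Fintype.card F ^ 2 - 1 ^ 2 by rw [one_pow], Nat.sq_sub_sq,
        mul_comm]
    rw [e, ← mul_assoc, ← mul_assoc] at hq
    exact Nat.eq_of_mul_eq_mul_right (Nat.succ_pos _) hq
  rw [← hI2, two_mul, hIdef, ← Nat.card_sum]
  have key : ∀ h : {h : PS F // h * h = 1 ∧ h ≠ 1}, f (h : PS F) * f h = 1 ∧ f (h : PS F) ≠ 1 :=
    fun h => ⟨by rw [← map_mul, h.2.1, map_one],
      fun e => h.2.2 (D.inj (e.trans (map_one f).symm))⟩
  have key2 : ∀ h : {h : PS F // h * h = 1 ∧ h ≠ 1}, t * f (h : PS F) * (t * f (h : PS F)) = 1 := fun h => by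
    rw [mul_assoc, ← mul_assoc (f _), ← D.comm, ← mul_assoc, ← mul_assoc, D.sq_t, one_mul,
      (key h).1]
  refine (Nat.card_eq_of_bijective (Sum.elim
    (fun h : {h : PS F // h * h = 1 ∧ h ≠ 1} =>
      (⟨f (h : PS F), (D.count_set hall _ _).2 ⟨(key h).1, (key h).2, by
          rw [← D.comm, mul_inv_cancel_right, D.t_inv], fun e =>
          D.ne (h : PS F) ((eq_inv_of_mul_eq_one_left e).trans D.t_inv)⟩⟩ :
        {s : G // IsConj t s ∧ IsConj t (s * t)}))
    (fun h : {h : PS F // h * h = 1 ∧ h ≠ 1} =>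
      ⟨t * f (h : PS F), (D.count_set hall _ _).2 ⟨key2 h, D.t_f_ne _, by
          rw [mul_assoc t _ t, ← D.comm, mul_inv_cancel_right, D.t_inv], fun e => (key h).2 ?_⟩⟩))
    ⟨?_, ?_⟩).symm
  · rw [mul_assoc, ← D.comm, ← mul_assoc, D.sq_t, one_mul] at e
    exact e
  · rintro (a | a) (b | b) h <;> replace h := congrArg Subtype.val h <;>
      simp only [Sum.elim_inl, Sum.elim_inr] at h
    · exact congrArg Sum.inl (Subtype.ext (D.inj h))
    · exact absurd h D.eq_of_f_eq_t_f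
    · exact absurd h.symm D.eq_of_f_eq_t_f
    · exact congrArg Sum.inr (Subtype.ext (D.inj (mul_left_cancel h)))
  · rintro ⟨s, hs⟩
    obtain ⟨hss, hs1, hst, hst1⟩ := (D.count_set hall _ s).1 hs
    rw [D.t_inv] at hst
    obtain ⟨k, hk⟩ := D.decomp s (mul_inv_eq_iff_eq_mul.1 hst)
    have hkk : k * k = 1 := D.inj (by
      rw [map_mul, map_one]
      rcases hk with rfl | rfl
      · exact hss
      · rwa [mul_assoc, ← mul_assoc (f k), ← D.comm, ← mul_assoc, ← mul_assoc, D.sq_t, one_mul] at hss)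
    have hk1 : k ≠ 1 := by
      rintro rfl
      rcases hk with rfl | rfl
      · exact hs1 (map_one f)
      · exact hst1 (by rw [map_one, mul_one, D.sq_t])
    rcases hk with rfl | rfl
    exacts [⟨Sum.inl ⟨k, hkk, hk1⟩, rfl⟩, ⟨Sum.inr ⟨k, hkk, hk1⟩, rfl⟩]

variable {T : Subgroup G} {a w e : G} (Tr : Torus t f T a w e)
include Tr

theorem Data.n1_facts : Odd (Nat.card T) ∧ (∀ k ∈ T, k ^ Nat.card T = 1) ∧
    Nat.Coprime (Nat.card T) 3 := by
  have h1 := Tr.card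
  obtain ⟨h8, -, h3, -⟩ := D.q_facts
  refine ⟨Nat.odd_iff.2 (by omega), fun k hk => ?_, ?_⟩
  · exact congrArg Subtype.val (pow_card_eq_one' (x := (⟨k, hk⟩ : T)))
  · rw [Nat.coprime_comm, Nat.Prime.coprime_iff_not_dvd Nat.prime_three]
    intro h
    exact h3 (h1 ▸ dvd_mul_of_dvd_right h 4)

theorem Data.card_cent_tk {k : G} (hk : k ∈ T) (hk1 : k ≠ 1) :
    Nat.card ↥(centralizer ({t * k} : Set G)) = Fintype.card F + 1 := by
  obtain ⟨hodd, hpow, -⟩ := D.n1_facts Tr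
  have hta : (t * a) * (t * a) = 1 := by
    rw [mul_assoc, ← mul_assoc a, Tr.a_comm, ← mul_assoc, ← mul_assoc, D.sq_t, one_mul, Tr.a_sq]
  let W : Fin 4 → G := ![1, t, a, t * a]
  have hWsq : ∀ i, W i * W i = 1 := fun i => by
    fin_cases i
    exacts [mul_one 1, D.sq_t, Tr.a_sq, hta]
  have hWt : ∀ i, W i * t = t * W i := fun i => by
    fin_cases i
    exacts [by simp [W], rfl, Tr.a_comm, by simp only [W]; simp [mul_assoc, Tr.a_comm]]
  have hWT : ∀ i, ∀ l ∈ T, W i * l = l * W i := fun i l hl => by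
    fin_cases i
    exacts [by simp [W], (Tr.commT l hl).symm, (Tr.commA l hl).symm, by
      show t * a * l = l * (t * a)
      rw [mul_assoc, ← Tr.commA l hl, ← mul_assoc, ← Tr.commT l hl, mul_assoc]]
  have hta1 : t * a ≠ 1 := fun e => Tr.a_ne_t
    ((inv_eq_of_mul_eq_one_right e).symm.trans D.t_inv)
  have hWinj : Function.Injective W := by
    intro i j h
    have e1 : t ≠ t * a := fun h => Tr.a_ne (mul_eq_left.1 h.symm)
    have e2 : a ≠ t * a := fun h => D.t_ne (mul_eq_right.1 h.symm)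
    fin_cases i <;> fin_cases j <;> first
      | rfl
      | (simp [W, D.t_ne, Ne.symm D.t_ne, Tr.a_ne, Ne.symm Tr.a_ne, Tr.a_ne_t, Ne.symm Tr.a_ne_t,
          e1, e1.symm, e2, e2.symm, hta1, Ne.symm hta1] at h)
  have hmem : ∀ (i : Fin 4) (l : T), W i * l ∈ centralizer ({t * k} : Set G) := fun i l => by
    refine mem_centralizer_singleton_iff.2 ?_
    have e1 : Commute (W i * (l : G)) t := Commute.mul_left (hWt i) (Tr.commT l l.2)
    have e2 : Commute (W i * (l : G)) k := Commute.mul_left (hWT i k hk) (Tr.comm l l.2 k hk)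
    exact (e1.mul_right e2).eq
  rw [← Tr.card, show 4 * Nat.card T = Nat.card (Fin 4 × T) by
    rw [Nat.card_prod, Nat.card_fin]]
  refine (Nat.card_eq_of_bijective
    (fun p : Fin 4 × T => (⟨W p.1 * p.2, hmem p.1 p.2⟩ : centralizer ({t * k} : Set G))) ⟨?_, ?_⟩).symm
  · rintro ⟨i, l⟩ ⟨j, l'⟩ h
    replace h : W i * (l : G) = W j * (l' : G) := congrArg Subtype.val h
    have hW : ∀ (i : Fin 4) (l : T), (W i * (l : G)) ^ Nat.card T = W i := fun i l => by
      obtain ⟨r, hr⟩ := hodd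
      rw [(show Commute (W i) (l : G) from hWT i l l.2).mul_pow, hpow l l.2, mul_one, hr, pow_succ,
        pow_mul, sq, hWsq, one_pow, one_mul]
    have hij : i = j := hWinj (by rw [← hW i l, h, hW j l'])
    subst hij
    exact Prod.ext rfl (Subtype.ext (mul_left_cancel h))
  · rintro ⟨g, hg⟩
    rw [mem_centralizer_singleton_iff, ← mul_inv_eq_iff_eq_mul] at hg
    obtain ⟨hgt, hgk⟩ := D.split_conj hodd (Tr.commT k hk) (hpow k hk) (Tr.commT k hk) (hpow k hk) hg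
    obtain ⟨l, hl, e | e | e | e⟩ := Tr.cent k hk hk1 g hgt (mul_inv_eq_iff_eq_mul.1 hgk)
    exacts [⟨(0, ⟨l, hl⟩), Subtype.ext (by simp [W, e])⟩, ⟨(1, ⟨l, hl⟩), Subtype.ext (by simp [W, e])⟩,
      ⟨(2, ⟨l, hl⟩), Subtype.ext (by simp [W, e])⟩, ⟨(3, ⟨l, hl⟩), Subtype.ext (by simp [W, e])⟩]

theorem Data.count_tk {k : G} (hk : k ∈ T) (hk1 : k ≠ 1) :
    Nat.card {s : G // IsConj t s ∧ IsConj t (s * (t * k))} = Fintype.card F + 1 := by
  obtain ⟨hodd, hpow, -⟩ := D.n1_facts Tr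
  rw [← Tr.card_inverters k hk hk1]
  refine Nat.card_congr (Equiv.subtypeEquivRight fun s => ?_)
  rw [D.count_set Tr.invol]
  have hkinv : (t * k)⁻¹ = t * k⁻¹ := by
    rw [_root_.mul_inv_rev, D.t_inv, Tr.commT _ (inv_mem hk)]
  constructor
  · rintro ⟨h1, h2, h3, -⟩
    rw [hkinv] at h3
    obtain ⟨h4, h5⟩ := D.split_conj hodd (Tr.commT k hk) (hpow k hk) (Tr.commT _ (inv_mem hk))
      (hpow _ (inv_mem hk)) h3
    exact ⟨h1, h2, h4, h5⟩
  · rintro ⟨h1, h2, h4, h5⟩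
    refine ⟨h1, h2, ?_, fun e => hk1 ?_⟩
    · rw [hkinv, ← h5, ← mul_assoc, h4]; group
    · have e' : (t * k)⁻¹ * (t * k)⁻¹ = 1 := by
        rw [← eq_inv_of_mul_eq_one_left e]; exact h1
      rw [hkinv, mul_assoc, ← mul_assoc (k⁻¹), Tr.commT _ (inv_mem hk), ← mul_assoc, ← mul_assoc,
        D.sq_t, one_mul] at e'
      obtain ⟨r, hr⟩ := hodd
      have := hpow _ (inv_mem hk)
      rw [hr, pow_succ, pow_mul, sq, e', one_pow, one_mul] at this
      exact inv_eq_one.1 this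

end CfsgLib.Goldschmidt.Ree
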