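import Cfsg.Agent.Lib.Goldschmidt.ReeBase
import Cfsg.Agent.Lib.Solvable.CoprimeAction
import Cfsg.Agent.Lib.JTwoType.Four

/-!
Groups of Ree type without `S₃`: the Sylow 3-subgroup of `K` is Sylow in `G`, and the centralizer of
its nontrivial elements has an abelian normal 3-complement in odd order, inverted by `t`.
-/

set_option autoImplicit false
set_option linter.unusedSectionVars false
set_option linter.style.haveILetI false

namespace CfsgLib.Goldschmidt

open Subgroup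

/-- No involution inverts a nontrivial 3-element. -/
def NoInv (G : Type*) [Group G] : Prop :=
  ∀ s y : G, s * s = 1 → (∃ k : ℕ, orderOf y = 3 ^ k) → s * y * s⁻¹ = y⁻¹ → y = 1

/-- The subgroup given by the kernel of a map onto a `p`-group. -/
theorem exists_kernel_subgroup {G : Type*} [Group G] [Finite G] {p : ℕ} [Fact p.Prime]
    {N : Subgroup G} {Q : Type*} [Group Q] (hQ : IsPGroup p Q) (φ : N →* Q)
    (hker : ¬ p ∣ Nat.card φ.ker) :
    ∃ O : Subgroup G, O ≤ N ∧ N ≤ normalizer (O : Set G) ∧ ¬ p ∣ Nat.card O ∧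
      ∀ g ∈ N, ¬ p ∣ orderOf g → g ∈ O := by
  refine ⟨φ.ker.map N.subtype, map_subtype_le _, fun n hn => mem_normalizer_fintype ?_, ?_,
    fun g hg ho => ⟨⟨g, hg⟩, ?_, rfl⟩⟩
  · rintro _ ⟨x, hx, rfl⟩
    refine ⟨⟨n, hn⟩ * x * ⟨n, hn⟩⁻¹, ?_, rfl⟩
    have hx' : φ x = 1 := hx
    show φ _ = 1
    rw [map_mul, map_mul, hx', mul_one, ← map_mul, mul_inv_cancel, map_one]
  · rwa [Nat.card_congr (equivMapOfInjective _ _ N.subtype_injective).symm.toEquiv]
  · obtain ⟨k, hk⟩ := IsPGroup.iff_orderOf.1 hQ (φ ⟨g, hg⟩)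
    have hd : orderOf (φ ⟨g, hg⟩) ∣ orderOf g := by
      have := orderOf_map_dvd φ ⟨g, hg⟩
      rwa [Subgroup.orderOf_mk] at this
    rcases Nat.eq_zero_or_pos k with rfl | hk0
    · exact orderOf_eq_one_iff.1 (by rw [hk, pow_zero])
    · exact absurd ((dvd_pow_self p hk0.ne').trans (hk ▸ hd)) ho

namespace Ree

open CfsgLib.PSL2Sub

variable {G : Type*} [Group G] [Finite G] {F : Type*} [Field F] [Fintype F]
variable {t : G} {f : PS F →* G} (D : Data t f)
include D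

theorem Data.sq_of_two {x : G} (hx : ∃ k : ℕ, orderOf x = 2 ^ k) : x * x = 1 := by
  haveI : Fact (Nat.Prime 2) := ⟨Nat.prime_two⟩
  obtain ⟨k, hk⟩ := hx
  obtain ⟨S, hS⟩ := (IsPGroup.of_card (n := k) (p := 2) (G := zpowers x)
    (by rw [Nat.card_zpowers, hk])).exists_le_sylow
  obtain ⟨V, hV⟩ := CfsgLib.JankoRee.exists_klein (F := F) (PSL.two_ne D.h4)
  obtain ⟨S', hS'⟩ := D.exists_sylow_E hV
  obtain ⟨e⟩ : Nonempty (↥(S : Subgroup G) ≃* ↥(S' : Subgroup G)) := ⟨S.equiv S'⟩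
  have h : (⟨x, hS (mem_zpowers x)⟩ : ↥(S : Subgroup G)) * ⟨x, hS (mem_zpowers x)⟩ = 1 :=
    e.injective (by
      rw [map_mul, map_one]
      exact Subtype.ext ((D.E_elem hV).1 _ (hS' ▸ (e _).2)))
  exact congrArg Subtype.val h

/-- A subgroup containing `t` as its only centralizing involution has a complement of odd order. -/
theorem Data.exists_odd_complement (N : Subgroup G) (htN : t ∈ N)
    (h : ∀ g ∈ N, g * t = t * g → g * g = 1 → g = 1 ∨ g = t) :
    ∃ O : Subgroup G, O ≤ N ∧ N ≤ normalizer (O : Set G) ∧ Odd (Nat.card O) ∧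
      ∀ g ∈ N, Odd (orderOf g) → g ∈ O := by
  classical
  haveI : Fact (Nat.Prime 2) := ⟨Nat.prime_two⟩
  let t' : N := ⟨t, htN⟩
  have h2 : IsPGroup 2 (zpowers t') := IsPGroup.of_card (n := 1) (by
    rw [Nat.card_zpowers, ← Subgroup.orderOf_coe, D.ht, pow_one])
  obtain ⟨R, hR⟩ := h2.exists_le_sylow
  obtain ⟨S, hS⟩ := (R.2.map N.subtype).exists_le_sylow
  have hRR : ∀ r ∈ (R : Subgroup N), r = 1 ∨ r = t' := by
    intro r hr
    have hcomm : (r : G) * t = t * r := congrArg Subtype.val ((D.sylow_comm S).is_comm.comm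
      ⟨r, hS ⟨r, hr, rfl⟩⟩ ⟨t, hS ⟨t', hR (mem_zpowers t'), rfl⟩⟩)
    obtain ⟨k, hk⟩ := IsPGroup.iff_orderOf.1 R.2 ⟨r, hr⟩
    have hsq : (r : G) * r = 1 := D.sq_of_two ⟨k, by rwa [Subgroup.orderOf_mk, ← Subgroup.orderOf_coe] at hk⟩
    rcases h r r.2 hcomm hsq with e | e
    · exact Or.inl (Subtype.ext e)
    · exact Or.inr (Subtype.ext e)
  have ht'R : t' ∈ (R : Subgroup N) := hR (mem_zpowers t')
  have ht'1 : t' ≠ 1 := fun e => D.t_ne (congrArg Subtype.val e)
  have hNC : normalizer ((R : Subgroup N) : Set N) ≤ centralizer ((R : Subgroup N) : Set N) := by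
    intro n hn
    rw [mem_centralizer_iff]
    intro r hr
    rcases hRR r hr with rfl | rfl
    · simp
    · rcases hRR _ ((mem_normalizer_iff.1 hn t').1 hr) with e | e
      · exact absurd (by simpa [mul_inv_eq_one] using e) ht'1
      · exact (mul_inv_eq_iff_eq_mul.1 e).symm
  obtain ⟨O, h1, h3, h4, h5⟩ := exists_kernel_subgroup (p := 2) R.2 (MonoidHom.transferSylow R hNC)
    (MonoidHom.not_dvd_card_ker_transferSylow R hNC)
  refine ⟨O, h1, h3, ?_, fun g hg ho => h5 g hg fun hd => ?_⟩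
  · rw [Nat.odd_iff, ← Nat.two_dvd_ne_zero]; exact h4
  · exact absurd (ho.of_dvd_nat hd) (by decide)

/-- The Sylow 3-subgroup of `K`. -/
noncomputable def Pthree : Subgroup G :=
  have := D
  (PSL.U F).map f

theorem Data.mem_P {y : G} : y ∈ Pthree D ↔ ∃ x ∈ PSL.U F, f x = y := Iff.rfl

theorem Data.card_P : Nat.card (Pthree D) = Fintype.card F := by
  rw [Pthree, ← Nat.card_congr (equivMapOfInjective _ f D.inj).toEquiv,
    PSL.card_U (PSL.two_ne D.h4)]

theorem Data.isPGroup_P : IsPGroup 3 (Pthree D) := by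
  obtain ⟨n, -, hq⟩ := D.card_F
  exact IsPGroup.of_card (n := 2 * n + 1) (by rw [D.card_P, hq])

theorem Data.P_comm {a b : G} (ha : a ∈ Pthree D) (hb : b ∈ Pthree D) : a * b = b * a := by
  obtain ⟨x, hx, rfl⟩ := ha
  obtain ⟨y, hy, rfl⟩ := hb
  rw [← map_mul, ← map_mul, PSL.comm_U hx hy]

theorem Data.P_le : Pthree D ≤ centralizer ({t} : Set G) := by
  rintro _ ⟨x, -, rfl⟩
  exact D.f_mem x

theorem Data.coprime_C : Nat.Coprime 3 (Fintype.card F ^ 2 - 1) := by
  obtain ⟨n, -, hq⟩ := D.card_F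
  rw [Nat.Prime.coprime_iff_not_dvd Nat.prime_three]
  have h3 : 3 ∣ Fintype.card F ^ 2 := dvd_pow (hq ▸ dvd_pow_self 3 (by omega)) two_ne_zero
  have hpos : 0 < Fintype.card F ^ 2 := pow_pos Fintype.card_pos 2
  omega

theorem Data.eq_P_of_le {R : Subgroup G} (hR : IsPGroup 3 R) (hPR : Pthree D ≤ R)
    (hRC : R ≤ centralizer ({t} : Set G)) : R = Pthree D := by
  haveI : Fact (Nat.Prime 3) := ⟨Nat.prime_three⟩
  refine (eq_of_le_of_card_ge hPR ?_).symm
  obtain ⟨k, hk⟩ := IsPGroup.iff_card.1 hR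
  have h := card_dvd_of_le hRC
  rw [D.card_centralizer, hk] at h
  rw [D.card_P, hk]
  exact Nat.le_of_dvd Fintype.card_pos ((D.coprime_C.pow_left k).dvd_of_dvd_mul_right h)

theorem Data.odd_order_of_three {y : G} {R : Subgroup G} (hR : IsPGroup 3 R) (hy : y ∈ R) :
    ∃ k, orderOf y = 3 ^ k := by
  haveI : Fact (Nat.Prime 3) := ⟨Nat.prime_three⟩
  obtain ⟨k, hk⟩ := IsPGroup.iff_orderOf.1 hR ⟨y, hy⟩
  exact ⟨k, by rwa [Subgroup.orderOf_mk] at hk⟩

/-- A 3-group normalized by `t` is centralized by it. -/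
theorem Data.cent_of_normalized (hno : NoInv G) {R : Subgroup G} (hR : IsPGroup 3 R)
    (hn : t ∈ normalizer (R : Set G)) : R ≤ centralizer ({t} : Set G) := by
  intro r hr
  have hc : r⁻¹ * (t * r * t⁻¹) = 1 := by
    refine hno t _ D.sq_t (D.odd_order_of_three hR
      (mul_mem (inv_mem hr) ((mem_normalizer_iff.1 hn r).1 hr))) ?_
    calc t * (r⁻¹ * (t * r * t⁻¹)) * t⁻¹ = t * r⁻¹ * t * r * (t⁻¹ * t⁻¹) := by group
      _ = t * r⁻¹ * t⁻¹ * r := by rw [D.t_inv, D.sq_t, mul_one]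
      _ = _ := by group
  rw [mem_centralizer_singleton_iff]
  exact (mul_inv_eq_iff_eq_mul.1 (inv_mul_eq_one.1 hc).symm).symm

theorem Data.exists_sylow_P (hno : NoInv G) :
    ∃ Q : Sylow 3 G, (Q : Subgroup G) = Pthree D := by
  classical
  haveI : Fact (Nat.Prime 3) := ⟨Nat.prime_three⟩
  set N := normalizer (Pthree D : Set G) with hN
  have htC : ∀ x ∈ Pthree D, t * x * t⁻¹ = x := fun x hx => by
    rw [← mem_centralizer_singleton_iff.1 (D.P_le hx), mul_inv_cancel_right]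
  have htN : t ∈ N := mem_normalizer_fintype fun x hx => (htC x hx).symm ▸ hx
  obtain ⟨⟨u0, hu0⟩, hu01⟩ : ∃ u : PSL.U F, u ≠ 1 := by
    haveI : Nontrivial (PSL.U F) := Finite.one_lt_card_iff_nontrivial.1
      (by rw [PSL.card_U (PSL.two_ne D.h4)]; exact Fintype.one_lt_card)
    exact exists_ne 1
  obtain ⟨O, hON, hNO, hOodd, hOmem⟩ := D.exists_odd_complement N htN (by
    intro g hg hgt hgg
    obtain ⟨k, hk⟩ := D.decomp g hgt
    have hkk : k * k = 1 := D.inj (by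
      rw [map_mul, map_one]
      rcases hk with rfl | rfl
      · exact hgg
      · rwa [mul_assoc, ← mul_assoc (f k), ← D.comm, ← mul_assoc, ← mul_assoc, D.sq_t, one_mul] at hgg)
    by_cases hk1 : k = 1
    · rcases hk with rfl | rfl <;> simp [hk1]
    exfalso
    obtain ⟨x, hx, hxe⟩ : f (k * u0 * k⁻¹) ∈ Pthree D := by
      have hmem := (mem_normalizer_iff.1 hg (f u0)).1 ⟨u0, hu0, rfl⟩
      rcases hk with rfl | rfl
      · rwa [map_mul, map_mul, map_inv]
      · rw [show t * f k * f u0 * (t * f k)⁻¹ = t * (f k * f u0 * (f k)⁻¹) * t⁻¹ by group,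
          ← map_inv, ← map_mul, ← map_mul, D.comm, mul_inv_cancel_right] at hmem
        exact hmem
    exact PSL.no_involution_normalizes D.h4 hu0 (fun e => hu01 (Subtype.ext e))
      (orderOf_two_of hkk hk1) (D.inj hxe ▸ hx))
  have hcop : (Nat.card (zpowers t)).Coprime (Nat.card O) := by
    rw [Nat.card_zpowers, D.ht, Nat.coprime_two_left]
    exact hOodd
  have hPO : Pthree D ≤ O := fun x hx => hOmem x (le_normalizer hx) (by
    obtain ⟨k, hk⟩ := D.odd_order_of_three D.isPGroup_P hx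
    rw [hk]; exact Odd.pow (by decide))
  have htn : ∀ {R : Subgroup G}, t ∈ normalizer (R : Set G) →
      zpowers t ≤ normalizer (R : Set G) := fun h => zpowers_le.2 h
  obtain ⟨R, hPR, htR⟩ := CfsgLib.Solvable.exists_invariant_sylow_ge (A := zpowers t) (K := O)
    (htn (hNO htN)) hcop (Or.inl inferInstance) 3 hPO D.isPGroup_P (htn htN)
  have hRP : (R : Subgroup O).map O.subtype = Pthree D :=
    D.eq_P_of_le (R.2.map _) hPR (D.cent_of_normalized hno (R.2.map _) (htR (mem_zpowers t)))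
  obtain ⟨Q, hQ⟩ := D.isPGroup_P.exists_le_sylow
  refine ⟨Q, ?_⟩
  by_contra hne
  haveI : Group.IsNilpotent ↥(Q : Subgroup G) := Q.2.isNilpotent
  have hlt : (Pthree D).subgroupOf Q < normalizer (((Pthree D).subgroupOf Q : Subgroup Q) : Set Q) := by
    apply Group.normalizerCondition_of_isNilpotent
    rw [lt_top_iff_ne_top]
    intro e
    exact hne (le_antisymm (subgroupOf_eq_top.1 e) hQ)
  obtain ⟨⟨x, hxQ⟩, hxN, hxP⟩ := SetLike.exists_of_lt hlt
  have hxNG : x ∈ N := mem_normalizer_fintype fun p hp =>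
    (mem_normalizer_iff.1 hxN ⟨p, hQ hp⟩).1 hp
  have hxO : x ∈ O := hOmem x hxNG (by
    obtain ⟨k, hk⟩ := D.odd_order_of_three Q.2 hxQ
    rw [hk]; exact Odd.pow (by decide))
  have hp : IsPGroup 3 ↥(((Q : Subgroup G) ⊓ O).subgroupOf O) :=
    (Q.2.to_le inf_le_left).comap_of_injective O.subtype O.subtype_injective
  have := R.3 hp (fun r hr => by
    have : (r : G) ∈ Pthree D := hRP ▸ mem_map_of_mem _ hr
    exact ⟨hQ this, r.2⟩)
  apply hxP
  show x ∈ Pthree D
  rw [← hRP, ← this]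
  exact ⟨⟨x, hxO⟩, ⟨hxQ, hxO⟩, rfl⟩

theorem Data.conj_into_P (hno : NoInv G) {y : G} (hy : ∃ k, orderOf y = 3 ^ k) :
    ∃ g : G, g * y * g⁻¹ ∈ Pthree D := by
  haveI : Fact (Nat.Prime 3) := ⟨Nat.prime_three⟩
  obtain ⟨k, hk⟩ := hy
  obtain ⟨R, hR⟩ := (IsPGroup.of_card (n := k) (p := 3) (G := zpowers y)
    (by rw [Nat.card_zpowers, hk])).exists_le_sylow
  obtain ⟨Q, hQ⟩ := D.exists_sylow_P hno
  obtain ⟨g, hg⟩ := MulAction.exists_smul_eq G R Q
  refine ⟨g, ?_⟩
  rw [← hQ, ← hg]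
  exact smul_mem_pointwise_smul _ (MulAut.conj g) _ (hR (mem_zpowers y))

theorem Data.exists_U_conj {x : PS F} (hx : ∃ k, orderOf x = 3 ^ k) :
    ∃ h : PS F, h * x * h⁻¹ ∈ PSL.U F := by
  haveI : Fact (Nat.Prime 3) := ⟨Nat.prime_three⟩
  obtain ⟨n, -, hq⟩ := D.card_F
  have hU : IsPGroup 3 (PSL.U F) :=
    IsPGroup.of_card (n := 2 * n + 1) (by rw [PSL.card_U (PSL.two_ne D.h4), hq])
  have hidx : ¬ 3 ∣ (PSL.U F).index := by
    intro hd
    have h1 := PSL.card_PSL (F := F) (PSL.two_ne D.h4)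
    rw [← Subgroup.card_mul_index (PSL.U F), PSL.card_U (PSL.two_ne D.h4), ← mul_assoc,
      mul_comm 2, mul_assoc] at h1
    have h2 := Nat.eq_of_mul_eq_mul_left Fintype.card_pos h1
    exact (Nat.Prime.coprime_iff_not_dvd Nat.prime_three).1 D.coprime_C (h2 ▸ dvd_mul_of_dvd_right hd 2)
  obtain ⟨k, hk⟩ := hx
  obtain ⟨R, hR⟩ := (IsPGroup.of_card (n := k) (p := 3) (G := zpowers x)
    (by rw [Nat.card_zpowers, hk])).exists_le_sylow
  obtain ⟨h, hh⟩ := MulAction.exists_smul_eq (PS F) R (hU.toSylow hidx)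
  refine ⟨h, ?_⟩
  have hm : h * x * h⁻¹ ∈ ((hU.toSylow hidx : Sylow 3 (PS F)) : Subgroup (PS F)) := by
    rw [← hh]
    exact smul_mem_pointwise_smul _ (MulAut.conj h) _ (hR (mem_zpowers x))
  rwa [IsPGroup.toSylow_coe] at hm

theorem Data.cent_y {y : G} (hy : y ∈ Pthree D) (hy1 : y ≠ 1) {g : G} (hgt : g * t = t * g)
    (hgy : g * y = y * g) : ∃ x ∈ Pthree D, g = x ∨ g = t * x := by
  obtain ⟨u, hu, rfl⟩ := hy
  obtain ⟨k, hk⟩ := D.decomp g hgt
  have hku : f k * f u = f u * f k := by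
    rcases hk with rfl | rfl
    · exact hgy
    · rw [mul_assoc, ← mul_assoc (f u), ← D.comm, mul_assoc] at hgy
      exact mul_left_cancel hgy
  rw [← map_mul, ← map_mul] at hku
  exact ⟨f k, ⟨k, PSL.centralizer_U (PSL.two_ne D.h4) hu (fun e => hy1 (by rw [e, map_one]))
    (mul_inv_eq_iff_eq_mul.2 (D.inj hku)), rfl⟩, hk⟩

/-- The centralizer of a nontrivial element of `P`. -/
theorem Data.cent_three (hno : NoInv G) {y : G} (hy : y ∈ Pthree D) (hy1 : y ≠ 1) :
    ∃ J : Subgroup G, J ≤ centralizer ({y} : Set G) ∧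
      centralizer ({y} : Set G) ≤ normalizer (J : Set G) ∧ ¬ 3 ∣ Nat.card J ∧ Odd (Nat.card J) ∧
      (∀ j ∈ J, t * j * t⁻¹ = j⁻¹) ∧ (∀ a ∈ J, ∀ b ∈ J, a * b = b * a) ∧
      ∀ g ∈ centralizer ({y} : Set G), Odd (orderOf g) → ¬ 3 ∣ orderOf g → g ∈ J := by
  classical
  haveI : Fact (Nat.Prime 3) := ⟨Nat.prime_three⟩
  set C := centralizer ({y} : Set G) with hC
  have htC : t ∈ C := mem_centralizer_singleton_iff.2
    (mem_centralizer_singleton_iff.1 (D.P_le hy)).symm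
  have hP1 : ∀ x ∈ Pthree D, x * x = 1 → x = 1 := by
    intro x hx hxx
    obtain ⟨k, hk⟩ := D.odd_order_of_three D.isPGroup_P hx
    have h1 : orderOf x ∣ 2 := orderOf_dvd_of_pow_eq_one (by rw [sq, hxx])
    rw [← orderOf_eq_one_iff]
    exact Nat.eq_one_of_dvd_coprimes (Nat.Coprime.pow_left k (by decide : Nat.Coprime 3 2))
      (hk ▸ dvd_rfl) h1
  obtain ⟨O, hOC, hCO, hOodd, hOmem⟩ := D.exists_odd_complement C htC (by
    intro g hg hgt hgg
    obtain ⟨x, hx, e | e⟩ := D.cent_y hy hy1 hgt (mem_centralizer_singleton_iff.1 hg)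
    · exact Or.inl (e.trans (hP1 x hx (e ▸ hgg)))
    · refine Or.inr ?_
      subst e
      have hxt : x * t = t * x := mem_centralizer_singleton_iff.1 (D.P_le hx)
      rw [mul_assoc, ← mul_assoc x, hxt, ← mul_assoc, ← mul_assoc, D.sq_t, one_mul] at hgg
      rw [hP1 x hx hgg, mul_one])
  have hPO : Pthree D ≤ O := fun x hx => hOmem x
    (mem_centralizer_singleton_iff.2 (D.P_comm hx hy)) (by
      obtain ⟨k, hk⟩ := D.odd_order_of_three D.isPGroup_P hx
      rw [hk]; exact Odd.pow (by decide))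
  have htP : ∀ g : G, g * t = t * g → g ∈ O → g ∈ Pthree D := by
    intro g hgt hgO
    obtain ⟨x, hx, e | e⟩ := D.cent_y hy hy1 hgt (mem_centralizer_singleton_iff.1 (hOC hgO))
    · exact e ▸ hx
    · exfalso
      have htO : t ∈ O := by
        rw [e] at hgO
        exact (O.mul_mem_cancel_right (hPO hx)).1 hgO
      have hd : orderOf t ∣ Nat.card O := by
        have := orderOf_dvd_natCard (⟨t, htO⟩ : O)
        rwa [Subgroup.orderOf_mk] at this
      rw [D.ht] at hd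
      exact absurd (hOodd.of_dvd_nat hd) (by decide)
  obtain ⟨Q, hQ⟩ := D.exists_sylow_P hno
  let Q' : Sylow 3 O := Q.subtype (hQ.symm ▸ hPO)
  have hQ'mem : ∀ {x : O}, x ∈ (Q' : Subgroup O) ↔ (x : G) ∈ Pthree D := fun {x} => by
    rw [← hQ]; rfl
  have hNC : normalizer ((Q' : Subgroup O) : Set O) ≤ centralizer ((Q' : Subgroup O) : Set O) := by
    rintro ⟨n, hnO⟩ hn
    have hnP : ∀ x ∈ Pthree D, n * x * n⁻¹ ∈ Pthree D := fun x hx =>
      hQ'mem.1 ((mem_normalizer_iff.1 hn ⟨x, hPO hx⟩).1 (hQ'mem.2 hx))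
    have hcomm : ∀ x ∈ Pthree D, x * t = t * x := fun x hx =>
      mem_centralizer_singleton_iff.1 (D.P_le hx)
    set d := n⁻¹ * (t * n * t⁻¹) with hd
    have hdO : d ∈ O := mul_mem (inv_mem hnO) ((mem_normalizer_iff.1 (hCO htC) n).1 hnO)
    have hdP : ∀ x ∈ Pthree D, d * x = x * d := by
      intro x hx
      rw [← mul_inv_eq_iff_eq_mul]
      calc d * x * d⁻¹ = n⁻¹ * (t * (n * (t⁻¹ * (x * t)) * n⁻¹) * t⁻¹) * n := by rw [hd]; group
        _ = n⁻¹ * (t * (n * x * n⁻¹) * t⁻¹) * n := by rw [hcomm x hx, inv_mul_cancel_left]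
        _ = n⁻¹ * (n * x * n⁻¹) * n := by rw [← hcomm _ (hnP x hx), mul_inv_cancel_right]
        _ = x := by group
    have hdt : t * d * t⁻¹ = d⁻¹ := by
      calc t * d * t⁻¹ = t * n⁻¹ * t * n * (t⁻¹ * t⁻¹) := by rw [hd]; group
        _ = t * n⁻¹ * t⁻¹ * n := by rw [D.t_inv, D.sq_t, mul_one]
        _ = d⁻¹ := by rw [hd]; group
    have hdodd : Odd (orderOf d) := by
      have := orderOf_dvd_natCard (⟨d, hdO⟩ : O)
      rw [Subgroup.orderOf_mk] at this
      exact hOodd.of_dvd_nat this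
    obtain ⟨r, hr⟩ := hdodd
    set c := d ^ (r + 1) with hc
    have hcc : c * c = d := by
      rw [hc, ← pow_add, show r + 1 + (r + 1) = orderOf d + 1 by omega, pow_succ, pow_orderOf_eq_one,
        one_mul]
    have hct : t * c * t⁻¹ = c⁻¹ := by rw [hc, ← conj_pow, hdt, inv_pow]
    have hfix : n * c * t = t * (n * c) := by
      have : t * (n * c) * t⁻¹ = n * c := by
        calc t * (n * c) * t⁻¹ = (t * n * t⁻¹) * (t * c * t⁻¹) := by group
          _ = n * d * c⁻¹ := by rw [hct, hd]; group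
          _ = n * c := by rw [← hcc]; group
      exact (mul_inv_eq_iff_eq_mul.1 this).symm
    have hncP := htP (n * c) hfix (mul_mem hnO (pow_mem hdO _))
    rw [mem_centralizer_iff]
    intro x hx
    have hx' : (x : G) ∈ Pthree D := hQ'mem.1 hx
    refine Subtype.ext ?_
    show (x : G) * n = n * x
    have h1 : Commute (x : G) (n * c) := D.P_comm hx' hncP
    have h2 : Commute (x : G) c := (show Commute (x : G) d from (hdP x hx').symm).pow_right _
    have h3 := h1.mul_right h2.inv_right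
    rw [mul_inv_cancel_right] at h3
    exact h3
  obtain ⟨J, hJO, -, h3J, hmem⟩ := exists_kernel_subgroup (p := 3) Q'.2
    (MonoidHom.transferSylow Q' hNC) (MonoidHom.not_dvd_card_ker_transferSylow Q' hNC)
  have hJord : ∀ j ∈ J, Odd (orderOf j) ∧ ¬ 3 ∣ orderOf j := by
    intro j hj
    have := orderOf_dvd_natCard (⟨j, hj⟩ : J)
    rw [Subgroup.orderOf_mk] at this
    exact ⟨hOodd.of_dvd_nat (this.trans (card_dvd_of_le hJO)), fun h => h3J (h.trans this)⟩
  have hmemJ : ∀ g ∈ C, Odd (orderOf g) → ¬ 3 ∣ orderOf g → g ∈ J := fun g hg ho h3 =>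
    hmem g (hOmem g hg ho) h3
  have hnorm : C ≤ normalizer (J : Set G) := by
    intro g hg
    refine mem_normalizer_fintype fun j hj => hmemJ _
      (mul_mem (mul_mem hg (hOC (hJO hj))) (inv_mem hg)) ?_ ?_
    all_goals rw [show orderOf (g * j * g⁻¹) = orderOf j from
      (MulAut.conj g).orderOf_eq j]
    exacts [(hJord j hj).1, (hJord j hj).2]
  have hinv : ∀ j ∈ J, t * j * t⁻¹ = j⁻¹ := by
    refine CfsgLib.JTwoType.inverts_of_fpf J D.sq_t
      (fun j hj => (mem_normalizer_iff.1 (hnorm htC) j).1 hj) fun j hj h => ?_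
    have hjP := htP j (mul_inv_eq_iff_eq_mul.1 h).symm (hJO hj)
    obtain ⟨k, hk⟩ := D.odd_order_of_three D.isPGroup_P hjP
    rcases Nat.eq_zero_or_pos k with rfl | hk0
    · exact orderOf_eq_one_iff.1 (by rw [hk, pow_zero])
    · exact absurd (hk ▸ dvd_pow_self 3 hk0.ne') (hJord j hj).2
  refine ⟨J, hJO.trans hOC, hnorm, h3J, hOodd.of_dvd_nat (card_dvd_of_le hJO), hinv, ?_, hmemJ⟩
  intro a ha b hb
  have h := hinv _ (mul_mem ha hb)
  rw [← conj_mul, hinv a ha, hinv b hb, ← _root_.mul_inv_rev, inv_inj] at h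
  exact h.symm

end Ree

end CfsgLib.Goldschmidt
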