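import Cfsg.Agent.Lib.Goldschmidt.ReeLocal

/-!
The torus centralizing a four-group `{1, t, v, tv}` in a group of Ree type, with the element of order
three permuting the four-group and the involution inverting the torus.
-/

set_option autoImplicit false
set_option linter.unusedSectionVars false
set_option linter.style.haveILetI false

namespace CfsgLib.Goldschmidt.Ree

open Subgroup CfsgLib.PSL2Sub

variable {G : Type*} [Group G] [Finite G] {F : Type*} [Field F] [Fintype F]

/-- The torus `T`, the involution `a = f v`, the element `w` and the involution `e`. -/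
structure Torus (t : G) (f : PS F →* G) (T : Subgroup G) (a w e : G) : Prop where
  card : 4 * Nat.card T = Fintype.card F + 1
  comm : ∀ k ∈ T, ∀ l ∈ T, k * l = l * k
  commT : ∀ k ∈ T, k * t = t * k
  commA : ∀ k ∈ T, k * a = a * k
  a_sq : a * a = 1
  a_ne : a ≠ 1
  a_ne_t : a ≠ t
  a_comm : a * t = t * a
  a_conj : IsConj t a
  cent : ∀ k ∈ T, k ≠ 1 → ∀ g : G, g * t = t * g → g * k = k * g →
    ∃ l ∈ T, g = l ∨ g = t * l ∨ g = a * l ∨ g = t * a * l
  fusion : ∀ k ∈ T, ∀ l ∈ T, IsConj (t * k) (t * l) → l = k ∨ l = k⁻¹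
  card_inverters : ∀ k ∈ T, k ≠ 1 →
    Nat.card {s : G // s * s = 1 ∧ s ≠ 1 ∧ s * t = t * s ∧ s * k * s⁻¹ = k⁻¹} = Fintype.card F + 1
  e_sq : e * e = 1
  e_comm : e * t = t * e
  e_inv : ∀ k ∈ T, e * k * e⁻¹ = k⁻¹
  w_three : w ^ 3 = 1
  w_ne : w ≠ 1
  w_t : w * t * w⁻¹ = a
  w_a : w * a * w⁻¹ = t * a
  w_ta : w * (t * a) * w⁻¹ = t
  w_T : ∀ k ∈ T, w * k * w⁻¹ ∈ T
  e_w : e * w = w * e
  invol : ∀ s : G, s * s = 1 → s ≠ 1 → IsConj t s

variable {t : G} {f : PS F →* G} (D : Data t f)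
include D

theorem Data.exists_torus :
    ∃ (T : Subgroup G) (a w e : G), Torus t f T a w e ∧
      ∃ (g : G) (m : PS F), (∃ k, orderOf m = 3 ^ k) ∧ g * w * g⁻¹ = f m ∧ g * e * g⁻¹ = t := by
  classical
  obtain ⟨v, u, m, n, hv, huu, hu1, huv, huvc, hm, hue, w1, w2, w3, hall⟩ := D.exists_config
  obtain ⟨hCv, A, hAC, hAcyc, hAcard, hvA, hout, hcentA⟩ := PSL.involution_centralizer D.h4 hv
  obtain ⟨h8, -, -, -⟩ := D.q_facts
  set n1 := (Fintype.card F + 1) / 4 with hn1
  have hq : Fintype.card F + 1 = 4 * n1 := by omega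
  have hn1odd : Odd n1 := Nat.odd_iff.2 (by omega)
  have hA2 : Nat.card A = 2 * n1 := by omega
  obtain ⟨⟨a0, ha0⟩, hgen⟩ := hAcyc.exists_generator
  have hord : orderOf a0 = 2 * n1 := by
    rw [← hA2, ← Subgroup.orderOf_mk a0 ha0]
    exact orderOf_eq_card_of_forall_mem_zpowers hgen
  have hmem : ∀ x ∈ A, ∃ i : ℕ, a0 ^ i = x := by
    intro x hx
    obtain ⟨i, hi⟩ := mem_zpowers_iff.1 (hgen ⟨x, hx⟩)
    refine ⟨(i % (orderOf a0 : ℤ)).toNat, ?_⟩
    rw [← zpow_natCast, Int.toNat_of_nonneg (Int.emod_nonneg _ (by exact_mod_cast (orderOf_pos a0).ne')),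
      zpow_mod_orderOf]
    exact congrArg Subtype.val hi
  have hv2 : v * v = 1 := sq_one_of_orderOf_two hv
  have hv1 : v ≠ 1 := ne_one_of_orderOf_two hv
  have hinvA : ∀ x ∈ A, x * x = 1 → x = 1 ∨ x = a0 ^ n1 := by
    intro x hx hxx
    obtain ⟨i, rfl⟩ := hmem x hx
    rw [← pow_add, ← orderOf_dvd_iff_pow_eq_one, hord] at hxx
    obtain ⟨c, hc⟩ : n1 ∣ i := Nat.dvd_of_mul_dvd_mul_left two_pos (by rwa [two_mul i])
    rcases Nat.even_or_odd c with ⟨d, rfl⟩ | ⟨d, rfl⟩
    · left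
      rw [hc, ← orderOf_dvd_iff_pow_eq_one, hord]
      exact ⟨d, by ring⟩
    · right
      rw [hc, show n1 * (2 * d + 1) = 2 * n1 * d + n1 by ring, pow_add, pow_mul, ← hord,
        pow_orderOf_eq_one, one_pow, one_mul]
  have hva : v = a0 ^ n1 := (hinvA v hvA hv2).resolve_left hv1
  set b := a0 * a0 with hb
  have hbA : b ∈ A := mul_mem ha0 ha0
  have hbord : orderOf b = n1 := by
    rw [hb, ← sq, orderOf_pow_of_dvd two_ne_zero (hord ▸ dvd_mul_right 2 n1), hord]
    omega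
  have hsplit : ∀ x ∈ A, ∃ y ∈ zpowers b, x = y ∨ x = v * y := by
    intro x hx
    obtain ⟨i, rfl⟩ := hmem x hx
    rcases Nat.even_or_odd i with ⟨d, rfl⟩ | ⟨d, rfl⟩
    · exact ⟨b ^ d, pow_mem (mem_zpowers b) d, Or.inl (by rw [hb, ← sq, ← pow_mul]; ring_nf)⟩
    · obtain ⟨r, hr⟩ := hn1odd
      refine ⟨b ^ (d + r + 1), pow_mem (mem_zpowers b) _, Or.inr ?_⟩
      rw [hva, hb, ← sq, ← pow_mul, ← pow_add,
        show n1 + 2 * (d + r + 1) = 2 * n1 + (2 * d + 1) by omega, pow_add a0 (2 * n1), ← hord,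
        pow_orderOf_eq_one, one_mul]
  have hodd : ∀ y ∈ zpowers b, y ^ n1 = 1 := by
    intro y hy
    obtain ⟨i, rfl⟩ := mem_zpowers_iff.1 hy
    rw [← zpow_natCast, ← zpow_mul, mul_comm, zpow_mul, zpow_natCast, ← hbord, pow_orderOf_eq_one,
      one_zpow]
  have hb_char : ∀ x ∈ A, x ^ n1 = 1 → x ∈ zpowers b := by
    intro x hx hxn
    obtain ⟨y, hy, rfl | rfl⟩ := hsplit x hx
    · exact hy
    · exfalso
      obtain ⟨r, hr⟩ := hn1odd
      have hvy : Commute v y := by
        obtain ⟨i, rfl⟩ := hmem v hvA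
        obtain ⟨j, rfl⟩ := mem_zpowers_iff.1 hy
        exact ((Commute.refl a0).pow_left i |>.mul_right ((Commute.refl a0).pow_left i)).zpow_right j
      rw [hvy.mul_pow, hodd y hy, mul_one, hr, pow_succ, pow_mul, sq, hv2, one_pow, one_mul] at hxn
      exact hv1 hxn
  have hne_sq : ∀ y ∈ zpowers b, y ≠ 1 → y * y ≠ 1 := by
    intro y hy hy1 hyy
    apply hy1
    obtain ⟨r, hr⟩ := hn1odd
    have := hodd y hy
    rwa [hr, pow_succ, pow_mul, sq, hyy, one_pow, one_mul] at this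
  have hbA' : zpowers b ≤ A := zpowers_le.2 hbA
  have hcommA : ∀ x ∈ A, ∀ y ∈ A, x * y = y * x := fun x hx y hy => by
    obtain ⟨i, rfl⟩ := hmem x hx
    obtain ⟨j, rfl⟩ := hmem y hy
    exact ((Commute.refl a0).pow_pow i j).eq
  -- an element moving a regular element of `A` into `A` centralizes `v`
  have hnorm : ∀ h k : PS F, k ∈ A → k * k ≠ 1 → h * k * h⁻¹ ∈ A →
      h ∈ centralizer ({v} : Set (PS F)) := by
    intro h k hk hkk hhk
    have hkk' : (h * k * h⁻¹) * (h * k * h⁻¹) ≠ 1 := fun e => hkk (by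
      have e' : (h * k * h⁻¹) * (h * k * h⁻¹) = h * (k * k) * h⁻¹ := by group
      rw [e', mul_inv_eq_one, mul_eq_left] at e
      exact e)
    have hvA' : h * v * h⁻¹ ∈ A := hcentA _ hhk hkk' _ (by
      calc h * v * h⁻¹ * (h * k * h⁻¹) * (h * v * h⁻¹)⁻¹ = h * (v * k * v⁻¹) * h⁻¹ := by group
        _ = h * k * h⁻¹ := by rw [hcommA v hvA k hk, mul_inv_cancel_right])
    rw [mem_centralizer_singleton_iff, ← mul_inv_eq_iff_eq_mul, hva]
    rw [hva] at hvA'
    refine ((hinvA _ hvA' ?_)).resolve_left fun e => hv1 ?_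
    · rw [conj_mul, ← hva, hv2]; group
    · rw [mul_inv_eq_one, mul_eq_left] at e
      rw [hva, e]
  have hu : u ∈ centralizer ({v} : Set (PS F)) := mem_centralizer_singleton_iff.2 huvc
  have huA : u ∉ A := fun h => by
    rcases hinvA u h huu with e | e
    · exact hu1 e
    · exact huv (e.trans hva.symm)
  have hufv : f u * f v = f v * f u := by rw [← map_mul, ← map_mul, huvc]
  set w := n * f m * n⁻¹ with hw
  set e := n * t * n⁻¹ with he
  have hTmem : ∀ g, g ∈ (zpowers b).map f ↔ ∃ y ∈ zpowers b, f y = g := fun g => Iff.rfl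
  have hwa : w⁻¹ * t * w = t * f v := by
    conv_lhs => rw [← w3]
    group
  have hwv : w⁻¹ * f v * w = t := by
    conv_lhs => rw [← w1]
    group
  refine ⟨(zpowers b).map f, f v, w, e, ?_, n⁻¹, m, ⟨1, hm⟩, by rw [hw]; group, by rw [he]; group⟩
  have hw3 : w ^ 3 = 1 := by
    rw [hw, conj_pow, ← map_pow, ← hm, pow_orderOf_eq_one, map_one]
    group
  refine ⟨?_, ?_, ?_, ?_, by rw [← map_mul, hv2, map_one], fun h => hv1 (D.inj (h.trans (map_one f).symm)),
    D.ne v, (D.comm v).symm, isConj_iff.2 ⟨w, w1⟩, ?_, ?_, ?_, ?_, ?_, ?_, hw3, ?_, w1, w2, w3, ?_, ?_, hall⟩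
  · rw [← Nat.card_congr (equivMapOfInjective _ f D.inj).toEquiv, Nat.card_zpowers, hbord]
    omega
  · rintro _ ⟨x, hx, rfl⟩ _ ⟨y, hy, rfl⟩
    rw [← map_mul, ← map_mul, hcommA x (hbA' hx) y (hbA' hy)]
  · rintro _ ⟨x, -, rfl⟩
    exact (D.comm x).symm
  · rintro _ ⟨x, hx, rfl⟩
    rw [← map_mul, ← map_mul, hcommA x (hbA' hx) v hvA]
  · rintro _ ⟨x, hx, rfl⟩ hx1 g hgt hgk
    have hxx : x * x ≠ 1 := hne_sq x hx fun e => hx1 (by rw [e, map_one])
    obtain ⟨k, hk⟩ := D.decomp g hgt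
    have hkx : k * x = x * k := by
      apply D.inj
      rw [map_mul, map_mul]
      rcases hk with rfl | rfl
      · exact hgk
      · rw [mul_assoc, ← mul_assoc (f x), ← D.comm, mul_assoc] at hgk
        exact mul_left_cancel hgk
    obtain ⟨y, hy, h | h⟩ := hsplit k (hcentA x (hbA' hx) hxx k (mul_inv_eq_iff_eq_mul.2 hkx)) <;>
      refine ⟨f y, mem_map_of_mem f hy, ?_⟩ <;> subst h <;> rcases hk with rfl | rfl
    · exact Or.inl rfl
    · exact Or.inr (Or.inl rfl)
    · exact Or.inr (Or.inr (Or.inl (map_mul f v y)))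
    · exact Or.inr (Or.inr (Or.inr (by rw [map_mul, mul_assoc])))
  · rintro _ ⟨x, hx, rfl⟩ _ ⟨y, hy, rfl⟩ hc
    obtain ⟨g, hg⟩ := isConj_iff.1 hc
    have hpow : ∀ z ∈ zpowers b, (t * f z) ^ n1 = t := by
      intro z hz
      obtain ⟨r, hr⟩ := hn1odd
      rw [(show Commute t (f z) from D.comm z).mul_pow, ← map_pow, hodd z hz, map_one, mul_one, hr,
        pow_succ, pow_mul, sq, D.sq_t, one_pow, one_mul]
    have hgt : g * t * g⁻¹ = t := by
      have h := congrArg (· ^ n1) hg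
      simp only [conj_pow, hpow x hx, hpow y hy] at h
      exact h
    have hgk : g * f x * g⁻¹ = f y := by
      have h' : (g * t * g⁻¹) * (g * f x * g⁻¹) = t * f y := by rw [← hg]; group
      rw [hgt] at h'
      exact mul_left_cancel h'
    obtain ⟨k, hk⟩ := D.decomp g (mul_inv_eq_iff_eq_mul.1 hgt)
    have hkx : k * x * k⁻¹ = y := by
      apply D.inj
      rw [map_mul, map_mul, map_inv, ← hgk]
      rcases hk with rfl | rfl
      · rfl
      · calc f k * f x * (f k)⁻¹ = t * (f k * f x * (f k)⁻¹) * t⁻¹ := by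
              rw [← map_inv, ← map_mul, ← map_mul, D.comm, mul_inv_cancel_right]
          _ = t * f k * f x * (t * f k)⁻¹ := by group
    by_cases hx1 : x = 1
    · left
      rw [← hkx, hx1]
      simp
    have hk := hnorm k x (hbA' hx) (hne_sq x hx hx1) (hkx ▸ hbA' hy)
    by_cases hkA : k ∈ A
    · left
      rw [← hkx, hcommA k hkA x (hbA' hx), mul_inv_cancel_right]
    · right
      rw [← hkx, (hout k hk hkA).2 x (hbA' hx), map_inv]
  · rintro _ ⟨x, hx, rfl⟩ hx1
    have hxx : x * x ≠ 1 := hne_sq x hx fun e => hx1 (by rw [e, map_one])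
    have hcardX : Nat.card {h : PS F // h ∈ centralizer ({v} : Set (PS F)) ∧ h ∉ A} = 2 * n1 := by
      have h1 := hCv
      rw [← SetLike.coe_sort_coe, Nat.card_coe_set_eq] at h1
      have h2 := hA2
      rw [← SetLike.coe_sort_coe, Nat.card_coe_set_eq] at h2
      have h3 : Nat.card {h : PS F // h ∈ centralizer ({v} : Set (PS F)) ∧ h ∉ A} =
          ((centralizer ({v} : Set (PS F)) : Set (PS F)) \ (A : Set (PS F))).ncard :=
        Nat.card_coe_set_eq _
      rw [h3, Set.ncard_sdiff (SetLike.coe_subset_coe.2 hAC), h1, h2]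
      omega
    rw [show Fintype.card F + 1 = 2 * n1 + 2 * n1 by omega, ← hcardX, ← Nat.card_sum]
    have hh : ∀ h : {h : PS F // h ∈ centralizer ({v} : Set (PS F)) ∧ h ∉ A},
        (h : PS F) * h = 1 ∧ f h * f x * (f h)⁻¹ = (f x)⁻¹ := fun h => by
      obtain ⟨h1, h2⟩ := hout h h.2.1 h.2.2
      exact ⟨h1, by rw [← map_inv, ← map_inv, ← map_mul, ← map_mul, h2 x (hbA' hx)]⟩
    have hsq1 : ∀ h : {h : PS F // h ∈ centralizer ({v} : Set (PS F)) ∧ h ∉ A},
        f (h : PS F) * f h = 1 := fun h => by rw [← map_mul, (hh h).1, map_one]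
    refine (Nat.card_eq_of_bijective (Sum.elim
      (fun h : {h : PS F // h ∈ centralizer ({v} : Set (PS F)) ∧ h ∉ A} =>
        (⟨f (h : PS F), hsq1 h,
          fun e => h.2.2 ((D.inj (e.trans (map_one f).symm)).symm ▸ one_mem A),
          (D.comm _).symm, (hh h).2⟩ :
        {s : G // s * s = 1 ∧ s ≠ 1 ∧ s * t = t * s ∧ s * f x * s⁻¹ = (f x)⁻¹}))
      (fun h : {h : PS F // h ∈ centralizer ({v} : Set (PS F)) ∧ h ∉ A} =>
        ⟨t * f (h : PS F), by
          rw [mul_assoc, ← mul_assoc (f _), ← D.comm, ← mul_assoc, ← mul_assoc, D.sq_t, one_mul,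
            hsq1 h],
          D.t_f_ne _, by rw [mul_assoc, ← D.comm], by
          calc t * f (h : PS F) * f x * (t * f (h : PS F))⁻¹ =
              t * (f (h : PS F) * f x * (f (h : PS F))⁻¹) * t⁻¹ := by group
            _ = (f x)⁻¹ := by rw [(hh h).2, ← map_inv, D.comm, mul_inv_cancel_right]⟩)) ⟨?_, ?_⟩).symm
    · rintro (a | a) (b | b) h <;> replace h := congrArg Subtype.val h <;>
        simp only [Sum.elim_inl, Sum.elim_inr] at h
      · exact congrArg Sum.inl (Subtype.ext (D.inj h))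
      · exact absurd h D.eq_of_f_eq_t_f
      · exact absurd h.symm D.eq_of_f_eq_t_f
      · exact congrArg Sum.inr (Subtype.ext (D.inj (mul_left_cancel h)))
    · rintro ⟨s, hss, hs1, hst, hsk⟩
      obtain ⟨k, hk⟩ := D.decomp s hst
      have hkx : k * x * k⁻¹ = x⁻¹ := by
        apply D.inj
        rw [map_mul, map_mul, map_inv, map_inv, ← hsk]
        rcases hk with rfl | rfl
        · rfl
        · calc f k * f x * (f k)⁻¹ = t * (f k * f x * (f k)⁻¹) * t⁻¹ := by
                rw [← map_inv, ← map_mul, ← map_mul, D.comm, mul_inv_cancel_right]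
            _ = t * f k * f x * (t * f k)⁻¹ := by group
      have hkC := hnorm k x (hbA' hx) hxx (hkx ▸ inv_mem (hbA' hx))
      have hkA : k ∉ A := fun h => hxx (by
        rw [hcommA k h x (hbA' hx), mul_inv_cancel_right] at hkx
        exact mul_eq_one_iff_eq_inv.2 hkx)
      rcases hk with rfl | rfl
      · exact ⟨Sum.inl ⟨k, hkC, hkA⟩, rfl⟩
      · exact ⟨Sum.inr ⟨k, hkC, hkA⟩, rfl⟩
  · rw [he, conj_mul, D.sq_t]; group
  · rcases hue with h | h <;> rw [h]
    · exact (D.comm u).symm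
    · rw [mul_assoc, ← D.comm]
  · rintro _ ⟨x, hx, rfl⟩
    have hfu : f u * f x * (f u)⁻¹ = (f x)⁻¹ := by
      rw [← map_inv, ← map_inv, ← map_mul, ← map_mul, (hout u hu huA).2 x (hbA' hx)]
    rcases hue with h | h <;> rw [h]
    · exact hfu
    · calc t * f u * f x * (t * f u)⁻¹ = t * (f u * f x * (f u)⁻¹) * t⁻¹ := by group
        _ = _ := by rw [hfu, ← map_inv, D.comm, mul_inv_cancel_right]
  · intro e'
    rw [e', one_mul, inv_one, mul_one] at w1
    exact D.ne v w1.symm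
  · rintro _ ⟨x, hx, rfl⟩
    have hfxv : f x * f v = f v * f x := by rw [← map_mul, ← map_mul, hcommA x (hbA' hx) v hvA]
    have hct : (w * f x * w⁻¹) * t = t * (w * f x * w⁻¹) := by
      have h := hwa
      calc (w * f x * w⁻¹) * t = w * (f x * (w⁻¹ * t * w)) * w⁻¹ := by group
        _ = w * ((t * f v) * f x) * w⁻¹ := by
          rw [h, show f x * (t * f v) = t * f v * f x by
            rw [← mul_assoc, ← D.comm, mul_assoc, hfxv, mul_assoc]]
        _ = t * (w * f x * w⁻¹) := by rw [← h]; group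
    have hcv : (w * f x * w⁻¹) * f v = f v * (w * f x * w⁻¹) := by
      calc (w * f x * w⁻¹) * f v = w * (f x * (w⁻¹ * f v * w)) * w⁻¹ := by group
        _ = w * (t * f x) * w⁻¹ := by rw [hwv, ← D.comm]
        _ = f v * (w * f x * w⁻¹) := by rw [← hwv]; group
    obtain ⟨k, hk⟩ := D.decomp _ hct
    have hpw : (w * f x * w⁻¹) ^ n1 = 1 := by rw [conj_pow, ← map_pow, hodd x hx, map_one]; group
    have hkv : k * v = v * k := by
      apply D.inj
      rw [map_mul, map_mul]
      rcases hk with h | h <;> rw [h] at hcv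
      · exact hcv
      · rw [mul_assoc, ← mul_assoc (f v), ← D.comm, mul_assoc] at hcv
        exact mul_left_cancel hcv
    obtain ⟨r, hr⟩ := hn1odd
    rcases hk with h | h
    · rw [h, ← map_pow, ← map_one f] at hpw
      rw [h]
      refine mem_map_of_mem f (hb_char k ?_ (D.inj hpw))
      by_contra hkA
      have hkk := (hout k (mem_centralizer_singleton_iff.2 hkv) hkA).1
      have hk1 := D.inj hpw
      rw [hr, pow_succ, pow_mul, sq, hkk, one_pow, one_mul] at hk1
      exact hkA (hk1 ▸ one_mem A)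
    · exfalso
      rw [h, (show Commute t (f k) from D.comm k).mul_pow, hr, pow_succ t, pow_mul, sq, D.sq_t,
        one_pow, one_mul, ← map_pow] at hpw
      exact D.t_f_ne _ hpw
  · have hcm : Commute t (f m) := D.comm m
    calc e * w = n * (t * f m) * n⁻¹ := by rw [he, hw]; group
      _ = n * (f m * t) * n⁻¹ := by rw [hcm.eq]
      _ = w * e := by rw [he, hw]; group

end CfsgLib.Goldschmidt.Ree
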