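import Cfsg.Agent.Lib.Goldschmidt.Families
import Cfsg.Agent.Lib.SylowU3.Model

/-!
Sections isomorphic to `S₃` and `S₄` in `PSU₃(2ⁿ)`.
-/

set_option autoImplicit false
set_option linter.style.haveILetI false

namespace CfsgLib.Goldschmidt

open Matrix Cfsg CfsgLib.SylowU3

/-- The double transpositions and the identity. -/
def klein : Subgroup (Equiv.Perm (Fin 4)) where
  carrier := {g | g = 1 ∨ g = Equiv.swap 0 1 * Equiv.swap 2 3 ∨
    g = Equiv.swap 0 2 * Equiv.swap 1 3 ∨ g = Equiv.swap 0 3 * Equiv.swap 1 2}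
  one_mem' := Or.inl rfl
  mul_mem' := by
    rintro _ _ (rfl | rfl | rfl | rfl) (rfl | rfl | rfl | rfl) <;>
      simp only [Set.mem_setOf_eq] <;> decide
  inv_mem' := by
    rintro _ (rfl | rfl | rfl | rfl) <;> simp only [Set.mem_setOf_eq] <;> decide

instance : DecidablePred (· ∈ klein) := fun g =>
  decidable_of_iff (g = 1 ∨ g = Equiv.swap 0 1 * Equiv.swap 2 3 ∨
    g = Equiv.swap 0 2 * Equiv.swap 1 3 ∨ g = Equiv.swap 0 3 * Equiv.swap 1 2) Iff.rfl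

theorem klein_normal : klein.Normal :=
  ⟨by decide⟩

theorem card_klein : Nat.card klein = 4 := by
  rw [Nat.card_eq_fintype_card]; decide

set_option maxRecDepth 8000 in
theorem klein_cosets : ∀ a b : Equiv.Perm (Fin 4), Equiv.swap 0 1 * a ∈ klein →
    Equiv.swap 1 2 * b ∈ klein → (a * b) ^ 3 = 1 ∧ a * b ≠ 1 := by
  decide

theorem exists_two_part {G : Type*} [Group G] [Finite G] (g : G) :
    ∃ m : ℕ, Odd m ∧ ∃ k : ℕ, orderOf (g ^ m) = 2 ^ k := by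
  obtain ⟨k, m, hm, hg⟩ := Nat.exists_eq_pow_mul_and_not_dvd (orderOf_pos g).ne' 2 (by norm_num)
  refine ⟨m, Nat.odd_iff.2 (by omega), k, ?_⟩
  have hm0 : m ≠ 0 := fun e => hm (e ▸ dvd_zero 2)
  rw [orderOf_pow_of_dvd hm0 (hg ▸ Dvd.intro_left _ rfl), hg,
    Nat.mul_div_cancel _ (Nat.pos_of_ne_zero hm0)]

/-- If the 2-elements of every 2-local are closed under products there is no section `S₄`. -/
theorem not_involves_four_of_local {G : Type*} [Group G] [Finite G]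
    (hloc : ∀ T : Subgroup G, IsPGroup 2 T → T ≠ ⊥ → ∀ a ∈ Subgroup.normalizer (T : Set G),
      ∀ b ∈ Subgroup.normalizer (T : Set G), (∃ i, orderOf a = 2 ^ i) → (∃ i, orderOf b = 2 ^ i) →
      ∃ i, orderOf (a * b) = 2 ^ i) :
    ¬ Involves (Equiv.Perm (Fin 4)) G := by
  intro h
  obtain ⟨K, f, hf⟩ := CfsgLib.LocalEven.exists_surjective_of_involves h
  haveI : Fact (Nat.Prime 2) := ⟨Nat.prime_two⟩
  haveI := klein_normal
  set L : Subgroup K := klein.comap f with hL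
  obtain ⟨T⟩ := (inferInstance : Nonempty (Sylow 2 L))
  set T' : Subgroup K := (T : Subgroup L).map L.subtype with hT'
  have hfr : Subgroup.normalizer (T' : Set K) ⊔ L = ⊤ := Sylow.normalizer_sup_eq_top T
  have hT1 : (T : Subgroup L) ≠ ⊥ := by
    intro e
    have h4 : 4 ∣ Nat.card L := by
      rw [← card_klein]
      refine Subgroup.card_dvd_of_surjective ((f.comp L.subtype).codRestrict klein fun x => x.2) ?_
      rintro ⟨v, hv⟩
      obtain ⟨x, rfl⟩ := hf v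
      exact ⟨⟨x, hv⟩, rfl⟩
    have := T.dvd_card_of_dvd_card ((by norm_num : 2 ∣ 4).trans h4)
    rw [e, Subgroup.card_bot] at this
    norm_num at this
  have key : ∀ s : Equiv.Perm (Fin 4), s * s = 1 → ∃ a ∈ Subgroup.normalizer (T' : Set K),
      (∃ i, orderOf a = 2 ^ i) ∧ s * f a ∈ klein := by
    intro s hs
    obtain ⟨x, hx⟩ := hf s
    have hx' : x ∈ ((Subgroup.normalizer (T' : Set K) ⊔ L : Subgroup K) : Set K) := by
      rw [hfr]; trivial
    rw [Subgroup.mul_normal] at hx'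
    obtain ⟨n, hn, l, hl, rfl⟩ := Set.mem_mul.1 hx'
    obtain ⟨m, ⟨j, rfl⟩, hi⟩ := exists_two_part n
    refine ⟨n ^ (2 * j + 1), pow_mem hn _, hi, ?_⟩
    rw [map_pow, ← QuotientGroup.eq_one_iff (N := klein)]
    have hl' : ((f l : Equiv.Perm (Fin 4)) : Equiv.Perm (Fin 4) ⧸ klein) = 1 :=
      (QuotientGroup.eq_one_iff _).2 hl
    have hnx : ((f n : Equiv.Perm (Fin 4)) : Equiv.Perm (Fin 4) ⧸ klein) = (s : Equiv.Perm (Fin 4) ⧸ klein) := by
      rw [← hx, map_mul, QuotientGroup.mk_mul, hl', mul_one]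
    rw [QuotientGroup.mk_mul, QuotientGroup.mk_pow, hnx, ← QuotientGroup.mk_pow,
      ← QuotientGroup.mk_mul, pow_succ, pow_mul, pow_two, hs, one_pow, one_mul, hs]
    exact QuotientGroup.mk_one _
  obtain ⟨a, ha, hai, hac⟩ := key (Equiv.swap 0 1) (by decide)
  obtain ⟨b, hb, hbi, hbc⟩ := key (Equiv.swap 1 2) (by decide)
  have hN : ∀ x ∈ Subgroup.normalizer (T' : Set K),
      (x : G) ∈ Subgroup.normalizer ((T'.map K.subtype : Subgroup G) : Set G) := fun x hx =>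
    Subgroup.le_normalizer_map K.subtype ⟨x, hx, rfl⟩
  have hTp : IsPGroup 2 (T'.map K.subtype) := (T.2.map L.subtype).map K.subtype
  obtain ⟨i, hi⟩ := hloc _ hTp (fun e => hT1 (by
      rw [Subgroup.map_eq_bot_iff_of_injective _ K.subtype_injective, hT',
        Subgroup.map_eq_bot_iff_of_injective _ L.subtype_injective] at e
      exact e))
    _ (hN a ha) _ (hN b hb) (by simpa [Subgroup.orderOf_coe] using hai)
    (by simpa [Subgroup.orderOf_coe] using hbi)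
  rw [← Subgroup.coe_mul, Subgroup.orderOf_coe] at hi
  obtain ⟨h3, h1⟩ := klein_cosets (f a) (f b) hac hbc
  rw [← map_mul] at h3 h1
  exact h1 (orderOf_eq_one_iff.1 (Nat.eq_one_of_dvd_coprimes (Nat.Coprime.pow_left i (by norm_num : Nat.Coprime 2 3))
    (hi ▸ orderOf_map_dvd f (a * b)) (orderOf_dvd_of_pow_eq_one h3)))

variable {F : Type*} [Field F] {s : F →+* F} {q : ℕ} {a : F}

theorem mem_uSyl_of_two (hF : UField F s q) (ha : a + s a = 1) (hs : ∀ x, s x = x ^ q)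
    {N : SpecialLinearGroup (Fin 3) F} (hN : N ∈ uK a q) {k : ℕ} (hk : N ^ (2 ^ k) = 1)
    {t : SpecialLinearGroup (Fin 3) F} (ht : t ∈ uSyl hF) (ht2 : t * t = 1) (ht1 : t ≠ 1)
    (hconj : N * t * N⁻¹ ∈ uSyl hF) : N ∈ uSyl hF := by
  have key : ∀ {g : SpecialLinearGroup (Fin 3) F}, g ∈ uSyl hF → g * g = 1 → g ≠ 1 →
      ∃ y, y ≠ 0 ∧ g = uM s 0 y := by
    rintro g ⟨z, y, -, rfl⟩ h2 h1
    rw [uM_mul hF] at h2
    have h02 := congrArg (fun g : SpecialLinearGroup (Fin 3) F => (g : Matrix (Fin 3) (Fin 3) F) 0 2) h2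
    simp [coe_one3, hF.two] at h02
    obtain rfl : z = 0 := h02
    refine ⟨y, fun e => h1 ?_, rfl⟩
    subst e
    ext i j; fin_cases i <;> fin_cases j <;> simp [coe_one3]
  obtain ⟨y, hy, rfl⟩ := key ht ht2 ht1
  obtain ⟨y', hy', hcd⟩ := key hconj
    (by rw [conj_mul, ht2, mul_one, mul_inv_cancel]) (by rwa [Ne, conj_eq_one_iff])
  have hm : (N : Matrix (Fin 3) (Fin 3) F) * (uM s 0 y : SpecialLinearGroup (Fin 3) F) =
      ((uM s 0 y' : SpecialLinearGroup (Fin 3) F) : Matrix (Fin 3) (Fin 3) F) * N := by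
    rw [← coe_mul3, ← coe_mul3, ← hcd, inv_mul_cancel_right]
  have e00 := congrFun (congrFun hm 0) 0
  have e01 := congrFun (congrFun hm 0) 1
  have e12 := congrFun (congrFun hm 1) 2
  simp [Matrix.mul_apply, Fin.sum_univ_three, hy, hy'] at e00 e01 e12
  set M := (N : Matrix (Fin 3) (Fin 3) F) with hM
  have hpow : ∀ j : ℕ, (M ^ j) 0 0 = M 0 0 ^ j ∧ (M ^ j) 1 1 = M 1 1 ^ j ∧ (M ^ j) 2 2 = M 2 2 ^ j ∧
      (M ^ j) 1 0 = 0 ∧ (M ^ j) 2 0 = 0 ∧ (M ^ j) 2 1 = 0 := by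
    intro j
    induction j with
    | zero => simp
    | succ j ih =>
      obtain ⟨i1, i2, i3, i4, i5, i6⟩ := ih
      simp [pow_succ, Matrix.mul_apply, Fin.sum_univ_three, i1, i2, i3, i4, i5, i6, e00, e01, e12]
  have hone : M ^ (2 ^ k) = 1 := by rw [hM, ← coe_pow3, hk, coe_one3]
  obtain ⟨d0, d1, d2, -, -, -⟩ := hpow (2 ^ k)
  rw [hone] at d0 d1 d2
  simp at d0 d1 d2
  have f0 := eq_one_of_pow_two_pow hF d0.symm
  have f1 := eq_one_of_pow_two_pow hF d1.symm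
  have f2 := eq_one_of_pow_two_pow hF d2.symm
  have hpres := (mem_uK_iff hF ha hs N).mp hN
  rw [← hM] at hpres
  have p12 := congrFun (congrFun hpres 1) 2
  have p22 := congrFun (congrFun hpres 2) 2
  simp [uJ, Matrix.mul_apply, Fin.sum_univ_three, e00, e01, f1, f2] at p12 p22
  have h01 : M 0 1 = s (M 1 2) := by
    linear_combination p12 - hF.two (s (M 1 2))
  refine ⟨M 1 2, M 0 2, ?_, ?_⟩
  · linear_combination p22 - hF.two (M 1 2 * s (M 1 2))
  · ext i j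
    fin_cases i <;> fin_cases j <;> simp [← hM, e00, e01, e12, f0, f1, f2, h01]

theorem exists_involution {G : Type*} [Group G] [Finite G] {T : Subgroup G} (hT : IsPGroup 2 T)
    (h1 : T ≠ ⊥) : ∃ t ∈ T, t * t = 1 ∧ t ≠ 1 := by
  haveI : Fact (Nat.Prime 2) := ⟨Nat.prime_two⟩
  obtain ⟨t, ht⟩ := exists_prime_orderOf_dvd_card' (G := T) 2 (by
    obtain ⟨n, hn⟩ := IsPGroup.iff_card.1 hT
    rw [hn]
    refine dvd_pow_self 2 fun e => h1 (Subgroup.card_eq_one.1 (by rw [hn, e, pow_zero])))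
  rw [orderOf_eq_prime_iff] at ht
  exact ⟨t, t.2, by simpa [pow_two] using congrArg Subtype.val ht.1,
    fun e => ht.2 (Subtype.ext e)⟩

theorem not_involves_four_uK [Finite F] (hF : UField F s q) (ha : a + s a = 1)
    (hs : ∀ x, s x = x ^ q) : ¬ Involves (Equiv.Perm (Fin 4)) ↥(uK a q) := by
  haveI : Fact (Nat.Prime 2) := ⟨Nat.prime_two⟩
  let W : Subgroup ↥(uK a q) := (uSyl hF).subgroupOf (uK a q)
  have hWp : IsPGroup 2 W := fun x => ⟨2, by
    obtain ⟨z, y, -, hx⟩ := x.2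
    have h1 : (x : ↥(uK a q)).1 * (x : ↥(uK a q)).1 * ((x : ↥(uK a q)).1 * (x : ↥(uK a q)).1) = 1 := by
      rw [show (x : ↥(uK a q)).1 = uM s z y from hx, uM_mul hF, uM_mul hF]
      ext i j
      fin_cases i <;> fin_cases j <;> simp [coe_one3, hF.two, map_add]
    refine Subtype.ext (Subtype.ext ?_)
    simp only [Subgroup.coe_pow, OneMemClass.coe_one]
    rw [show (2 : ℕ) ^ 2 = 2 * 2 from rfl, pow_mul, sq, sq, h1]⟩
  have hone : uM s 0 (1 : F) ∈ uSyl hF := ⟨0, 1, by simp [hF.two], rfl⟩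
  have hWmax : ∀ {P : Subgroup ↥(uK a q)}, IsPGroup 2 P → W ≤ P → P = W := by
    intro Q hQ hWQ
    by_contra hne
    have hlt : W.subgroupOf Q < ⊤ := by
      rw [lt_top_iff_ne_top, Ne, Subgroup.subgroupOf_eq_top]
      exact fun h => hne (le_antisymm h hWQ)
    haveI := hQ.isNilpotent
    obtain ⟨g, hg, hgW⟩ := SetLike.exists_of_lt (Group.normalizerCondition_of_isNilpotent _ hlt)
    apply hgW
    obtain ⟨k, hk⟩ := hQ g
    refine mem_uSyl_of_normalize hF ha hs (N := ((g : ↥(uK a q)) : SpecialLinearGroup (Fin 3) F))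
      (g : ↥(uK a q)).2 (k := k) ?_ ?_
    · have := congrArg (fun x : ↥Q => ((x : ↥(uK a q)) : SpecialLinearGroup (Fin 3) F)) hk
      simpa using this
    · exact (Subgroup.mem_normalizer_iff.mp hg
        ⟨⟨_, uSyl_le_uK hF ha hs hone⟩, hWQ (show _ ∈ uSyl hF from hone)⟩).mp hone
  let S : Sylow 2 ↥(uK a q) := ⟨W, hWp, fun hQ hWQ => hWmax hQ hWQ⟩
  refine not_involves_four_of_local fun T hT hT1 x hx y hy hxi hyi => ?_
  obtain ⟨P, hP⟩ := hT.exists_le_sylow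
  obtain ⟨g, hg⟩ := MulAction.exists_smul_eq ↥(uK a q) P S
  have hconj : ∀ u ∈ T, g * u * g⁻¹ ∈ W := fun u hu => by
    have : g * u * g⁻¹ ∈ ((S : Sylow 2 ↥(uK a q)) : Subgroup ↥(uK a q)) := by
      rw [← hg]; exact ⟨u, hP hu, rfl⟩
    exact this
  obtain ⟨t, htT, ht2, ht1⟩ := exists_involution hT hT1
  have key : ∀ x ∈ Subgroup.normalizer (T : Set ↥(uK a q)), (∃ i, orderOf x = 2 ^ i) →
      g * x * g⁻¹ ∈ W := by
    rintro x hx ⟨i, hi⟩
    have hu : g * (x * t * x⁻¹) * g⁻¹ ∈ W := hconj _ ((Subgroup.mem_normalizer_iff.1 hx t).1 htT)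
    rw [show g * (x * t * x⁻¹) * g⁻¹ = g * x * g⁻¹ * (g * t * g⁻¹) * (g * x * g⁻¹)⁻¹ by group] at hu
    refine mem_uSyl_of_two hF ha hs (g * x * g⁻¹).2 (k := i) ?_ (hconj t htT) ?_ ?_ hu
    · have : (g * x * g⁻¹) ^ (2 ^ i) = 1 := by rw [conj_pow, ← hi, pow_orderOf_eq_one]; group
      simpa using congrArg Subtype.val this
    · have : g * t * g⁻¹ * (g * t * g⁻¹) = 1 := by rw [conj_mul, ht2]; group
      simpa using congrArg Subtype.val this
    · intro e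
      exact ht1 (conj_eq_one_iff.1 (Subtype.ext e : g * t * g⁻¹ = 1))
  have hm : g * (x * y) * g⁻¹ ∈ W := by
    rw [← conj_mul]
    exact mul_mem (key x hx hxi) (key y hy hyi)
  obtain ⟨i, hi⟩ := IsPGroup.iff_orderOf.1 hWp ⟨_, hm⟩
  exact ⟨i, ((MulAut.conj g).orderOf_eq (x * y)).symm.trans
    ((Subgroup.orderOf_coe (⟨_, hm⟩ : W)).trans hi)⟩

variable [Fintype F]

theorem not_involves_four_psu (n : ℕ) (hF : Fintype.card F = (2 ^ n) ^ 2) :
    ¬ Involves (Equiv.Perm (Fin 4)) (PSU 3 F (2 ^ n)) := by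
  intro h
  obtain ⟨s, hs, hU⟩ := exists_frob n hF
  obtain ⟨a, ha⟩ := hU.trace
  refine not_involves_four_uK hU ha hs (involves_congr
    ((MulAut.conj (uB a)⁻¹).subgroupMap (Cfsg.SU 3 F (2 ^ n))).symm ?_)
  obtain ⟨K, f, hf⟩ := CfsgLib.LocalEven.exists_surjective_of_involves h
  refine CfsgLib.LocalEven.involves_of_surjective (K.comap (QuotientGroup.mk' _))
    (f.comp ((QuotientGroup.mk' (Subgroup.center ↥(Cfsg.SU 3 F (2 ^ n)))).subgroupComap K)) (hf.comp ?_)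
  intro k
  obtain ⟨x, hx⟩ := QuotientGroup.mk'_surjective (Subgroup.center ↥(Cfsg.SU 3 F (2 ^ n))) k.1
  exact ⟨⟨x, by simp [hx]⟩, Subtype.ext hx⟩

theorem involves_three_psu (n : ℕ) (hF : Fintype.card F = (2 ^ n) ^ 2) :
    Involves (Equiv.Perm (Fin 3)) (PSU 3 F (2 ^ n)) := by
  obtain ⟨s, hs, hU⟩ := exists_frob n hF
  let x : SpecialLinearGroup (Fin 3) F := ⟨!![0, 1, 0; 1, 0, 0; 0, 0, 1], by
    rw [det_fin_three]; simp; exact neg_eq_of_add_eq_zero_left (hU.two 1)⟩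
  let y : SpecialLinearGroup (Fin 3) F := ⟨!![0, 1, 0; 0, 0, 1; 1, 0, 0], by
    rw [det_fin_three]; simp⟩
  have hX : (x : Matrix (Fin 3) (Fin 3) F) = !![0, 1, 0; 1, 0, 0; 0, 0, 1] := rfl
  have hY : (y : Matrix (Fin 3) (Fin 3) F) = !![0, 1, 0; 0, 0, 1; 1, 0, 0] := rfl
  have hx : x ∈ Cfsg.SU 3 F (2 ^ n) := (mem_SU3_iff s _ hs x).2 (by
    ext i j; fin_cases i <;> fin_cases j <;> simp [x, Matrix.mul_apply, Fin.sum_univ_three])
  have hy : y ∈ Cfsg.SU 3 F (2 ^ n) := (mem_SU3_iff s _ hs y).2 (by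
    ext i j; fin_cases i <;> fin_cases j <;> simp [y, Matrix.mul_apply, Fin.sum_univ_three])
  set π := QuotientGroup.mk' (Subgroup.center ↥(Cfsg.SU 3 F (2 ^ n))) with hπ
  have hxx : (⟨x, hx⟩ : ↥(Cfsg.SU 3 F (2 ^ n))) * ⟨x, hx⟩ = 1 := by
    refine Subtype.ext (Subtype.ext ?_)
    ext i j; fin_cases i <;> fin_cases j <;> simp [hX, Subgroup.coe_mul, coe_mul3, coe_one3, Matrix.mul_apply, Fin.sum_univ_three]
  have hyyy : (⟨y, hy⟩ : ↥(Cfsg.SU 3 F (2 ^ n))) * ⟨y, hy⟩ * ⟨y, hy⟩ = 1 := by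
    refine Subtype.ext (Subtype.ext ?_)
    ext i j; fin_cases i <;> fin_cases j <;> simp [hY, Subgroup.coe_mul, coe_mul3, coe_one3, Matrix.mul_apply, Fin.sum_univ_three]
  have hxy : (⟨x, hx⟩ : ↥(Cfsg.SU 3 F (2 ^ n))) * ⟨y, hy⟩ * (⟨x, hx⟩ * ⟨y, hy⟩) = 1 := by
    refine Subtype.ext (Subtype.ext ?_)
    ext i j; fin_cases i <;> fin_cases j <;> simp [hX, hY, Subgroup.coe_mul, coe_mul3, coe_one3, Matrix.mul_apply, Fin.sum_univ_three]
  refine involves_three_iff.2 ⟨π ⟨x, hx⟩, π ⟨y, hy⟩, ?_, ?_, ?_, ?_⟩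
  · obtain ⟨k, -, hk⟩ := (Nat.dvd_prime_pow Nat.prime_two).1
      (orderOf_dvd_of_pow_eq_one (n := 2 ^ 1) (x := π ⟨x, hx⟩)
        (by rw [pow_one, pow_two, ← map_mul, hxx, map_one]))
    exact ⟨k, hk⟩
  · obtain ⟨k, -, hk⟩ := (Nat.dvd_prime_pow Nat.prime_three).1
      (orderOf_dvd_of_pow_eq_one (n := 3 ^ 1) (x := π ⟨y, hy⟩)
        (by rw [pow_one, ← map_pow, pow_succ, pow_two, hyyy, map_one]))
    exact ⟨k, hk⟩
  · intro e
    have hc := Subgroup.mem_center_iff.1 ((QuotientGroup.eq_one_iff _).1 e) ⟨x, hx⟩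
    have := congrArg (fun w : ↥(Cfsg.SU 3 F (2 ^ n)) =>
      ((w : SpecialLinearGroup (Fin 3) F) : Matrix (Fin 3) (Fin 3) F) 0 0) hc
    simp [hX, hY, Subgroup.coe_mul, coe_mul3, coe_one3, Matrix.mul_apply, Fin.sum_univ_three] at this
  · have h1 : π ⟨x, hx⟩ * π ⟨x, hx⟩ = 1 := by rw [← map_mul, hxx, map_one]
    have h2 : π ⟨x, hx⟩ * π ⟨y, hy⟩ * (π ⟨x, hx⟩ * π ⟨y, hy⟩) = 1 := by
      rw [← map_mul, ← map_mul, hxy, map_one]
    rw [inv_eq_of_mul_eq_one_right h1]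
    exact eq_inv_of_mul_eq_one_left (by rw [← h2]; group)

end CfsgLib.Goldschmidt
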